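import Mathlib
import Cfsg.Agent.H64.Cross

/-!
# Perfect central extensions in cross characteristic: bounds with multiplicities

* `RkB p b P`: the kernel of every central extension of `P`, of order prime to `p` and generated by `p`-elements, has
  order dividing `b`.
* `RkB.of_noCE`: `b = 1`, from `NoCE p r P` for all primes `r ≠ p`.
* `RkB.of_surj`: `P` a quotient of `P'` by a central subgroup of order `d` prime to `p`, `RkB p 1 P'`; then
  `RkB p d P`.
* `card_ker_mul_dvd`: the bound `|ker π| * |T| ∣ ∏ b i * |T ∩ Lv X i|`.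
-/

set_option autoImplicit false
set_option linter.style.haveILetI false

namespace Cfsg.Agent.H48.CrossB

open CoxeterSystem Cfsg.Agent.ChevalleyStructure.CoxeterGeom Cfsg.Agent.Tits.Roots
  Cfsg.Agent.Nodes.Reps Cfsg.Agent.Nodes.BNOf Cfsg.Agent.Nodes.RGDLib Cfsg.Agent.Nodes.RGDLift
  Cfsg.Agent.KFacts.MulOdd.Inst Cfsg.Agent.KFacts.MulOdd.Shrink Cfsg.Agent.KFacts.MulOdd.Main
  Cfsg.Agent.H67 Cfsg.Agent.H67.Cross Cfsg.Agent.H51.Mult Cfsg.Agent.H64.Cross
open scoped commutatorElement Pointwise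

universe u v

/-- The kernels of central extensions of order prime to `p` generated by `p`-elements have order dividing `b`. -/
def RkB (p b : ℕ) (P : Type v) [Group P] : Prop :=
  ∀ (H : Type) [Group H] [Finite H] (f : H →* P), Function.Surjective f → f.ker ≤ Subgroup.center H →
    (Nat.card f.ker).Coprime p → Subgroup.closure {x : H | ∃ k : ℕ, x ^ p ^ k = 1} = ⊤ → Nat.card f.ker ∣ b

theorem RkB.mono {p b b' : ℕ} {P : Type v} [Group P] (h : RkB p b P) (hb : b ∣ b') : RkB p b' P :=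
  fun H _ _ f h1 h2 h3 h4 => (h H f h1 h2 h3 h4).trans hb

theorem RkB.congr {p b : ℕ} {P : Type u} {Q : Type v} [Group P] [Group Q] (h : RkB p b P) (e : P ≃* Q) : RkB p b Q := by
  intro H _ _ f h1 h2 h3 h4
  have hk : (e.symm.toMonoidHom.comp f).ker = f.ker := ker_congr f e.symm
  rw [← hk] at h2 h3 ⊢
  exact h H _ (e.symm.surjective.comp h1) h2 h3 h4

/-- Quotients of prime order of central extensions. -/
theorem RkB.of_noCE {p : ℕ} {P : Type v} [Group P] (h : ∀ r : ℕ, r.Prime → r ≠ p → NoCE p r P) : RkB p 1 P := by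
  intro H _ _ f hfs hkc hcop hgen
  rw [Nat.dvd_one]
  by_contra hne
  obtain ⟨r, hr, hrd⟩ := Nat.exists_prime_and_dvd hne
  have hrp : r ≠ p := by
    rintro rfl
    exact hr.one_lt.ne' (Nat.Coprime.eq_one_of_dvd (hcop.symm) hrd)
  have hcomm : ∀ a b : f.ker, a * b = b * a := fun a b =>
    Subtype.ext (Subgroup.mem_center_iff.1 (hkc b.2) a.1)
  obtain ⟨B, hB⟩ := exists_index_eq hcomm hr hrd
  set N : Subgroup H := B.map f.ker.subtype with hN
  have hNle : N ≤ f.ker := Subgroup.map_subtype_le B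
  haveI : N.Normal := normal_of_le_center (hNle.trans hkc)
  let q := QuotientGroup.mk' N
  have hq : Function.Surjective q := QuotientGroup.mk'_surjective N
  let ρ : H ⧸ N →* P := QuotientGroup.lift N f hNle
  have hρ : ∀ y, ρ (q y) = f y := fun _ => rfl
  have hρs : Function.Surjective ρ := by
    intro y
    obtain ⟨x, rfl⟩ := hfs y
    exact ⟨q x, rfl⟩
  have hcardρ : Nat.card ρ.ker = r := by
    have hc := card_ker_of_quot (π := f) (q := q) hq hρ
    have hB' : Nat.card q.ker = Nat.card B := by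
      rw [show q.ker = N from QuotientGroup.ker_mk' N]
      exact Nat.card_congr (B.equivMapOfInjective f.ker.subtype f.ker.subtype_injective).symm.toEquiv
    have hB2 := B.card_mul_index
    rw [hB] at hB2
    have hBpos : 0 < Nat.card B := Nat.card_pos
    rw [hB', ← hB2, mul_comm] at hc
    exact (Nat.eq_of_mul_eq_mul_right hBpos hc).symm
  haveI : Fact r.Prime := ⟨hr⟩
  obtain ⟨⟨c, hc⟩, hcne⟩ : ∃ c : ρ.ker, c ≠ 1 := by
    by_contra hcon
    push Not at hcon
    have : Nat.card ρ.ker = 1 := by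
      rw [Nat.card_eq_one_iff_unique]
      exact ⟨⟨fun a b => by rw [hcon a, hcon b]⟩, ⟨1⟩⟩
    rw [hcardρ] at this
    exact hr.one_lt.ne' this
  have hc1 : c ≠ 1 := fun h0 => hcne (Subtype.ext h0)
  have hcr : c ^ r = 1 := by
    have h1 : (⟨c, hc⟩ : ρ.ker) ^ Nat.card ρ.ker = 1 := pow_card_eq_one'
    rw [hcardρ] at h1
    exact congrArg Subtype.val h1
  have hzk : Subgroup.zpowers c = ρ.ker := by
    refine Subgroup.eq_of_le_of_card_ge (by rw [Subgroup.zpowers_le]; exact hc) ?_
    rw [hcardρ, Nat.card_zpowers, orderOf_eq_prime hcr hc1]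
  have hρcen : ∀ z ∈ ρ.ker, ∀ y, z * y = y * z := by
    intro z hz y
    obtain ⟨z, rfl⟩ := hq z
    obtain ⟨y, rfl⟩ := hq y
    have h1 : z ∈ f.ker := hz
    rw [← map_mul, ← map_mul, Subgroup.mem_center_iff.1 (hkc h1) y]
  have hgen' : Subgroup.closure {x : H ⧸ N | ∃ k : ℕ, x ^ p ^ k = 1} = ⊤ := by
    rw [eq_top_iff]
    have h1 : (⊤ : Subgroup (H ⧸ N)) = (⊤ : Subgroup H).map q := (Subgroup.map_top_of_surjective q hq).symm
    rw [h1, ← hgen, MonoidHom.map_closure]
    apply Subgroup.closure_mono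
    rintro _ ⟨y, ⟨k, hk⟩, rfl⟩
    exact ⟨k, by rw [← map_pow, hk, map_one]⟩
  exact h r hr hrp (H ⧸ N) ρ c hρs hc1 hcr (hρcen c hc) (fun y => by rw [hzk]; rfl) hgen'

/-- Lifting `p`-elements through a central extension with kernel of order prime to `p`. -/
theorem lift_pElement {p : ℕ} {H P : Type*} [Group H] [Group P] {f : H →* P} (hs : Function.Surjective f)
    (hc : f.ker ≤ Subgroup.center H) (hcop : (Nat.card f.ker).Coprime p) [Finite f.ker] {y : P} {k : ℕ}
    (hy : y ^ p ^ k = 1) : ∃ x : H, f x = y ∧ x ^ p ^ k = 1 := by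
  obtain ⟨x, rfl⟩ := hs y
  have h1 : x ^ p ^ k ∈ f.ker := by rw [MonoidHom.mem_ker, map_pow, hy]
  have h2 : (Nat.card f.ker).Coprime (p ^ k) := Nat.Coprime.pow_right k hcop
  obtain ⟨z, hz⟩ := (powCoprime h2).surjective ⟨x ^ p ^ k, h1⟩
  have hz' : (z : H) ^ p ^ k = x ^ p ^ k := congrArg Subtype.val hz
  have hcz : Commute x (z : H)⁻¹ := (show Commute x (z : H) from Subgroup.mem_center_iff.1 (hc z.2) x).inv_right
  refine ⟨x * (z : H)⁻¹, ?_, ?_⟩
  · rw [map_mul, map_inv, MonoidHom.mem_ker.1 z.2, inv_one, mul_one]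
  · rw [hcz.mul_pow, inv_pow, hz', mul_inv_cancel]

/-- `RkB` in any universe -/
theorem RkB.any {p b : ℕ} {P : Type v} [Group P] (h : RkB p b P) {H : Type u} [Group H] [Finite H] (f : H →* P)
    (hs : Function.Surjective f) (hc : f.ker ≤ Subgroup.center H) (hcop : (Nat.card f.ker).Coprime p)
    (hgen : Subgroup.closure {x : H | ∃ k : ℕ, x ^ p ^ k = 1} = ⊤) : Nat.card f.ker ∣ b := by
  have : Small.{0} H := by
    obtain ⟨n, ⟨e⟩⟩ := Finite.exists_equiv_fin H
    exact small_map e
  let e : Shrink.{0} H ≃* H := Shrink.mulEquiv (α := H)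
  have : Finite (Shrink.{0} H) := Finite.of_equiv H e.symm.toEquiv
  have hk : Nat.card (f.comp e.toMonoidHom).ker = Nat.card f.ker := Nat.card_congr (kerEquiv f e).toEquiv
  rw [← hk] at hcop ⊢
  refine h _ _ (hs.comp e.surjective) ?_ hcop ?_
  · intro x hx
    rw [Subgroup.mem_center_iff]
    intro y
    apply e.injective
    rw [map_mul, map_mul]
    exact Subgroup.mem_center_iff.1 (hc (show f (e x) = 1 from hx)) (e y)
  · have h1 : (⊤ : Subgroup (Shrink.{0} H)) = (⊤ : Subgroup H).map e.symm.toMonoidHom :=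
      (Subgroup.map_top_of_surjective _ e.symm.surjective).symm
    rw [h1, ← hgen, MonoidHom.map_closure]
    congr 1
    ext x
    constructor
    · rintro ⟨k, hk⟩
      exact ⟨e x, ⟨k, by rw [← map_pow, hk, map_one]⟩, e.symm_apply_apply x⟩
    · rintro ⟨y, ⟨k, hk⟩, rfl⟩
      exact ⟨k, by rw [← map_pow, hk, map_one]⟩

/-- **Quotients by central subgroups.** -/
theorem RkB.of_surj {p : ℕ} {P' : Type u} {P : Type v} [Group P'] [Finite P'] [Group P] (h : RkB p 1 P')
    (g : P' →* P) (hg : Function.Surjective g) (hgc : g.ker ≤ Subgroup.center P')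
    (hgcop : (Nat.card g.ker).Coprime p) (hgen' : Subgroup.closure {x : P' | ∃ k : ℕ, x ^ p ^ k = 1} = ⊤) :
    RkB p (Nat.card g.ker) P := by
  intro H _ _ f hf hfc hfcop hgen
  -- the fibre product
  let D : Subgroup (H × P') :=
    { carrier := {x | f x.1 = g x.2}
      one_mem' := by show f 1 = g 1; rw [map_one, map_one]
      mul_mem' := by
        intro x y hx hy
        show f (x.1 * y.1) = g (x.2 * y.2)
        rw [map_mul, map_mul, show f x.1 = g x.2 from hx, show f y.1 = g y.2 from hy]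
      inv_mem' := by
        intro x hx
        show f x.1⁻¹ = g x.2⁻¹
        rw [map_inv, map_inv, show f x.1 = g x.2 from hx] }
  let K : Subgroup (H × P') := Subgroup.closure {x : H × P' | x ∈ D ∧ ∃ k : ℕ, x ^ p ^ k = 1}
  have hKD : K ≤ D := by
    rw [Subgroup.closure_le]
    rintro x ⟨hx, -⟩
    exact hx
  have hpow : ∀ (a : H) (b : P') (k l : ℕ), a ^ p ^ k = 1 → b ^ p ^ l = 1 → f a = g b → (a, b) ∈ K := by
    intro a b k l ha hb hab
    refine Subgroup.subset_closure ⟨hab, k + l, ?_⟩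
    apply Prod.ext
    · show a ^ p ^ (k + l) = 1
      rw [pow_add, pow_mul, ha, one_pow]
    · show b ^ p ^ (k + l) = 1
      rw [add_comm, pow_add, pow_mul, hb, one_pow]
  let p1 : K →* H := (MonoidHom.fst H P').comp K.subtype
  let p2 : K →* P' := (MonoidHom.snd H P').comp K.subtype
  have s1 : Function.Surjective p1 := by
    rw [← MonoidHom.range_eq_top, eq_top_iff, ← hgen, Subgroup.closure_le]
    rintro a ⟨k, ha⟩
    obtain ⟨b, hb, hb1⟩ := lift_pElement (y := f a) (k := k) hg hgc hgcop (by rw [← map_pow, ha, map_one])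
    exact ⟨⟨(a, b), hpow a b k k ha hb1 hb.symm⟩, rfl⟩
  have s2 : Function.Surjective p2 := by
    rw [← MonoidHom.range_eq_top, eq_top_iff, ← hgen', Subgroup.closure_le]
    rintro b ⟨k, hb⟩
    obtain ⟨a, ha, ha1⟩ := lift_pElement (y := g b) (k := k) hf hfc hfcop (by rw [← map_pow, hb, map_one])
    exact ⟨⟨(a, b), hpow a b k k ha1 hb ha⟩, rfl⟩
  have hk2 : p2.ker ≤ Subgroup.center K := by
    intro x hx
    have hx2 : x.1.2 = 1 := hx
    have hx1 : f x.1.1 = 1 := by
      have h1 : f x.1.1 = g x.1.2 := hKD x.2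
      rw [h1, hx2, map_one]
    rw [Subgroup.mem_center_iff]
    intro y
    apply Subtype.ext
    apply Prod.ext
    · exact Subgroup.mem_center_iff.1 (hfc hx1) y.1.1
    · show y.1.2 * x.1.2 = x.1.2 * y.1.2
      rw [hx2, mul_one, one_mul]
  have hd2 : Nat.card p2.ker ∣ Nat.card f.ker := by
    let e : p2.ker →* f.ker :=
      { toFun := fun x => ⟨x.1.1.1, by
          have hx2 : x.1.1.2 = 1 := x.2
          have h1 : f x.1.1.1 = g x.1.1.2 := hKD x.1.2
          rw [MonoidHom.mem_ker, h1, hx2, map_one]⟩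
        map_one' := rfl
        map_mul' := fun _ _ => rfl }
    refine Subgroup.card_dvd_of_injective e ?_
    intro x y hxy
    apply Subtype.ext
    apply Subtype.ext
    apply Prod.ext
    · exact congrArg Subtype.val hxy
    · exact (show x.1.1.2 = 1 from x.2).trans (show y.1.1.2 = 1 from y.2).symm
  have hKgen : Subgroup.closure {x : K | ∃ k : ℕ, x ^ p ^ k = 1} = ⊤ := by
    have h1 : K ≤ (Subgroup.closure {x : K | ∃ k : ℕ, x ^ p ^ k = 1}).map K.subtype := by
      conv_lhs => unfold K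
      rw [Subgroup.closure_le]
      rintro x ⟨hx, k, hk⟩
      exact ⟨⟨x, Subgroup.subset_closure ⟨hx, k, hk⟩⟩, Subgroup.subset_closure ⟨k, Subtype.ext hk⟩, rfl⟩
    rw [eq_top_iff]
    intro x _
    obtain ⟨y, hy, hyx⟩ := h1 x.2
    have : y = x := Subtype.ext hyx
    rwa [← this]
  have hc2 := h.any p2 s2 hk2 (Nat.Coprime.coprime_dvd_left hd2 hfcop) hKgen
  have hc2' : Nat.card p2.ker = 1 := Nat.dvd_one.1 hc2
  -- orders
  have e2 : Nat.card K = Nat.card P' := by
    have h1 := Subgroup.card_eq_card_quotient_mul_card_subgroup p2.ker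
    rw [Nat.card_congr (QuotientGroup.quotientKerEquivOfSurjective p2 s2).toEquiv, hc2', mul_one] at h1
    exact h1
  have e1 : Nat.card H ∣ Nat.card P' := by
    rw [← e2]
    exact Subgroup.card_dvd_of_surjective p1 s1
  haveI : Finite P := Finite.of_surjective g hg
  have e3 : Nat.card P' = Nat.card P * Nat.card g.ker := by
    have h1 := Subgroup.card_eq_card_quotient_mul_card_subgroup g.ker
    rwa [Nat.card_congr (QuotientGroup.quotientKerEquivOfSurjective g hg).toEquiv] at h1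
  have e4 : Nat.card H = Nat.card P * Nat.card f.ker := by
    have h1 := Subgroup.card_eq_card_quotient_mul_card_subgroup f.ker
    rwa [Nat.card_congr (QuotientGroup.quotientKerEquivOfSurjective f hf).toEquiv] at h1
  rw [e3, e4] at e1
  exact Nat.dvd_of_mul_dvd_mul_left Nat.card_pos e1

variable {I W G L : Type*} [Fintype I] [DecidableEq I] [Group W] [Finite W] [Group G] {L : Type} [Group L] [Finite L]
  {M : CoxeterMatrix I} {cs : CoxeterSystem M W} {A : I → I → ℤ} {h : IsCartan M A} {p : ℕ} {T : Subgroup G}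
  {n : I → G} {X : (I → ℤ) → Subgroup G} {π : L →* G}

/-- The rank one subgroups of the extension. -/
theorem card_inf_ker_dvd (hp' : p.Prime) (hd : PCE π) (hp : (Nat.card π.ker).Coprime p) (R : RGD cs h p T n X)
    {b : I → ℕ} (rk : ∀ i, RkB p (b i) ↥(Lv X i)) (i : I) (S : Subgroup L)
    (hS : S ≤ Lv (fun x => lft p π (X x)) i) (hSπ : S ≤ π.ker) : Nat.card S ∣ b i := by
  classical
  haveI : Fact p.Prime := ⟨hp'⟩
  have hf := hd.cen
  have hP1 := R.pgrp i
  have hP2 := R.pgrp' (isRoot_sr cs h i).neg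
  set H : Subgroup L := Lv (fun x => lft p π (X x)) i with hH
  have hmap : H.map π = Lv X i := by
    rw [hH]
    unfold Lv
    rw [Subgroup.map_sup, map_lft hf hp hd.surj hP1, map_lft hf hp hd.surj hP2]
  have hmem : ∀ y : H, π y ∈ Lv X i := by
    intro y
    rw [← hmap]
    exact Subgroup.mem_map_of_mem π y.2
  let f : H →* ↥(Lv X i) := (π.comp H.subtype).codRestrict (Lv X i) hmem
  have hf1 : ∀ y : H, f y = 1 ↔ π (y : L) = 1 := by
    intro y
    rw [← Subtype.coe_inj]; rfl
  have hfs : Function.Surjective f := by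
    rintro ⟨y, hy⟩
    rw [← hmap] at hy
    obtain ⟨x, hx, hxy⟩ := hy
    exact ⟨⟨x, hx⟩, Subtype.ext hxy⟩
  have hgen : Subgroup.closure {x : H | ∃ k : ℕ, x ^ p ^ k = 1} = ⊤ := by
    set K := Subgroup.closure {x : H | ∃ k : ℕ, x ^ p ^ k = 1} with hK
    have h1 : ∀ P : Subgroup G, lft p π P ≤ H → lft p π P ≤ K.map H.subtype := by
      intro P hP
      conv_lhs => unfold lft
      rw [Subgroup.closure_le]
      rintro y ⟨hy, k, hk⟩
      have hyH : y ∈ H := hP (Subgroup.subset_closure ⟨hy, k, hk⟩)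
      exact ⟨⟨y, hyH⟩, Subgroup.subset_closure ⟨k, Subtype.ext hk⟩, rfl⟩
    have h2 : H ≤ K.map H.subtype := sup_le (h1 _ le_sup_left) (h1 _ le_sup_right)
    rw [eq_top_iff]
    intro x _
    obtain ⟨z, hz, hzx⟩ := h2 x.2
    have : z = x := Subtype.ext hzx
    rwa [← this]
  have hkc : f.ker ≤ Subgroup.center H := by
    intro y hy
    rw [Subgroup.mem_center_iff]
    intro g
    exact Subtype.ext (hd.comm ((hf1 y).1 hy) g).symm
  have hdvd : Nat.card f.ker ∣ Nat.card π.ker := by
    let g : f.ker →* π.ker :=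
      { toFun := fun y => ⟨((y : H) : L), (hf1 y.1).1 y.2⟩
        map_one' := rfl
        map_mul' := fun _ _ => rfl }
    exact Subgroup.card_dvd_of_injective g fun a b hab =>
      Subtype.ext (Subtype.ext (congrArg (fun z : π.ker => (z : L)) hab))
  have h1 := rk i H f hfs hkc (Nat.Coprime.coprime_dvd_left hdvd hp) hgen
  refine dvd_trans ?_ h1
  let g : S →* f.ker :=
    { toFun := fun y => ⟨⟨y, hS y.2⟩, (hf1 _).2 (hSπ y.2)⟩
      map_one' := rfl
      map_mul' := fun _ _ => rfl }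
  exact Subgroup.card_dvd_of_injective g fun a b hab =>
    Subtype.ext (congrArg (fun z : f.ker => ((z : H) : L)) hab)

/-- **The bound for the kernel** of a perfect central extension in cross characteristic. -/
theorem card_ker_mul_dvd (hp' : p.Prime) (hd : PCE π) (hp : (Nat.card π.ker).Coprime p) (R : RGD cs h p T n X)
    (gen : G1 cs h X = ⊤) {b : I → ℕ} (rk : ∀ i, RkB p (b i) ↥(Lv X i)) :
    Nat.card π.ker * Nat.card T ∣ ∏ i, (b i * Nat.card ↥(T ⊓ Lv X i)) := by
  haveI : Fact p.Prime := ⟨hp'⟩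
  have hf := hd.cen
  obtain ⟨g, hg⟩ := hd.surj.hasRightInverse
  have R' := rgd_lift hf hp hd.surj R (n := fun i => g (n i)) (fun i => hg (n i))
  set T' : Subgroup L := T.comap π with hT'
  set X' : (I → ℤ) → Subgroup L := fun x => lft p π (X x) with hX'
  have hmapG : (G1 cs h X').map π = ⊤ := by
    rw [← gen]
    unfold G1 RGD.Sup
    rw [Subgroup.map_iSup]
    exact iSup_congr fun z => map_lft hf hp hd.surj (R.pgrp' z.2)
  have hG1 : G1 cs h X' = ⊤ := eq_top_of_pce hd hmapG
  have hle := torus_le R' hG1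
  have hcard1 : Nat.card T' ∣ ∏ i, Nat.card (Hv T' X' i) := by
    have h1 : ∀ i, ((Hv T' X' i).subgroupOf T').Normal := by
      intro i
      refine ⟨fun x hx t => ?_⟩
      rw [Subgroup.mem_subgroupOf] at hx ⊢
      refine Subgroup.mem_inf.2 ⟨(t * x * t⁻¹).2, ?_⟩
      have h2 := cj_t_Lv R' t.2 i
      have h3 : ((t * x * t⁻¹ : T') : L) ∈ cj (t : L) (Lv X' i) := conj_mem_cj.2 (Subgroup.mem_inf.1 hx).2
      rwa [h2] at h3
    have h2 : (⨆ i, (Hv T' X' i).subgroupOf T') = ⊤ := by
      rw [← iSup_subgroupOf (Hv T' X') (fun i => inf_le_left), Subgroup.subgroupOf_eq_top]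
      exact hle
    have h3 := card_iSup_dvd _ h1
    rw [h2, Subgroup.card_top] at h3
    refine h3.trans (dvd_of_eq (Finset.prod_congr rfl fun i _ => ?_))
    exact Nat.card_congr (Subgroup.subgroupOfEquivOfLe (inf_le_left)).toEquiv
  have hcard2 : ∀ i, Nat.card (Hv T' X' i) ∣ b i * Nat.card ↥(T ⊓ Lv X i) := by
    intro i
    have hmem : ∀ x : Hv T' X' i, π x ∈ T ⊓ Lv X i := by
      intro x
      refine Subgroup.mem_inf.2 ⟨(Subgroup.mem_inf.1 x.2).1, ?_⟩
      have h1 : (Lv X' i).map π = Lv X i := by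
        unfold Lv
        rw [Subgroup.map_sup, map_lft hf hp hd.surj (R.pgrp i),
          map_lft hf hp hd.surj (R.pgrp' (isRoot_sr cs h i).neg)]
      rw [← h1]
      exact Subgroup.mem_map_of_mem π (Subgroup.mem_inf.1 x.2).2
    haveI : Finite G := Finite.of_surjective π hd.surj
    let ρ : Hv T' X' i →* ↥(T ⊓ Lv X i) := (π.comp (Hv T' X' i).subtype).codRestrict (T ⊓ Lv X i) hmem
    have h1 := Subgroup.card_eq_card_quotient_mul_card_subgroup ρ.ker
    rw [Nat.card_congr (QuotientGroup.quotientKerEquivRange ρ).toEquiv] at h1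
    rw [h1, mul_comm]
    refine Nat.mul_dvd_mul ?_ (Subgroup.card_subgroup_dvd_card _)
    have h2 : Nat.card ρ.ker = Nat.card (ρ.ker.map (Hv T' X' i).subtype) :=
      Nat.card_congr (ρ.ker.equivMapOfInjective _ (Subgroup.subtype_injective _)).toEquiv
    rw [h2]
    refine card_inf_ker_dvd hp' hd hp R rk i _ ?_ ?_
    · rintro _ ⟨x, -, rfl⟩
      exact (Subgroup.mem_inf.1 x.2).2
    · rintro _ ⟨x, hx, rfl⟩
      exact congrArg (fun z : ↥(T ⊓ Lv X i) => (z : G)) hx
  have hcard3 : Nat.card T' = Nat.card π.ker * Nat.card T := by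
    let ρ : T' →* T := (π.comp T'.subtype).codRestrict T fun x => x.2
    have hρs : Function.Surjective ρ := by
      rintro ⟨t, ht⟩
      refine ⟨⟨g t, ?_⟩, Subtype.ext (hg t)⟩
      show π (g t) ∈ T
      rw [hg t]; exact ht
    have h1 := Subgroup.card_eq_card_quotient_mul_card_subgroup ρ.ker
    rw [Nat.card_congr (QuotientGroup.quotientKerEquivOfSurjective ρ hρs).toEquiv] at h1
    rw [h1, mul_comm]
    congr 1
    refine Nat.card_congr ⟨fun x => ⟨x.1.1, ?_⟩, fun x => ⟨⟨x.1, ?_⟩, ?_⟩, fun _ => rfl, fun _ => rfl⟩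
    · exact congrArg (fun z : T => (z : G)) x.2
    · show π x.1 ∈ T
      rw [MonoidHom.mem_ker.1 x.2]; exact one_mem T
    · exact Subtype.ext x.2
  rw [← hcard3]
  exact hcard1.trans (Finset.prod_dvd_prod_of_dvd _ _ fun i _ => hcard2 i)

end Cfsg.Agent.H48.CrossB
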