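import Mathlib
import Cfsg.Agent.H51.Mult
import Cfsg.Agent.CpQuot.Pairs

/-!
# Criteria for the `p`-part of the Schur multiplier, `p` odd

* `perfect_of_simple` : a simple group whose order is not a prime is perfect;
* `noCov_sq` : Sylow `p`-subgroup generated by two commuting elements, an element acting with determinant `≠ 1`;
* `noCov_extra` : `⟨a, b⟩` of index prime to `p`, `c = ⁅a, b⁆` central of order `p`, `a ^ p, b ^ p` in `⟨c⟩`,
  `t` inverting `a, b` modulo `⟨c⟩`.
-/

set_option autoImplicit false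
set_option linter.style.haveILetI false
set_option linter.unusedVariables false

namespace Cfsg.Agent.H48.Crit

open Subgroup
open scoped commutatorElement
open Cfsg.Agent.H51.Mult
open Cfsg.Agent.CpQuot

universe u v

theorem perfect_of_simple {X : Type v} [Group X] [IsSimpleGroup X] (h : ¬ (Nat.card X).Prime) : commutator X = ⊤ := by
  rcases (inferInstance : (commutator X).Normal).eq_bot_or_eq_top with h1 | h1
  · exfalso
    have hc : ∀ a b : X, a * b = b * a := by
      intro a b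
      have h2 : ⁅a, b⁆ ∈ commutator X := Subgroup.commutator_mem_commutator (Subgroup.mem_top a) (Subgroup.mem_top b)
      rw [h1, Subgroup.mem_bot] at h2
      exact commutatorElement_eq_one_iff_mul_comm.1 h2
    letI : CommGroup X := { (inferInstance : Group X) with mul_comm := hc }
    exact h IsSimpleGroup.prime_card
  · exact h1

/-- a prime dividing a number given with its list of prime factors -/
theorem prime_mem {l : List ℕ} (hl : ∀ q ∈ l, q.Prime) {n p : ℕ} (hn : l.prod = n) (hp : p.Prime) (hd : p ∣ n) :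
    p ∈ l := by
  subst hn
  obtain ⟨q, hq, hpq⟩ := (Prime.dvd_prod_iff hp.prime).1 hd
  rwa [(Nat.prime_dvd_prime_iff_eq hp (hl q hq)).1 hpq]

section

variable {K : Type u} {X : Type v} [Group K] [Group X]

theorem commute_center {x : K} (hx : x ∈ center K) (y : K) : x * y = y * x := (mem_center_iff.1 hx y).symm

/-- commutator with central factors removed -/
theorem comm_mul_center {z w : K} (hz : z ∈ center K) (hw : w ∈ center K) (x y : K) : ⁅z * x, w * y⁆ = ⁅x, y⁆ := by
  have h1 := commute_center hz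
  have h2 := commute_center hw
  have h3 := commute_center (inv_mem hz)
  simp only [commutatorElement_def, mul_inv_rev]
  calc z * x * (w * y) * (x⁻¹ * z⁻¹) * (y⁻¹ * w⁻¹)
      = z * (x * w) * y * x⁻¹ * (z⁻¹ * y⁻¹) * w⁻¹ := by group
    _ = z * (w * x) * y * x⁻¹ * (y⁻¹ * z⁻¹) * w⁻¹ := by rw [h2 x, h3 y⁻¹]
    _ = z * (w * (x * y * x⁻¹ * y⁻¹)) * (z⁻¹ * w⁻¹) := by group
    _ = z * (x * y * x⁻¹ * y⁻¹ * w) * (z⁻¹ * w⁻¹) := by rw [h2]
    _ = (z * (x * y * x⁻¹ * y⁻¹)) * w * (z⁻¹ * w⁻¹) := by group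
    _ = (x * y * x⁻¹ * y⁻¹ * z) * w * (z⁻¹ * w⁻¹) := by rw [h1]
    _ = x * y * x⁻¹ * y⁻¹ * (z * w * (z⁻¹ * w⁻¹)) := by group
    _ = x * y * x⁻¹ * y⁻¹ * (z * w * (w⁻¹ * z⁻¹)) := by rw [h3 w⁻¹]
    _ = x * y * x⁻¹ * y⁻¹ := by group

/-- `⁅x, y * w⁆ = ⁅x, y⁆` if `x` commutes with `w` -/
theorem comm_mul_of_comm {x y w : K} (h : x * w = w * x) : ⁅x, y * w⁆ = ⁅x, y⁆ := by
  simp only [commutatorElement_def, mul_inv_rev]
  have : w * x⁻¹ = x⁻¹ * w := by
    rw [eq_comm, inv_mul_eq_iff_eq_mul, ← mul_assoc, h, mul_inv_cancel_right]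
  calc x * (y * w) * x⁻¹ * (w⁻¹ * y⁻¹) = x * y * (w * x⁻¹) * w⁻¹ * y⁻¹ := by group
    _ = x * y * (x⁻¹ * w) * w⁻¹ * y⁻¹ := by rw [this]
    _ = x * y * x⁻¹ * y⁻¹ := by group

theorem comm_inv_right {x y : K} (h : ⁅x, y⁆ ∈ center K) : ⁅x, y⁻¹⁆ = ⁅x, y⁆⁻¹ := by
  have h1 : ⁅x, y⁻¹⁆ = y⁻¹ * ⁅x, y⁆⁻¹ * y := by
    simp only [commutatorElement_def]; group
  rw [h1, mul_assoc, commute_center (inv_mem h), ← mul_assoc, inv_mul_cancel, one_mul]

theorem mul_pow_class_two {x y c : K} (hc : c ∈ center K) (h : x * y = c * (y * x)) (m n : ℕ) :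
    x ^ m * y ^ n = c ^ (m * n) * (y ^ n * x ^ m) := by
  have hcc : ∀ (k : ℕ) (g : K), c ^ k * g = g * c ^ k := fun k g => commute_center (pow_mem hc k) g
  have h1 : ∀ m : ℕ, x ^ m * y = c ^ m * (y * x ^ m) := by
    intro m
    induction m with
    | zero => simp
    | succ m ih =>
      calc x ^ (m + 1) * y = x ^ m * (x * y) := by rw [pow_succ]; group
        _ = x ^ m * (c * (y * x)) := by rw [h]
        _ = (x ^ m * c ^ 1) * (y * x) := by rw [pow_one]; group
        _ = (c ^ 1 * x ^ m) * (y * x) := by rw [hcc 1]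
        _ = c * (x ^ m * y) * x := by rw [pow_one]; group
        _ = c * (c ^ m * (y * x ^ m)) * x := by rw [ih]
        _ = c ^ (m + 1) * (y * x ^ (m + 1)) := by rw [pow_succ' c, pow_succ x]; group
  induction n with
  | zero => simp
  | succ n ih =>
    calc x ^ m * y ^ (n + 1) = (x ^ m * y ^ n) * y := by rw [pow_succ]; group
      _ = c ^ (m * n) * (y ^ n * (x ^ m * y)) := by rw [ih]; group
      _ = c ^ (m * n) * (y ^ n * (c ^ m * (y * x ^ m))) := by rw [h1]
      _ = c ^ (m * n) * ((y ^ n * c ^ m) * (y * x ^ m)) := by group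
      _ = c ^ (m * n) * ((c ^ m * y ^ n) * (y * x ^ m)) := by rw [hcc m]
      _ = (c ^ (m * n) * c ^ m) * (y ^ n * y * x ^ m) := by group
      _ = c ^ (m * (n + 1)) * (y ^ (n + 1) * x ^ m) := by rw [← pow_add, mul_add, mul_one, pow_succ y]

/-- bilinearity: `(x^i y^j)(x^k y^l) = c^{i l - j k} (x^k y^l)(x^i y^j)` -/
theorem bilin {x y c : K} (hc : c ∈ center K) (h : x * y = c * (y * x)) (i j k l : ℕ) :
    c ^ (j * k) * ((x ^ i * y ^ j) * (x ^ k * y ^ l)) = c ^ (i * l) * ((x ^ k * y ^ l) * (x ^ i * y ^ j)) := by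
  have hcc : ∀ (k : ℕ) (g : K), c ^ k * g = g * c ^ k := fun k g => commute_center (pow_mem hc k) g
  have h1 := mul_pow_class_two hc h k j
  have h2 := mul_pow_class_two hc h i l
  calc c ^ (j * k) * ((x ^ i * y ^ j) * (x ^ k * y ^ l))
      = (c ^ (j * k) * x ^ i) * (y ^ j * x ^ k) * y ^ l := by group
    _ = (x ^ i * c ^ (j * k)) * (y ^ j * x ^ k) * y ^ l := by rw [hcc]
    _ = x ^ i * (c ^ (k * j) * (y ^ j * x ^ k)) * y ^ l := by rw [mul_comm k j]; group
    _ = x ^ i * (x ^ k * y ^ j) * y ^ l := by rw [← h1]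
    _ = x ^ k * (x ^ i * y ^ l) * y ^ j := by
        rw [← mul_assoc, ← pow_add, mul_assoc, ← pow_add, ← mul_assoc, ← pow_add, mul_assoc, ← pow_add,
          add_comm i k, add_comm j l]
    _ = x ^ k * (c ^ (i * l) * (y ^ l * x ^ i)) * y ^ j := by rw [h2]
    _ = (x ^ k * c ^ (i * l)) * (y ^ l * x ^ i * y ^ j) := by group
    _ = (c ^ (i * l) * x ^ k) * (y ^ l * x ^ i * y ^ j) := by rw [hcc]
    _ = c ^ (i * l) * ((x ^ k * y ^ l) * (x ^ i * y ^ j)) := by group

end

/-- a bound for the commutator subgroup from generators -/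
theorem commutator_le_of_gen {G : Type u} [Group G] [Finite G] {s : Set G} {C : Subgroup G}
    (hn : ∀ x ∈ s, ∀ c ∈ C, x * c * x⁻¹ ∈ C) (h : ∀ x ∈ s, ∀ y ∈ s, ⁅x, y⁆ ∈ C) :
    ⁅closure s, closure s⁆ ≤ C := by
  have hN : closure s ≤ normalizer (C : Set G) := by
    rw [closure_le]
    intro x hx
    have h1 : (MulAut.conj x).toMonoidHom '' (C : Set G) ⊆ C := by
      rintro _ ⟨c, hc, rfl⟩
      exact hn x hx c hc
    have h2 : (MulAut.conj x).toMonoidHom '' (C : Set G) = C := by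
      apply Set.Finite.eq_of_subset_of_encard_le (Set.toFinite _) h1
      rw [Function.Injective.encard_image]
      exact (MulAut.conj x).injective
    rw [SetLike.mem_coe, mem_normalizer_iff]
    intro c
    refine ⟨fun hc => hn x hx c hc, fun hc => ?_⟩
    have h3 : x * c * x⁻¹ ∈ (MulAut.conj x).toMonoidHom '' (C : Set G) := by rw [h2]; exact hc
    obtain ⟨d, hd, hdc⟩ := h3
    have h4 : x * d * x⁻¹ = x * c * x⁻¹ := hdc
    have : d = c := by simpa using h4
    rwa [← this]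
  have hc1 : ∀ x ∈ closure s, ∀ c ∈ C, x * c * x⁻¹ ∈ C := fun x hx c hc => (mem_normalizer_iff.1 (hN hx) c).1 hc
  have hc2 : ∀ x ∈ closure s, ∀ c ∈ C, x⁻¹ * c * x ∈ C := fun x hx c hc => by
    have := hc1 x⁻¹ (inv_mem hx) c hc
    rwa [inv_inv] at this
  have h2 : ∀ x ∈ s, ∀ y ∈ closure s, ⁅x, y⁆ ∈ C := by
    intro x hx y hy
    induction hy using closure_induction with
    | mem y hy => exact h x hx y hy
    | one => rw [commutatorElement_one_right]; exact one_mem _
    | mul y z hy hz h1 h2 =>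
      have e : ⁅x, y * z⁆ = ⁅x, y⁆ * (y * ⁅x, z⁆ * y⁻¹) := by simp only [commutatorElement_def]; group
      rw [e]
      exact mul_mem h1 (hc1 y hy _ h2)
    | inv y hy h1 =>
      have e : ⁅x, y⁻¹⁆ = y⁻¹ * ⁅x, y⁆⁻¹ * y := by simp only [commutatorElement_def]; group
      rw [e]
      exact hc2 y hy _ (inv_mem h1)
  rw [commutator_le]
  intro x hx y hy
  induction hx using closure_induction with
  | mem x hx => exact h2 x hx y hy
  | one => rw [commutatorElement_one_left]; exact one_mem _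
  | mul x z hx hz h1 h2 =>
    have e : ⁅x * z, y⁆ = (x * ⁅z, y⁆ * x⁻¹) * ⁅x, y⁆ := by simp only [commutatorElement_def]; group
    rw [e]
    exact mul_mem (hc1 x hx _ h2) h1
  | inv x hx h1 =>
    have e : ⁅x⁻¹, y⁆ = x⁻¹ * ⁅x, y⁆⁻¹ * x := by simp only [commutatorElement_def]; group
    rw [e]
    exact hc2 x hx _ (inv_mem h1)

/-- **The kernel is contained in every subgroup which contains the commutators of lifts of generators of a subgroup of
index prime to `p`, and is normalised by these lifts.** -/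
theorem ker_le {L : Type u} {X : Type v} [Group L] [Group X] [Finite L] {π : L →* X} (h : PCE π) {p : ℕ}
    (hp : p.Prime) (hP : IsPGroup p π.ker) {s : Set L} (hidx : ¬ p ∣ (closure (π '' s)).index) {C : Subgroup L}
    (hn : ∀ x ∈ s, ∀ c ∈ C, x * c * x⁻¹ ∈ C) (hs : ∀ x ∈ s, ∀ y ∈ s, ⁅x, y⁆ ∈ C) : π.ker ≤ C := by
  have hidx' : ((closure (π '' s)).comap π).index = (closure (π '' s)).index :=
    Subgroup.index_comap_of_surjective _ h.surj
  have hle : (closure (π '' s)).comap π ≤ closure (s ∪ (π.ker : Set L)) := by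
    intro q hq
    have hq' : π q ∈ (closure s).map π := by
      rw [MonoidHom.map_closure]
      exact hq
    obtain ⟨r, hr, hrq⟩ := hq'
    have h1 : r⁻¹ * q ∈ π.ker := by
      rw [MonoidHom.mem_ker, map_mul, map_inv, hrq, inv_mul_cancel]
    have h2 : q = r * (r⁻¹ * q) := by group
    rw [h2, Subgroup.closure_union]
    exact mul_mem (mem_sup_left hr) (mem_sup_right (subset_closure h1))
  have hcm : ∀ x ∈ π.ker, ∀ y : L, x * y = y * x := fun x hx y => commute_center (h.cen hx) y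
  apply Gas.le_of_commutator_le h.perf hp (Q := (closure (π '' s)).comap π) (by rwa [hidx']) h.cen hP
  · intro z hz
    rw [mem_comap, MonoidHom.mem_ker.1 hz]
    exact one_mem _
  · refine (Subgroup.commutator_mono hle hle).trans (commutator_le_of_gen ?_ ?_)
    · rintro x (hx | hx) c hc
      · exact hn x hx c hc
      · rw [hcm x hx, mul_inv_cancel_right]; exact hc
    · rintro x (hx | hx) y (hy | hy)
      · exact hs x hx y hy
      · rw [commutatorElement_eq_one_iff_mul_comm.2 (hcm y hy x).symm]; exact one_mem _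
      · rw [commutatorElement_eq_one_iff_mul_comm.2 (hcm x hx y)]; exact one_mem _
      · rw [commutatorElement_eq_one_iff_mul_comm.2 (hcm x hx y)]; exact one_mem _

/-- **Sylow subgroup of order `p ^ 2`**: two commuting elements and an element acting with determinant different
from one. -/
theorem noCov_sq {X : Type v} [Group X] {p : ℕ} (hp : p.Prime) {a b t : X} (hab : a * b = b * a) (ha : a ^ p = 1)
    {i j k l : ℕ} (hta : t * a * t⁻¹ = a ^ i * b ^ j) (htb : t * b * t⁻¹ = a ^ k * b ^ l)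
    (hdet : ¬ (p : ℤ) ∣ (i * l - j * k - 1)) (hidx : ¬ p ∣ (closure ({a, b} : Set X)).index) : NoCov p X := by
  intro L _ _ π h hcard
  have hP : IsPGroup p π.ker := IsPGroup.of_card (n := 1) (by rw [hcard, pow_one])
  obtain ⟨a, rfl⟩ := h.surj a
  obtain ⟨b, rfl⟩ := h.surj b
  obtain ⟨t, rfl⟩ := h.surj t
  have hc := Pairs.comm_mem_center h.cen hab
  have hcp := Pairs.comm_pow_eq_one h.cen hab ha
  set c := ⁅a, b⁆ with hcdef
  have hxy : a * b = c * (b * a) := by rw [hcdef, commutatorElement_def]; group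
  have hz1 : t * a * t⁻¹ * (a ^ i * b ^ j)⁻¹ ∈ center L := by
    apply h.cen
    rw [MonoidHom.mem_ker]
    simp only [map_mul, map_inv, map_pow]
    rw [hta, mul_inv_cancel]
  have hz2 : t * b * t⁻¹ * (a ^ k * b ^ l)⁻¹ ∈ center L := by
    apply h.cen
    rw [MonoidHom.mem_ker]
    simp only [map_mul, map_inv, map_pow]
    rw [htb, mul_inv_cancel]
  set z₁ := t * a * t⁻¹ * (a ^ i * b ^ j)⁻¹ with hz1'
  set z₂ := t * b * t⁻¹ * (a ^ k * b ^ l)⁻¹ with hz2'
  have a1 : t * a * t⁻¹ = z₁ * (a ^ i * b ^ j) := by rw [hz1', inv_mul_cancel_right]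
  have a2 : t * b * t⁻¹ = z₂ * (a ^ k * b ^ l) := by rw [hz2', inv_mul_cancel_right]
  have a3 : t * c * t⁻¹ = ⁅a ^ i * b ^ j, a ^ k * b ^ l⁆ := by
    rw [← comm_mul_center hz1 hz2, ← a1, ← a2, hcdef]
    simp only [commutatorElement_def]; group
  have a4 : t * c * t⁻¹ = c := by rw [← commute_center hc t, mul_inv_cancel_right]
  have a5 := bilin hc hxy i j k l
  rw [a4, commutatorElement_def] at a3
  have a6 : c * ((a ^ k * b ^ l) * (a ^ i * b ^ j)) = (a ^ i * b ^ j) * (a ^ k * b ^ l) := by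
    calc c * ((a ^ k * b ^ l) * (a ^ i * b ^ j))
        = (a ^ i * b ^ j * (a ^ k * b ^ l) * (a ^ i * b ^ j)⁻¹ * (a ^ k * b ^ l)⁻¹) *
          ((a ^ k * b ^ l) * (a ^ i * b ^ j)) := by rw [← a3]
      _ = _ := by group
  rw [← a6, ← mul_assoc, ← pow_succ, mul_right_cancel_iff] at a5
  -- `c ^ (j k + 1) = c ^ (i l)`
  have a7 : c ^ ((i * l : ℤ) - j * k - 1) = 1 := by
    have h1 : (c : L) ^ ((i * l : ℕ) : ℤ) = c ^ ((j * k + 1 : ℕ) : ℤ) := by
      rw [zpow_natCast, zpow_natCast, a5]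
    push_cast at h1
    rw [sub_sub, zpow_sub, h1, mul_inv_cancel]
  have a8 : c = 1 := by
    rw [← orderOf_eq_one_iff]
    have h1 : orderOf c ∣ p := orderOf_dvd_of_pow_eq_one hcp
    rcases (Nat.dvd_prime hp).1 h1 with h2 | h2
    · exact h2
    · exfalso
      apply hdet
      rw [← h2]
      exact orderOf_dvd_iff_zpow_eq_one.2 a7
  have hle : π.ker ≤ zpowers c := by
    refine Pairs.le_zpowers h.perf h.surj h.cen hp hP hidx (s := {a, b}) ?_ hc ?_
    · rw [MonoidHom.map_closure]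
      simp [Set.image_pair]
    · rintro x (rfl | rfl) y (rfl | rfl)
      · rw [commutatorElement_self]; exact one_mem _
      · exact mem_zpowers _
      · exact Pairs.swap_mem (mem_zpowers _)
      · rw [commutatorElement_self]; exact one_mem _
  rw [a8, zpowers_one_eq_bot, le_bot_iff] at hle
  rw [hle, Subgroup.card_bot] at hcard
  exact hp.one_lt.ne hcard

/-- **Extraspecial Sylow subgroup of order `p ^ 3`**, with an element inverting it modulo the centre and centralising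
the centre. -/
theorem noCov_extra {X : Type v} [Group X] {p : ℕ} (hp : p.Prime) (hp2 : p ≠ 2) {a b c t : X} (hab : ⁅a, b⁆ = c)
    (hc1 : c ≠ 1) (hca : c * a = a * c) (hcb : c * b = b * c) {m : ℕ} (ha : a ^ p = c ^ m)
    {i j : ℕ} (hta : t * a * t⁻¹ = a⁻¹ * c ^ i) (htb : t * b * t⁻¹ = b⁻¹ * c ^ j)
    (hidx : ¬ p ∣ (closure ({a, b} : Set X)).index) : NoCov p X := by
  intro L _ _ π h hcard
  have hP : IsPGroup p π.ker := IsPGroup.of_card (n := 1) (by rw [hcard, pow_one])
  obtain ⟨a, rfl⟩ := h.surj a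
  obtain ⟨b, rfl⟩ := h.surj b
  obtain ⟨t, rfl⟩ := h.surj t
  have hpc : π ⁅a, b⁆ = c := by rw [map_commutatorElement, hab]
  set c' := ⁅a, b⁆ with hcdef
  subst hpc
  have mk : ∀ {x : L}, π x = 1 → x ∈ center L := fun hx => h.cen (MonoidHom.mem_ker.2 hx)
  have hz1 : ⁅c', a⁆ ∈ center L := mk (by rw [map_commutatorElement, commutatorElement_eq_one_iff_mul_comm]; exact hca)
  have hz2 : ⁅c', b⁆ ∈ center L := mk (by rw [map_commutatorElement, commutatorElement_eq_one_iff_mul_comm]; exact hcb)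
  -- the action of `t`
  have hza : t * a * t⁻¹ * (a⁻¹ * c' ^ i)⁻¹ ∈ center L := by
    apply mk
    simp only [map_mul, map_inv, map_pow]
    rw [hta, mul_inv_cancel]
  have hzb : t * b * t⁻¹ * (b⁻¹ * c' ^ j)⁻¹ ∈ center L := by
    apply mk
    simp only [map_mul, map_inv, map_pow]
    rw [htb, mul_inv_cancel]
  have hta' : t * a * t⁻¹ = (t * a * t⁻¹ * (a⁻¹ * c' ^ i)⁻¹) * (a⁻¹ * c' ^ i) := by rw [inv_mul_cancel_right]
  have htb' : t * b * t⁻¹ = (t * b * t⁻¹ * (b⁻¹ * c' ^ j)⁻¹) * (b⁻¹ * c' ^ j) := by rw [inv_mul_cancel_right]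
  -- the image of the commutator
  have hbase : (π t) * (π c') * (π t)⁻¹ = π c' := by
    have e1 : (π t) * (π c') * (π t)⁻¹ = ⁅(π a)⁻¹ * (π c') ^ i, (π b)⁻¹ * (π c') ^ j⁆ := by
      rw [← hta, ← htb, hcdef, map_commutatorElement]
      simp only [commutatorElement_def]; group
    have ca : (π c') ^ j * (π a) = (π a) * (π c') ^ j := (Commute.pow_left (show Commute (π c') (π a) from hca) j)
    have cb : (π c') ^ i * (π b) = (π b) * (π c') ^ i := (Commute.pow_left (show Commute (π c') (π b) from hcb) i)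
    have e2 : ⁅(π a)⁻¹ * (π c') ^ i, (π b)⁻¹ * (π c') ^ j⁆ = ⁅(π a)⁻¹, (π b)⁻¹⁆ := by
      have f1 : ((π a)⁻¹ * (π c') ^ i) * (π c') ^ j = (π c') ^ j * ((π a)⁻¹ * (π c') ^ i) := by
        have : Commute ((π a)⁻¹ * (π c') ^ i) ((π c') ^ j) := by
          apply Commute.mul_left
          · exact (Commute.inv_left (show Commute (π a) ((π c') ^ j) from ca.symm))
          · exact Commute.pow_pow_self _ _ _
        exact this
      rw [comm_mul_of_comm f1]
      rw [← commutatorElement_inv, ← commutatorElement_inv (π b)⁻¹]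
      congr 1
      apply comm_mul_of_comm
      have : Commute (π b)⁻¹ ((π c') ^ i) := Commute.inv_left (show Commute (π b) ((π c') ^ i) from cb.symm)
      exact this
    have e3 : ⁅(π a)⁻¹, (π b)⁻¹⁆ = (π a)⁻¹ * ((π b)⁻¹ * ⁅π a, π b⁆ * π b) * π a := by
      simp only [commutatorElement_def]; group
    have e4 : (π b)⁻¹ * ⁅π a, π b⁆ * π b = ⁅π a, π b⁆ := by
      rw [mul_assoc, hab, hcb, ← mul_assoc, inv_mul_cancel, one_mul]
    have e5 : (π a)⁻¹ * ⁅π a, π b⁆ * π a = ⁅π a, π b⁆ := by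
      rw [mul_assoc, hab, hca, ← mul_assoc, inv_mul_cancel, one_mul]
    rw [e1, e2, e3, e4, e5, hab]
  have hzc : t * c' * t⁻¹ * c'⁻¹ ∈ center L := by
    apply mk
    simp only [map_mul, map_inv]
    rw [hbase, mul_inv_cancel]
  have htc' : t * c' * t⁻¹ = (t * c' * t⁻¹ * c'⁻¹) * c' := by rw [inv_mul_cancel_right]
  have conjc : ∀ x y : L, t * ⁅x, y⁆ * t⁻¹ = ⁅t * x * t⁻¹, t * y * t⁻¹⁆ := by
    intro x y
    simp only [commutatorElement_def]; group
  have kill : ∀ (x : L) (n : ℕ), ⁅c', x⁆ ∈ center L → π ⁅c', x⁆ = 1 →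
      (t * x * t⁻¹ * (x⁻¹ * c' ^ n)⁻¹ ∈ center L) → ⁅c', x⁆ = 1 := by
    intro x n hx hx1 hxt
    have e1 : t * ⁅c', x⁆ * t⁻¹ = ⁅c', x⁆ := by rw [← commute_center hx t, mul_inv_cancel_right]
    have e2 : t * x * t⁻¹ = (t * x * t⁻¹ * (x⁻¹ * c' ^ n)⁻¹) * (x⁻¹ * c' ^ n) := by rw [inv_mul_cancel_right]
    have e3 : t * ⁅c', x⁆ * t⁻¹ = ⁅c', x⁻¹ * c' ^ n⁆ := by
      rw [conjc, e2, htc']
      exact comm_mul_center hzc hxt _ _
    have e4 : ⁅c', x⁻¹ * c' ^ n⁆ = ⁅c', x⁻¹⁆ := comm_mul_of_comm (Commute.self_pow c' n)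
    rw [e1, e4, comm_inv_right hx] at e3
    -- `z = z⁻¹`
    have e5 : ⁅c', x⁆ ^ 2 = 1 := by
      rw [pow_two]
      nth_rewrite 2 [e3]
      rw [mul_inv_cancel]
    obtain ⟨k, hk⟩ := hP ⟨_, MonoidHom.mem_ker.2 hx1⟩
    have e6 : ⁅c', x⁆ ^ p ^ k = 1 := congrArg Subtype.val hk
    have e7 : orderOf ⁅c', x⁆ ∣ 1 := by
      have hcop : Nat.Coprime (p ^ k) 2 := Nat.Coprime.pow_left k ((Nat.coprime_primes hp Nat.prime_two).2 hp2)
      rw [← (show Nat.gcd (p ^ k) 2 = 1 from hcop)]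
      exact Nat.dvd_gcd (orderOf_dvd_of_pow_eq_one e6) (orderOf_dvd_of_pow_eq_one e5)
    exact orderOf_eq_one_iff.1 (Nat.dvd_one.1 e7)
  have ka : ⁅c', a⁆ = 1 := kill a i hz1
    (by rw [map_commutatorElement, commutatorElement_eq_one_iff_mul_comm]; exact hca) hza
  have kb : ⁅c', b⁆ = 1 := kill b j hz2
    (by rw [map_commutatorElement, commutatorElement_eq_one_iff_mul_comm]; exact hcb) hzb
  rw [commutatorElement_eq_one_iff_mul_comm] at ka kb
  -- `c' ^ p = 1`
  have hap : ∃ z ∈ center L, a ^ p = z * c' ^ m := by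
    refine ⟨a ^ p * (c' ^ m)⁻¹, mk ?_, by rw [inv_mul_cancel_right]⟩
    simp only [map_mul, map_inv, map_pow]
    rw [ha, mul_inv_cancel]
  obtain ⟨z, hz, hap⟩ := hap
  have hapb : a ^ p * b = b * a ^ p := by
    rw [hap]
    have h1 : c' ^ m * b = b * c' ^ m := (Commute.pow_left (show Commute c' b from kb) m)
    rw [mul_assoc, h1, ← mul_assoc, commute_center hz b, mul_assoc]
  have hcomm : ∀ n : ℕ, a ^ n * b = c' ^ n * (b * a ^ n) := by
    intro n
    have hab2 : a * b = c' * (b * a) := by rw [hcdef, commutatorElement_def]; group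
    induction n with
    | zero => simp
    | succ n ih =>
      have h1 : a ^ n * c' = c' * a ^ n := (Commute.pow_right (show Commute c' a from ka) n).symm
      calc a ^ (n + 1) * b = a ^ n * (a * b) := by rw [pow_succ]; group
        _ = (a ^ n * c') * (b * a) := by rw [hab2]; group
        _ = (c' * a ^ n) * (b * a) := by rw [h1]
        _ = c' * (a ^ n * b) * a := by group
        _ = c' * (c' ^ n * (b * a ^ n)) * a := by rw [ih]
        _ = c' ^ (n + 1) * (b * a ^ (n + 1)) := by rw [pow_succ' c', pow_succ a]; group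
  have hcp : c' ^ p = 1 := by
    have h1 := hcomm p
    rw [hapb] at h1
    exact (mul_eq_right.1 h1.symm)
  -- the kernel lies in `zpowers c'`
  have hle : π.ker ≤ zpowers c' := by
    refine ker_le h hp hP (s := {a, b}) ?_ ?_ ?_
    · rwa [Set.image_pair]
    · have hz : ∀ x : L, c' * x = x * c' → ∀ c ∈ zpowers c', x * c * x⁻¹ ∈ zpowers c' := by
        intro x hx c hc
        obtain ⟨n, rfl⟩ := mem_zpowers_iff.1 hc
        have h1 : Commute (c' ^ n) x := Commute.zpow_left hx n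
        rw [← h1.eq, mul_inv_cancel_right]
        exact hc
      rintro x (rfl | rfl)
      · exact hz _ ka
      · exact hz _ kb
    · rintro x (rfl | rfl) y (rfl | rfl)
      · rw [commutatorElement_self]; exact one_mem _
      · exact mem_zpowers _
      · exact Pairs.swap_mem (mem_zpowers _)
      · rw [commutatorElement_self]; exact one_mem _
  -- so it is `zpowers c'`
  have hcard' : Nat.card ↥(zpowers c') ∣ p := by
    rw [Nat.card_zpowers]; exact orderOf_dvd_of_pow_eq_one hcp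
  have heq : π.ker = zpowers c' := by
    apply Subgroup.eq_of_le_of_card_ge hle
    rw [hcard]
    exact Nat.le_of_dvd hp.pos hcard'
  apply hc1
  have : c' ∈ π.ker := by rw [heq]; exact mem_zpowers _
  exact this

end Cfsg.Agent.H48.Crit
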