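import Mathlib
import Cfsg.Agent.H48.Crit

/-!
# Criteria for the `p`-part of the Schur multiplier, `p` odd: versions with orders instead of indices

* `noCov_extra'` : `noCov_extra` for groups whose order is not divisible by `p ^ 4`;
* `noCov_sq'` : `noCov_sq` for groups whose order is not divisible by `p ^ 3`.
-/

set_option autoImplicit false
set_option linter.style.haveILetI false
set_option linter.unusedVariables false

namespace Cfsg.Agent.H48.Crit

open Subgroup
open scoped commutatorElement
open Cfsg.Agent.H51.Mult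
open Cfsg.Agent.CpQuot

universe u v

theorem isPGroup_zpowers {X : Type v} [Group X] {p : ℕ} {x : X} {n : ℕ} (h : x ^ p ^ n = 1) :
    IsPGroup p (zpowers x) := by
  rintro ⟨y, hy⟩
  obtain ⟨k, rfl⟩ := mem_zpowers_iff.1 hy
  refine ⟨n, Subtype.ext ?_⟩
  show (x ^ k) ^ p ^ n = 1
  rw [← zpow_natCast, ← zpow_mul, mul_comm, zpow_mul, zpow_natCast, h, one_zpow]

/-- if `b` conjugates the generators of `N` into `N` (finite group) it normalises `N` -/
theorem zpowers_le_normalizer {X : Type v} [Group X] [Finite X] {b : X} {s : Set X}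
    (h : ∀ x ∈ s, b * x * b⁻¹ ∈ closure s) : zpowers b ≤ normalizer (closure s : Set X) := by
  rw [zpowers_le]
  have h0 : ∀ x ∈ closure s, b * x * b⁻¹ ∈ closure s := by
    intro x hx
    induction hx using closure_induction with
    | mem x hx => exact h x hx
    | one => rw [mul_one, mul_inv_cancel]; exact one_mem _
    | mul x y hx hy h1 h2 =>
      have e : b * (x * y) * b⁻¹ = (b * x * b⁻¹) * (b * y * b⁻¹) := by group
      rw [e]; exact mul_mem h1 h2
    | inv x hx h1 =>
      have e : b * x⁻¹ * b⁻¹ = (b * x * b⁻¹)⁻¹ := by group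
      rw [e]; exact inv_mem h1
  have h1 : (MulAut.conj b).toMonoidHom '' (closure s : Set X) ⊆ closure s := by
    rintro _ ⟨c, hc, rfl⟩
    exact h0 c hc
  have h2 : (MulAut.conj b).toMonoidHom '' (closure s : Set X) = closure s := by
    apply Set.Finite.eq_of_subset_of_encard_le (Set.toFinite _) h1
    rw [Function.Injective.encard_image]
    exact (MulAut.conj b).injective
  rw [mem_normalizer_iff]
  intro c
  refine ⟨fun hc => h0 c hc, fun hc => ?_⟩
  have h3 : b * c * b⁻¹ ∈ (MulAut.conj b).toMonoidHom '' (closure s : Set X) := by rw [h2]; exact hc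
  obtain ⟨d, hd, hdc⟩ := h3
  have h4 : b * d * b⁻¹ = b * c * b⁻¹ := hdc
  have : d = c := by simpa using h4
  rw [← SetLike.mem_coe, ← this]
  exact hd

/-- adjoining a `p`-element normalising a `p`-subgroup -/
theorem isPGroup_insert {X : Type v} [Group X] [Finite X] {p : ℕ} {b : X} {s : Set X}
    (hs : IsPGroup p (closure s)) (h : ∀ x ∈ s, b * x * b⁻¹ ∈ closure s) {n : ℕ} (hb : b ^ p ^ n = 1) :
    IsPGroup p (closure (insert b s)) := by
  have h1 := (isPGroup_zpowers hb).to_sup_of_normal_right' hs (zpowers_le_normalizer h)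
  have h2 : closure (insert b s) = zpowers b ⊔ closure s := by
    rw [Set.insert_eq, Subgroup.closure_union, zpowers_eq_closure]
  rw [h2]; exact h1

/-- the extraspecial configuration generates a group of order divisible by `p ^ 3` -/
theorem cube_dvd {X : Type v} [Group X] [Finite X] {p : ℕ} (hp : p.Prime) {a b c : X} (hab : ⁅a, b⁆ = c)
    (hc1 : c ≠ 1) (hca : c * a = a * c) (hcb : c * b = b * c) (hcp : c ^ p = 1) {m n : ℕ} (ha : a ^ p = c ^ m)
    (hb : b ^ p = c ^ n) : p ^ 3 ∣ Nat.card (closure ({a, b} : Set X)) := by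
  haveI : Fact p.Prime := ⟨hp⟩
  have ha2 : a ^ p ^ 2 = 1 := by
    rw [pow_two p, pow_mul, ha, ← pow_mul, mul_comm, pow_mul, hcp, one_pow]
  have hb2 : b ^ p ^ 2 = 1 := by
    rw [pow_two p, pow_mul, hb, ← pow_mul, mul_comm, pow_mul, hcp, one_pow]
  have hP0 : IsPGroup p (closure ({c} : Set X)) := by
    rw [← zpowers_eq_closure]
    exact isPGroup_zpowers (n := 1) (by rwa [pow_one])
  have hP1 : IsPGroup p (closure ({a, c} : Set X)) := by
    apply isPGroup_insert hP0 _ ha2
    rintro x rfl
    rw [← hca, mul_inv_cancel_right]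
    exact subset_closure rfl
  have hP2 : IsPGroup p (closure ({b, a, c} : Set X)) := by
    apply isPGroup_insert hP1 _ hb2
    rintro x (rfl | rfl)
    · have e : b * x * b⁻¹ = c⁻¹ * x := by
        rw [← hab, commutatorElement_def]; group
      rw [e]
      exact mul_mem (inv_mem (subset_closure (by simp))) (subset_closure (by simp))
    · rw [← hcb, mul_inv_cancel_right]
      exact subset_closure (by simp)
  have hle : closure ({a, b} : Set X) ≤ closure ({b, a, c} : Set X) := by
    rw [closure_le]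
    rintro x (rfl | rfl)
    · exact subset_closure (by simp)
    · exact subset_closure (by simp)
  have hP : IsPGroup p (closure ({a, b} : Set X)) := hP2.to_le hle
  obtain ⟨k, hk⟩ := hP.exists_card_eq
  have hk3 : 3 ≤ k := by
    by_contra h0
    have hcomm : ∀ x y : closure ({a, b} : Set X), x * y = y * x := by
      rcases (by omega : k = 0 ∨ k = 1 ∨ k = 2) with rfl | rfl | rfl
      · intro x y
        rw [pow_zero] at hk
        haveI := (Nat.card_eq_one_iff_unique.1 hk).1
        exact Subsingleton.elim _ _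
      · rw [pow_one] at hk
        haveI := isCyclic_of_prime_card hk
        intro x y
        letI : CommGroup (closure ({a, b} : Set X)) := IsCyclic.commGroup
        exact mul_comm x y
      · intro x y
        letI : CommGroup (closure ({a, b} : Set X)) := IsPGroup.commGroupOfCardEqPrimeSq hk
        exact mul_comm x y
    apply hc1
    rw [← hab, commutatorElement_eq_one_iff_mul_comm]
    exact congrArg Subtype.val (hcomm ⟨a, subset_closure (by simp)⟩ ⟨b, subset_closure (by simp)⟩)
  rw [hk]
  exact pow_dvd_pow p hk3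

theorem index_not_dvd {X : Type v} [Group X] [Finite X] {p : ℕ} (hp : p.Prime) {H : Subgroup X} {n : ℕ}
    (h : p ^ n ∣ Nat.card H) (hX : ¬ p ^ (n + 1) ∣ Nat.card X) : ¬ p ∣ H.index := by
  intro hd
  apply hX
  rw [← H.card_mul_index, pow_succ]
  exact mul_dvd_mul h hd

/-- **Extraspecial Sylow subgroup of order `p ^ 3`** -/
theorem noCov_extra' {X : Type v} [Group X] [Finite X] {p : ℕ} (hp : p.Prime) (hp2 : p ≠ 2)
    (hX : ¬ p ^ 4 ∣ Nat.card X) {a b c t : X} (hab : ⁅a, b⁆ = c)
    (hc1 : c ≠ 1) (hca : c * a = a * c) (hcb : c * b = b * c) (hcp : c ^ p = 1) {m n : ℕ} (ha : a ^ p = c ^ m)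
    (hb : b ^ p = c ^ n)
    {i j : ℕ} (hta : t * a * t⁻¹ = a⁻¹ * c ^ i) (htb : t * b * t⁻¹ = b⁻¹ * c ^ j) : NoCov p X :=
  noCov_extra hp hp2 hab hc1 hca hcb ha hta htb
    (index_not_dvd hp (cube_dvd hp hab hc1 hca hcb hcp ha hb) hX)

/-- two commuting elements of order `p` generating different subgroups -/
theorem sq_dvd {X : Type v} [Group X] [Finite X] {p : ℕ} (hp : p.Prime) {a b : X} (hab : a * b = b * a)
    (ha : a ^ p = 1) (hb : b ^ p = 1) (ha1 : a ≠ 1) (hba : b ∉ zpowers a) :
    p ^ 2 ∣ Nat.card (closure ({a, b} : Set X)) := by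
  haveI : Fact p.Prime := ⟨hp⟩
  have hP0 : IsPGroup p (closure ({a} : Set X)) := by
    rw [← zpowers_eq_closure]
    exact isPGroup_zpowers (n := 1) (by rwa [pow_one])
  have hP1 : IsPGroup p (closure ({b, a} : Set X)) := by
    apply isPGroup_insert (n := 1) hP0 _ (by rwa [pow_one])
    rintro x rfl
    rw [← hab, mul_inv_cancel_right]
    exact subset_closure rfl
  rw [Set.pair_comm] at hP1
  obtain ⟨k, hk⟩ := hP1.exists_card_eq
  have hk2 : 2 ≤ k := by
    by_contra h0
    have hle : zpowers a ≤ closure ({a, b} : Set X) := by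
      rw [zpowers_le]; exact subset_closure (by simp)
    have h1 : Nat.card (zpowers a) = p := by rw [Nat.card_zpowers]; exact orderOf_eq_prime ha ha1
    have h2 : zpowers a = closure ({a, b} : Set X) := by
      apply Subgroup.eq_of_le_of_card_ge hle
      rw [h1, hk]
      calc p ^ k ≤ p ^ 1 := Nat.pow_le_pow_right hp.pos (by omega)
        _ = p := pow_one p
    apply hba
    rw [h2]
    exact subset_closure (by simp)
  rw [hk]
  exact pow_dvd_pow p hk2

/-- **Sylow subgroup of order `p ^ 2`** -/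
theorem noCov_sq' {X : Type v} [Group X] [Finite X] {p : ℕ} (hp : p.Prime) (hX : ¬ p ^ 3 ∣ Nat.card X)
    {a b t : X} (hab : a * b = b * a) (ha : a ^ p = 1) (hb : b ^ p = 1) (ha1 : a ≠ 1) (hba : b ∉ zpowers a)
    {i j k l : ℕ} (hta : t * a * t⁻¹ = a ^ i * b ^ j) (htb : t * b * t⁻¹ = a ^ k * b ^ l)
    (hdet : ¬ (p : ℤ) ∣ (i * l - j * k - 1)) : NoCov p X :=
  noCov_sq hp hab ha hta htb hdet (index_not_dvd hp (sq_dvd hp hab ha hb ha1 hba) hX)

/-- membership in `zpowers a` for `a ^ p = 1` from finitely many powers -/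
theorem not_mem_zpowers {X : Type v} [Group X] {p : ℕ} (hp : 0 < p) {a b : X} (ha : a ^ p = 1)
    (h : ∀ i < p, b ≠ a ^ i) : b ∉ zpowers a := by
  intro hb
  obtain ⟨k, rfl⟩ := mem_zpowers_iff.1 hb
  have hpos : (0 : ℤ) < p := by exact_mod_cast hp
  have h1 : a ^ k = a ^ (k % p).toNat := by
    rw [← zpow_natCast, Int.toNat_of_nonneg (Int.emod_nonneg _ hpos.ne')]
    conv_lhs => rw [← Int.emod_add_mul_ediv k p]
    rw [zpow_add, zpow_mul, zpow_natCast, ha, one_zpow, mul_one]
  refine h (k % p).toNat ?_ h1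
  have := Int.emod_lt_of_pos k hpos
  omega

end Cfsg.Agent.H48.Crit
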