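import Mathlib
import Cfsg.Agent.H48.Crit2

/-!
# The 3-part of the multiplier is at most 3: Sylow 3-subgroups of type `3^{2+1+2}`

`bd_three`: `a, b` generate a subgroup of index prime to 3, `c = ⁅a, b⁆`, `d = ⁅c, a⁆`, `e = ⁅c, b⁆`, `d, e` central,
`⟨c, d, e⟩` elementary abelian of order 27, and `h` acts as `a ↦ b ↦ a⁻¹` modulo `⟨c, d, e⟩`.
-/

set_option autoImplicit false
set_option linter.style.haveILetI false
set_option linter.unusedVariables false
set_option maxHeartbeats 400000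

namespace Cfsg.Agent.H48.Crit

open Subgroup
open scoped commutatorElement
open Cfsg.Agent.H51.Mult
open Cfsg.Agent.CpQuot

universe u v

section
variable {K : Type u} [Group K]

theorem mem_closure_insert_comm {x : K} {S : Set K} (h : ∀ y ∈ S, x * y = y * x) {z : K}
    (hz : z ∈ closure (insert x S)) : ∃ i : ℤ, ∃ y ∈ closure S, z = x ^ i * y := by
  have hc : ∀ y ∈ closure S, ∀ i : ℤ, Commute (x ^ i) y := by
    intro y hy i
    apply Commute.zpow_left
    have h1 : closure S ≤ centralizer {x} := by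
      rw [closure_le]
      intro y hy
      rw [SetLike.mem_coe, mem_centralizer_singleton_iff]
      exact (h y hy).symm
    exact (mem_centralizer_singleton_iff.1 (h1 hy)).symm
  induction hz using closure_induction with
  | mem z hz =>
    rcases hz with rfl | hz
    · exact ⟨1, 1, one_mem _, by rw [zpow_one, mul_one]⟩
    · exact ⟨0, z, subset_closure hz, by rw [zpow_zero, one_mul]⟩
  | one => exact ⟨0, 1, one_mem _, by rw [zpow_zero, mul_one]⟩
  | mul z w _ _ h1 h2 =>
    obtain ⟨i, y, hy, rfl⟩ := h1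
    obtain ⟨j, y', hy', rfl⟩ := h2
    refine ⟨i + j, y * y', mul_mem hy hy', ?_⟩
    rw [zpow_add, mul_assoc, mul_assoc, ← mul_assoc y, ← (hc y hy j).eq, mul_assoc]
  | inv z _ h1 =>
    obtain ⟨i, y, hy, rfl⟩ := h1
    refine ⟨-i, y⁻¹, inv_mem hy, ?_⟩
    rw [mul_inv_rev, ← zpow_neg]
    exact ((hc y hy (-i)).inv_right.eq).symm

/-- if `⁅d, x⁆` and `⁅d, y⁆` are central then `d` commutes with `⁅x, y⁆` -/
theorem comm_comm {d x y : K} (hx : ⁅d, x⁆ ∈ center K) (hy : ⁅d, y⁆ ∈ center K) : d * ⁅x, y⁆ = ⁅x, y⁆ * d := by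
  have e1 : d * x * d⁻¹ = ⁅d, x⁆ * x := by rw [commutatorElement_def]; group
  have e2 : d * y * d⁻¹ = ⁅d, y⁆ * y := by rw [commutatorElement_def]; group
  have e3 : d * ⁅x, y⁆ * d⁻¹ = ⁅d * x * d⁻¹, d * y * d⁻¹⁆ := by
    simp only [commutatorElement_def]; group
  rw [e1, e2, comm_mul_center hx hy] at e3
  rw [← mul_inv_eq_iff_eq_mul, e3]

theorem comm_zpow_of_comm {c x d : K} (hd : ⁅c, x⁆ = d) (hcd : c * d = d * c) (n : ℕ) : ⁅c ^ n, x⁆ = d ^ n := by
  induction n with
  | zero => simp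
  | succ n ih =>
    have h1 : ⁅c ^ (n + 1), x⁆ = c ^ n * ⁅c, x⁆ * (c ^ n)⁻¹ * ⁅c ^ n, x⁆ := by
      rw [pow_succ]
      simp only [commutatorElement_def]
      group
    have h2 : c ^ n * d = d * c ^ n := Commute.pow_left (show Commute c d from hcd) n
    rw [h1, ih, hd, h2, mul_inv_cancel_right, ← pow_succ']

end

theorem pgroup_step {X : Type v} [Group X] [Finite X] {p : ℕ} (hp : p.Prime) {H K : Subgroup X} (hHK : H ≤ K)
    (hK : IsPGroup p K) {x : X} (hxK : x ∈ K) (hxH : x ∉ H) {n : ℕ} (hn : p ^ n ∣ Nat.card H) :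
    p ^ (n + 1) ∣ Nat.card K := by
  haveI : Fact p.Prime := ⟨hp⟩
  obtain ⟨k, hk⟩ := hK.exists_card_eq
  have h1 := Subgroup.card_dvd_of_le hHK
  rw [hk] at h1
  obtain ⟨j, hj, hHj⟩ := (Nat.dvd_prime_pow hp).1 h1
  rw [hHj] at hn
  have hnj : n ≤ j := (Nat.pow_dvd_pow_iff_le_right hp.one_lt).1 hn
  have hlt : j < k := by
    rcases hj.lt_or_eq with h | h
    · exact h
    · exfalso
      apply hxH
      have : H = K := Subgroup.eq_of_le_of_card_ge hHK (by rw [hk, hHj, h])
      rwa [this]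
  rw [hk]
  exact pow_dvd_pow p (by omega)

section three

variable {X : Type v} [Group X]

/-- the order of the group generated -/
theorem three_pow_five [Finite X] {a b c d e : X} (hc : ⁅a, b⁆ = c) (hd : ⁅c, a⁆ = d)
    (he : ⁅c, b⁆ = e) (hda : d * a = a * d) (hdb : d * b = b * d) (hea : e * a = a * e) (heb : e * b = b * e)
    (hc3 : c ^ 3 = 1) (ha : ∃ n, a ^ 3 ^ n = 1) (hb : ∃ n, b ^ 3 ^ n = 1)
    (hind : ∀ i j k : ℤ, c ^ i * d ^ j * e ^ k = 1 → 3 ∣ i ∧ 3 ∣ j ∧ 3 ∣ k) :
    3 ^ 5 ∣ Nat.card (closure ({a, b} : Set X)) := by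
  have hcd : c * d = d * c := by
    rw [← hc, commutatorElement_def]
    have h1 : Commute d a := hda
    have h2 : Commute d b := hdb
    exact (((h1.mul_right h2).mul_right h1.inv_right).mul_right h2.inv_right).symm
  have hce : c * e = e * c := by
    rw [← hc, commutatorElement_def]
    have h1 : Commute e a := hea
    have h2 : Commute e b := heb
    exact (((h1.mul_right h2).mul_right h1.inv_right).mul_right h2.inv_right).symm
  have hde : d * e = e * d := by
    rw [← hd, commutatorElement_def]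
    have h1 : Commute e c := hce.symm
    have h2 : Commute e a := hea
    exact (((h1.mul_right h2).mul_right h1.inv_right).mul_right h2.inv_right).symm
  have hd3 : d ^ 3 = 1 := by
    rw [← comm_zpow_of_comm hd hcd, hc3, commutatorElement_one_left]
  have he3 : e ^ 3 = 1 := by
    rw [← comm_zpow_of_comm he hce, hc3, commutatorElement_one_left]
  obtain ⟨na, ha⟩ := ha
  obtain ⟨nb, hb⟩ := hb
  -- the chain
  have p0 : IsPGroup 3 (closure (∅ : Set X)) := by
    rw [Subgroup.closure_empty]; exact IsPGroup.of_bot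
  have p1 : IsPGroup 3 (closure ({e} : Set X)) := by
    rw [← zpowers_eq_closure]; exact isPGroup_zpowers (n := 1) (by rwa [pow_one])
  have p2 : IsPGroup 3 (closure ({d, e} : Set X)) := by
    apply isPGroup_insert (n := 1) p1 _ (by rwa [pow_one])
    rintro x rfl
    rw [hde, mul_inv_cancel_right]; exact subset_closure rfl
  have p3 : IsPGroup 3 (closure ({c, d, e} : Set X)) := by
    apply isPGroup_insert (n := 1) p2 _ (by rwa [pow_one])
    rintro x (rfl | rfl)
    · rw [hcd, mul_inv_cancel_right]; exact subset_closure (by simp)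
    · rw [hce, mul_inv_cancel_right]; exact subset_closure (by simp)
  have haca : a * c * a⁻¹ = d⁻¹ * c := by rw [← hd, commutatorElement_def]; group
  have hbcb : b * c * b⁻¹ = e⁻¹ * c := by rw [← he, commutatorElement_def]; group
  have hbab : b * a * b⁻¹ = c⁻¹ * a := by rw [← hc, commutatorElement_def]; group
  have p4 : IsPGroup 3 (closure ({a, c, d, e} : Set X)) := by
    apply isPGroup_insert p3 _ ha
    rintro x (rfl | rfl | rfl)
    · rw [haca]; exact mul_mem (inv_mem (subset_closure (by simp))) (subset_closure (by simp))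
    · rw [← hda, mul_inv_cancel_right]; exact subset_closure (by simp)
    · rw [← hea, mul_inv_cancel_right]; exact subset_closure (by simp)
  have p5 : IsPGroup 3 (closure ({b, a, c, d, e} : Set X)) := by
    apply isPGroup_insert p4 _ hb
    rintro x (rfl | rfl | rfl | rfl)
    · rw [hbab]; exact mul_mem (inv_mem (subset_closure (by simp))) (subset_closure (by simp))
    · rw [hbcb]; exact mul_mem (inv_mem (subset_closure (by simp))) (subset_closure (by simp))
    · rw [← hdb, mul_inv_cancel_right]; exact subset_closure (by simp)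
    · rw [← heb, mul_inv_cancel_right]; exact subset_closure (by simp)
  -- non-membership
  have n1 : e ∉ closure (∅ : Set X) := by
    rw [Subgroup.closure_empty, mem_bot]
    intro h
    have := hind 0 0 1 (by rw [h]; simp)
    omega
  have n2 : d ∉ closure ({e} : Set X) := by
    intro h
    rw [← zpowers_eq_closure] at h
    obtain ⟨k, hk⟩ := mem_zpowers_iff.1 h
    have := hind 0 (-1) k (by rw [hk]; simp)
    omega
  have n3 : c ∉ closure ({d, e} : Set X) := by
    intro h
    obtain ⟨j, y, hy, hcy⟩ := mem_closure_insert_comm (S := {e}) (by rintro y rfl; exact hde) h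
    rw [← zpowers_eq_closure] at hy
    obtain ⟨k, hk⟩ := mem_zpowers_iff.1 hy
    have := hind (-1) j k (by rw [zpow_neg_one, mul_assoc, hk, ← hcy, inv_mul_cancel])
    omega
  have n4 : a ∉ closure ({c, d, e} : Set X) := by
    intro h
    have h1 : ⁅closure ({c, d, e} : Set X), closure ({c, d, e} : Set X)⁆ ≤ ⊥ := by
      apply commutator_le_of_gen
      · intro x _ y hy
        rw [mem_bot.1 hy, mul_one, mul_inv_cancel]; exact one_mem _
      · rintro x (rfl | rfl | rfl) y (rfl | rfl | rfl) <;>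
          rw [mem_bot, commutatorElement_eq_one_iff_mul_comm] <;> first | rfl | assumption | (symm; assumption)
    have h2 : ⁅c, a⁆ ∈ (⊥ : Subgroup X) := h1 (commutator_mem_commutator (subset_closure (by simp)) h)
    rw [hd, mem_bot] at h2
    have := hind 0 1 0 (by rw [h2]; simp)
    omega
  have n5 : b ∉ closure ({a, c, d, e} : Set X) := by
    intro h
    have h1 : ⁅closure ({a, c, d, e} : Set X), closure ({a, c, d, e} : Set X)⁆ ≤ zpowers d := by
      have hz : ∀ x : X, d * x = x * d → ∀ y ∈ zpowers d, x * y * x⁻¹ ∈ zpowers d := by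
        intro x hx y hy
        obtain ⟨n, rfl⟩ := mem_zpowers_iff.1 hy
        have h1 : Commute (d ^ n) x := Commute.zpow_left hx n
        rw [← h1.eq, mul_inv_cancel_right]
        exact hy
      have h1 : ∀ x y : X, x * y = y * x → ⁅x, y⁆ ∈ zpowers d := fun x y hxy => by
        rw [commutatorElement_eq_one_iff_mul_comm.2 hxy]; exact one_mem _
      apply commutator_le_of_gen
      · rintro x (rfl | rfl | rfl | rfl)
        · exact hz _ hda
        · exact hz _ hcd.symm
        · exact hz _ rfl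
        · exact hz _ hde
      · rintro x (rfl | rfl | rfl | rfl) y (rfl | rfl | rfl | rfl)
        · exact h1 _ _ rfl
        · apply Pairs.swap_mem; rw [hd]; exact mem_zpowers _
        · exact h1 _ _ hda.symm
        · exact h1 _ _ hea.symm
        · rw [hd]; exact mem_zpowers _
        · exact h1 _ _ rfl
        · exact h1 _ _ hcd
        · exact h1 _ _ hce
        · exact h1 _ _ hda
        · exact h1 _ _ hcd.symm
        · exact h1 _ _ rfl
        · exact h1 _ _ hde
        · exact h1 _ _ hea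
        · exact h1 _ _ hce.symm
        · exact h1 _ _ hde.symm
        · exact h1 _ _ rfl
    have h2 : ⁅a, b⁆ ∈ zpowers d := h1 (commutator_mem_commutator (subset_closure (by simp)) h)
    rw [hc] at h2
    obtain ⟨j, hj⟩ := mem_zpowers_iff.1 h2
    have := hind (-1) j 0 (by rw [hj]; simp)
    omega
  have l1 := pgroup_step Nat.prime_three (H := closure (∅ : Set X)) (Subgroup.closure_mono (by simp)) p1 (x := e)
    (subset_closure (by simp)) n1 (n := 0) (by simp)
  have l2 := pgroup_step Nat.prime_three (Subgroup.closure_mono (by simp)) p2 (x := d)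
    (subset_closure (by simp)) n2 l1
  have l3 := pgroup_step Nat.prime_three (Subgroup.closure_mono (by simp)) p3 (x := c)
    (subset_closure (by simp)) n3 l2
  have l4 := pgroup_step Nat.prime_three (Subgroup.closure_mono (by simp)) p4 (x := a)
    (subset_closure (by simp)) n4 l3
  have l5 := pgroup_step Nat.prime_three (Subgroup.closure_mono (by simp)) p5 (x := b)
    (subset_closure (by simp)) n5 l4
  have heq : closure ({b, a, c, d, e} : Set X) = closure ({a, b} : Set X) := by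
    have ma : a ∈ closure ({a, b} : Set X) := subset_closure (by simp)
    have mb : b ∈ closure ({a, b} : Set X) := subset_closure (by simp)
    have mc : c ∈ closure ({a, b} : Set X) := by
      rw [← hc, commutatorElement_def]
      exact mul_mem (mul_mem (mul_mem ma mb) (inv_mem ma)) (inv_mem mb)
    have md : d ∈ closure ({a, b} : Set X) := by
      rw [← hd, commutatorElement_def]
      exact mul_mem (mul_mem (mul_mem mc ma) (inv_mem mc)) (inv_mem ma)
    have me : e ∈ closure ({a, b} : Set X) := by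
      rw [← he, commutatorElement_def]
      exact mul_mem (mul_mem (mul_mem mc mb) (inv_mem mc)) (inv_mem mb)
    apply le_antisymm
    · rw [closure_le]
      rintro x (rfl | rfl | rfl | rfl | rfl)
      exacts [mb, ma, mc, md, me]
    · apply Subgroup.closure_mono
      rintro x (rfl | rfl) <;> simp
  rw [heq] at l5
  exact l5

theorem bd_three {a b c d e h : X} (hc : ⁅a, b⁆ = c) (hd : ⁅c, a⁆ = d)
    (he : ⁅c, b⁆ = e) (hda : d * a = a * d) (hdb : d * b = b * d) (hea : e * a = a * e) (heb : e * b = b * e)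
    (hc3 : c ^ 3 = 1) {m n : ℤ} (ha3 : a ^ 3 = d ^ m * e ^ n)
    (hind : ∀ i j k : ℤ, c ^ i * d ^ j * e ^ k = 1 → 3 ∣ i ∧ 3 ∣ j ∧ 3 ∣ k)
    {i₁ j₁ k₁ i₂ j₂ k₂ : ℤ} (hha : h * a * h⁻¹ = b * (c ^ i₁ * d ^ j₁ * e ^ k₁))
    (hhb : h * b * h⁻¹ = a⁻¹ * (c ^ i₂ * d ^ j₂ * e ^ k₂)) (hhd : h * d * h⁻¹ = e) (hhe : h * e * h⁻¹ = d⁻¹)
    (hidx : ¬ 3 ∣ (closure ({a, b} : Set X)).index) : Bd 3 1 X := by
  apply bd_one Nat.prime_three
  intro L _ _ π hπ hcard
  have hP : IsPGroup 3 π.ker := IsPGroup.of_card hcard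
  obtain ⟨a, rfl⟩ := hπ.surj a
  obtain ⟨b, rfl⟩ := hπ.surj b
  obtain ⟨h, rfl⟩ := hπ.surj h
  obtain ⟨c', hc'⟩ : ∃ c', ⁅a, b⁆ = c' := ⟨_, rfl⟩
  obtain ⟨d', hd'⟩ : ∃ d', ⁅c', a⁆ = d' := ⟨_, rfl⟩
  obtain ⟨e', he'⟩ : ∃ e', ⁅c', b⁆ = e' := ⟨_, rfl⟩
  have pc : c = π c' := by rw [← hc', map_commutatorElement, hc]
  subst pc
  have pd : d = π d' := by rw [← hd', map_commutatorElement, hd]
  subst pd
  have pe : e = π e' := by rw [← he', map_commutatorElement, he]
  subst pe
  have mk : ∀ {x : L}, π x = 1 → x ∈ center L := fun hx => hπ.cen (MonoidHom.mem_ker.2 hx)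
  have kc : ∀ {x y : L}, π x * π y = π y * π x → ⁅x, y⁆ ∈ center L := fun hxy =>
    mk (by rw [map_commutatorElement, commutatorElement_eq_one_iff_mul_comm]; exact hxy)
  have hcd : π c' * π d' = π d' * π c' := by
    rw [← hc, commutatorElement_def]
    have h1 : Commute (π d') (π a) := hda
    have h2 : Commute (π d') (π b) := hdb
    exact (((h1.mul_right h2).mul_right h1.inv_right).mul_right h2.inv_right).symm
  have hce : π c' * π e' = π e' * π c' := by
    rw [← hc, commutatorElement_def]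
    have h1 : Commute (π e') (π a) := hea
    have h2 : Commute (π e') (π b) := heb
    exact (((h1.mul_right h2).mul_right h1.inv_right).mul_right h2.inv_right).symm
  -- the elements `c', d', e'` commute
  have w1 := kc hda
  have w2 := kc hdb
  have w3 := kc hea
  have w4 := kc heb
  have cdc : d' * c' = c' * d' := by rw [← hc']; exact comm_comm w1 w2
  have cec : e' * c' = c' * e' := by rw [← hc']; exact comm_comm w3 w4
  have cde : d' * e' = e' * d' := by
    rw [← he']
    exact comm_comm (by rw [commutatorElement_eq_one_iff_mul_comm.2 cdc]; exact one_mem _) w2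
  -- conjugation relations
  have aca : a * c' * a⁻¹ = d'⁻¹ * c' := by rw [← hd', commutatorElement_def]; group
  have bcb : b * c' * b⁻¹ = e'⁻¹ * c' := by rw [← he', commutatorElement_def]; group
  have ada : a * d' * a⁻¹ = ⁅d', a⁆⁻¹ * d' := by rw [commutatorElement_def]; group
  have bdb : b * d' * b⁻¹ = ⁅d', b⁆⁻¹ * d' := by rw [commutatorElement_def]; group
  have aea : a * e' * a⁻¹ = ⁅e', a⁆⁻¹ * e' := by rw [commutatorElement_def]; group
  have beb : b * e' * b⁻¹ = ⁅e', b⁆⁻¹ * e' := by rw [commutatorElement_def]; group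
  -- Hall-Witt: `⁅d', b⁆ = ⁅e', a⁆`
  have hw : ⁅d', b⁆ = ⁅e', a⁆ := by
    have h1 : a * (b * c' * b⁻¹) * a⁻¹ = ⁅e', a⁆ * (e'⁻¹ * (d'⁻¹ * c')) := by
      rw [bcb]
      calc a * (e'⁻¹ * c') * a⁻¹ = (a * e' * a⁻¹)⁻¹ * (a * c' * a⁻¹) := by group
        _ = (⁅e', a⁆⁻¹ * e')⁻¹ * (d'⁻¹ * c') := by rw [aea, aca]
        _ = e'⁻¹ * ⁅e', a⁆ * (d'⁻¹ * c') := by rw [mul_inv_rev, inv_inv]
        _ = ⁅e', a⁆ * e'⁻¹ * (d'⁻¹ * c') := by rw [commute_center w3 e'⁻¹]
        _ = _ := by group
    have h2 : a * (b * c' * b⁻¹) * a⁻¹ = c' * (b * (a * c' * a⁻¹) * b⁻¹) * c'⁻¹ := by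
      rw [← hc', commutatorElement_def]; group
    have h3 : b * (a * c' * a⁻¹) * b⁻¹ = ⁅d', b⁆ * (d'⁻¹ * (e'⁻¹ * c')) := by
      rw [aca]
      calc b * (d'⁻¹ * c') * b⁻¹ = (b * d' * b⁻¹)⁻¹ * (b * c' * b⁻¹) := by group
        _ = (⁅d', b⁆⁻¹ * d')⁻¹ * (e'⁻¹ * c') := by rw [bdb, bcb]
        _ = d'⁻¹ * ⁅d', b⁆ * (e'⁻¹ * c') := by rw [mul_inv_rev, inv_inv]
        _ = ⁅d', b⁆ * d'⁻¹ * (e'⁻¹ * c') := by rw [commute_center w2 d'⁻¹]
        _ = _ := by group
    have h4 : c' * (⁅d', b⁆ * (d'⁻¹ * (e'⁻¹ * c'))) * c'⁻¹ = ⁅d', b⁆ * (d'⁻¹ * (e'⁻¹ * c')) := by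
      have f1 : Commute c' ⁅d', b⁆ := (commute_center w2 c').symm
      have f2 : Commute c' d' := cdc.symm
      have f3 : Commute c' e' := cec.symm
      have f4 : Commute c' (⁅d', b⁆ * (d'⁻¹ * (e'⁻¹ * c'))) :=
        f1.mul_right (f2.inv_right.mul_right (f3.inv_right.mul_right (Commute.refl c')))
      rw [f4.eq, mul_inv_cancel_right]
    rw [h2, h3, h4] at h1
    have h5 : d'⁻¹ * (e'⁻¹ * c') = e'⁻¹ * (d'⁻¹ * c') := by
      rw [← mul_assoc, ← mul_assoc, ← mul_inv_rev, ← mul_inv_rev, cde]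
    rw [h5] at h1
    exact mul_right_cancel h1
  -- the action of `h`
  have lift : ∀ x y : L, π x = π y → ∃ z ∈ center L, x = z * y := fun x y hxy =>
    ⟨x * y⁻¹, mk (by rw [map_mul, map_inv, hxy, mul_inv_cancel]), by rw [inv_mul_cancel_right]⟩
  obtain ⟨z1, hz1, qa⟩ := lift (h * a * h⁻¹) (b * (c' ^ i₁ * d' ^ j₁ * e' ^ k₁))
    (by simp only [map_mul, map_inv, map_zpow]; exact hha)
  obtain ⟨z2, hz2, qb⟩ := lift (h * b * h⁻¹) (a⁻¹ * (c' ^ i₂ * d' ^ j₂ * e' ^ k₂))
    (by simp only [map_mul, map_inv, map_zpow]; exact hhb)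
  obtain ⟨z3, hz3, qd⟩ := lift (h * d' * h⁻¹) e' (by simp only [map_mul, map_inv]; exact hhd)
  obtain ⟨z4, hz4, qe⟩ := lift (h * e' * h⁻¹) d'⁻¹ (by simp only [map_mul, map_inv]; exact hhe)
  have conj : ∀ x y : L, ⁅x, y⁆ ∈ center L → ⁅x, y⁆ = ⁅h * x * h⁻¹, h * y * h⁻¹⁆ := by
    intro x y hxy
    have h1 : h * ⁅x, y⁆ * h⁻¹ = ⁅h * x * h⁻¹, h * y * h⁻¹⁆ := by
      simp only [commutatorElement_def]; group
    rw [← h1, ← commute_center hxy h, mul_inv_cancel_right]
  have eC : ∀ i j k : ℤ, e' * (c' ^ i * d' ^ j * e' ^ k) = (c' ^ i * d' ^ j * e' ^ k) * e' := by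
    intro i j k
    have f1 : Commute e' c' := cec
    have f2 : Commute e' d' := cde.symm
    exact ((f1.zpow_right i).mul_right (f2.zpow_right j)).mul_right ((Commute.refl e').zpow_right k)
  have q14 : ⁅d', a⁆ = ⁅e', b⁆ := by
    rw [conj _ _ w1, qd, qa, comm_mul_center hz3 hz1, comm_mul_of_comm (eC _ _ _)]
  have q23 : ⁅d', b⁆ = ⁅e', a⁆⁻¹ := by
    rw [conj _ _ w2, qd, qb, comm_mul_center hz3 hz2, comm_mul_of_comm (eC _ _ _), comm_inv_right w3]
  have q2 : ⁅d', b⁆ = 1 := by
    have h1 : ⁅d', b⁆ ^ 2 = 1 := by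
      rw [pow_two]
      nth_rewrite 2 [q23]
      rw [hw, mul_inv_cancel]
    have h0 : π ⁅d', b⁆ = 1 := by rw [map_commutatorElement, commutatorElement_eq_one_iff_mul_comm]; exact hdb
    obtain ⟨k, hk⟩ := hP ⟨_, MonoidHom.mem_ker.2 h0⟩
    have e6 : ⁅d', b⁆ ^ 3 ^ k = 1 := congrArg Subtype.val hk
    have e7 : orderOf ⁅d', b⁆ ∣ 1 := by
      have hcop : Nat.Coprime (3 ^ k) 2 := Nat.Coprime.pow_left k (by norm_num)
      rw [← (show Nat.gcd (3 ^ k) 2 = 1 from hcop)]
      exact Nat.dvd_gcd (orderOf_dvd_of_pow_eq_one e6) (orderOf_dvd_of_pow_eq_one h1)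
    exact orderOf_eq_one_iff.1 (Nat.dvd_one.1 e7)
  have q3 : ⁅e', a⁆ = 1 := by rw [← hw]; exact q2
  obtain ⟨w, hwdef⟩ : ∃ w, w = ⁅d', a⁆ := ⟨_, rfl⟩
  rw [← hwdef] at w1 ada q14
  -- powers
  have hc3' : c' ^ 3 ∈ center L := mk (by rw [map_pow, hc3])
  have d3 : d' ^ 3 = 1 := by
    rw [← comm_zpow_of_comm hd' cdc.symm, commutatorElement_eq_one_iff_mul_comm.2 (commute_center hc3' a)]
  have e3 : e' ^ 3 = 1 := by
    rw [← comm_zpow_of_comm he' cec.symm, commutatorElement_eq_one_iff_mul_comm.2 (commute_center hc3' b)]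
  have w3' : w ^ 3 = 1 := by
    rw [← comm_zpow_of_comm hwdef.symm (commute_center w1 d').symm, d3, commutatorElement_one_left]
  -- `c' ^ 3 ∈ ⟨w⟩`
  have hcw : ∃ k : ℤ, c' ^ 3 = w ^ k := by
    obtain ⟨z, hz, qz⟩ := lift (a ^ 3) (d' ^ m * e' ^ n) (by simp only [map_mul, map_pow, map_zpow]; exact ha3)
    have p3 : ∀ x : L, x ^ 3 = x * x * x := fun x => by rw [pow_succ, pow_two]
    have h1 : ⁅a ^ 3, b⁆ = w * c' ^ 3 := by
      have g1 : a * c' * a⁻¹ = d'⁻¹ * c' := aca
      have g2 : a * (a * c' * a⁻¹) * a⁻¹ = w * (d'⁻¹ * (d'⁻¹ * c')) := by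
        rw [aca]
        calc a * (d'⁻¹ * c') * a⁻¹ = (a * d' * a⁻¹)⁻¹ * (a * c' * a⁻¹) := by group
          _ = (w⁻¹ * d')⁻¹ * (d'⁻¹ * c') := by rw [ada, aca]
          _ = d'⁻¹ * w * (d'⁻¹ * c') := by rw [mul_inv_rev, inv_inv]
          _ = w * d'⁻¹ * (d'⁻¹ * c') := by rw [commute_center w1 d'⁻¹]
          _ = _ := by group
      have g3 : ⁅a ^ 3, b⁆ = (a * (a * c' * a⁻¹) * a⁻¹) * (a * c' * a⁻¹) * c' := by
        rw [← hc', commutatorElement_def, commutatorElement_def, p3]; group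
      rw [g3, g2, g1]
      have g4 : Commute c' d'⁻¹ := (show Commute c' d' from cdc.symm).inv_right
      calc w * (d'⁻¹ * (d'⁻¹ * c')) * (d'⁻¹ * c') * c'
          = w * (d'⁻¹ * d'⁻¹ * (c' * d'⁻¹) * (c' * c')) := by group
        _ = w * (d'⁻¹ * d'⁻¹ * (d'⁻¹ * c') * (c' * c')) := by rw [g4.eq]
        _ = w * ((d' ^ 3)⁻¹ * c' ^ 3) := by rw [p3, p3]; group
        _ = w * c' ^ 3 := by rw [d3, inv_one, one_mul]
    have h2 : ⁅a ^ 3, b⁆ = w ^ n := by
      have g1 : ⁅a ^ 3, b⁆ = ⁅d' ^ m * e' ^ n, b⁆ := by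
        have := comm_mul_center hz (one_mem (center L)) (d' ^ m * e' ^ n) b
        rw [one_mul, ← qz] at this
        exact this
      have cdb : Commute d' b := commutatorElement_eq_one_iff_mul_comm.1 q2
      have g2 : b * (e' ^ n) * b⁻¹ = w ^ (-n) * e' ^ n := by
        rw [← conj_zpow, beb, ← q14]
        have : Commute w⁻¹ e' := by
          have := commute_center (inv_mem w1) e'
          exact this
        rw [this.mul_zpow, inv_zpow, zpow_neg]
      have g3 : ⁅d' ^ m * e' ^ n, b⁆ = (d' ^ m * e' ^ n) * (b * (d' ^ m) * b⁻¹ * (b * (e' ^ n) * b⁻¹))⁻¹ := by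
        rw [commutatorElement_def]; group
      have g4 : b * (d' ^ m) * b⁻¹ = d' ^ m := by
        rw [((cdb.zpow_left m).symm).eq, mul_inv_cancel_right]
      have hwn : w ^ (-n) ∈ center L := zpow_mem w1 _
      rw [g1, g3, g4, g2]
      calc d' ^ m * e' ^ n * (d' ^ m * (w ^ (-n) * e' ^ n))⁻¹
          = d' ^ m * (e' ^ n * (e' ^ n)⁻¹) * (w ^ (-n))⁻¹ * (d' ^ m)⁻¹ := by
            simp only [mul_inv_rev, mul_assoc]
        _ = d' ^ m * ((w ^ (-n))⁻¹ * (d' ^ m)⁻¹) := by rw [mul_inv_cancel]; group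
        _ = d' ^ m * ((d' ^ m)⁻¹ * (w ^ (-n))⁻¹) := by rw [commute_center (inv_mem hwn)]
        _ = w ^ n := by group
    refine ⟨n - 1, ?_⟩
    rw [h1] at h2
    rw [zpow_sub_one, ← h2, mul_assoc, commute_center hc3', ← mul_assoc, mul_inv_cancel, one_mul]
  -- the subgroup `C`
  have cw : ∀ x : L, w * x = x * w := fun x => commute_center w1 x
  set S : Set L := {c', d', e', w} with hS
  have form : ∀ x ∈ closure S, ∃ i j k l : ℤ, x = c' ^ i * d' ^ j * e' ^ k * w ^ l := by
    intro x hx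
    have s1 : ∀ y ∈ ({d', e', w} : Set L), c' * y = y * c' := by
      intro y hy
      rcases hy with h | h | h
      · rw [h]; exact cdc.symm
      · rw [h]; exact cec.symm
      · rw [Set.mem_singleton_iff.1 h]; exact (cw c').symm
    have s2 : ∀ y ∈ ({e', w} : Set L), d' * y = y * d' := by
      intro y hy
      rcases hy with h | h
      · rw [h]; exact cde
      · rw [Set.mem_singleton_iff.1 h]; exact (cw d').symm
    have s3 : ∀ y ∈ ({w} : Set L), e' * y = y * e' := by
      intro y hy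
      rw [Set.mem_singleton_iff.1 hy]; exact (cw e').symm
    obtain ⟨i, y, hy, hxy⟩ := mem_closure_insert_comm s1 hx
    obtain ⟨j, y', hy', hyy⟩ := mem_closure_insert_comm s2 hy
    obtain ⟨k, y'', hy'', hyy'⟩ := mem_closure_insert_comm s3 hy'
    rw [← zpowers_eq_closure] at hy''
    obtain ⟨l, hl⟩ := mem_zpowers_iff.1 hy''
    refine ⟨i, j, k, l, ?_⟩
    rw [hxy, hyy, hyy', ← hl, mul_assoc, mul_assoc]
  have mc : c' ∈ closure S := subset_closure (by simp [hS])
  have md : d' ∈ closure S := subset_closure (by simp [hS])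
  have me : e' ∈ closure S := subset_closure (by simp [hS])
  have mw : w ∈ closure S := subset_closure (by simp [hS])
  have hle : π.ker ≤ closure S := by
    refine ker_le hπ Nat.prime_three hP (s := {a, b}) ?_ ?_ ?_
    · rwa [Set.image_pair]
    · have key : ∀ x : L, (∀ y ∈ S, x * y * x⁻¹ ∈ closure S) → ∀ y ∈ closure S, x * y * x⁻¹ ∈ closure S := by
        intro x hx y hy
        induction hy using closure_induction with
        | mem y hy => exact hx y hy
        | one => rw [mul_one, mul_inv_cancel]; exact one_mem _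
        | mul y z _ _ h1 h2 =>
          have e : x * (y * z) * x⁻¹ = (x * y * x⁻¹) * (x * z * x⁻¹) := by group
          rw [e]; exact mul_mem h1 h2
        | inv y _ h1 =>
          have e : x * y⁻¹ * x⁻¹ = (x * y * x⁻¹)⁻¹ := by group
          rw [e]; exact inv_mem h1
      rintro x (rfl | rfl)
      · apply key
        rintro y (rfl | rfl | rfl | rfl)
        · rw [aca]; exact mul_mem (inv_mem md) mc
        · rw [ada]; exact mul_mem (inv_mem mw) md
        · rw [aea, q3, inv_one, one_mul]; exact me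
        · rw [← cw, mul_inv_cancel_right]; exact mw
      · apply key
        rintro y (rfl | rfl | rfl | rfl)
        · rw [bcb]; exact mul_mem (inv_mem me) mc
        · rw [bdb, q2, inv_one, one_mul]; exact md
        · rw [beb, ← q14]; exact mul_mem (inv_mem mw) me
        · rw [← cw, mul_inv_cancel_right]; exact mw
    · rintro x (rfl | rfl) y (rfl | rfl)
      · rw [commutatorElement_self]; exact one_mem _
      · rw [hc']; exact mc
      · apply Pairs.swap_mem; rw [hc']; exact mc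
      · rw [commutatorElement_self]; exact one_mem _
  -- the kernel lies in `⟨w⟩`
  have hkw : π.ker ≤ zpowers w := by
    intro x hx
    obtain ⟨i, j, k, l, rfl⟩ := form x (hle hx)
    have hw1 : π w = 1 := by
      rw [hwdef, map_commutatorElement, commutatorElement_eq_one_iff_mul_comm]; exact hda
    rw [MonoidHom.mem_ker, map_mul, map_mul, map_mul, map_zpow, map_zpow, map_zpow, map_zpow, hw1, one_zpow,
      mul_one] at hx
    obtain ⟨⟨i', rfl⟩, ⟨j', rfl⟩, ⟨k', rfl⟩⟩ := hind i j k hx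
    obtain ⟨q, hq⟩ := hcw
    have f1 : c' ^ (3 * i') = w ^ (q * i') := by
      rw [zpow_mul, show c' ^ (3 : ℤ) = c' ^ 3 from zpow_natCast c' 3, hq, ← zpow_mul]
    have f2 : d' ^ (3 * j') = 1 := by
      rw [zpow_mul, show d' ^ (3 : ℤ) = d' ^ 3 from zpow_natCast d' 3, d3, one_zpow]
    have f3 : e' ^ (3 * k') = 1 := by
      rw [zpow_mul, show e' ^ (3 : ℤ) = e' ^ 3 from zpow_natCast e' 3, e3, one_zpow]
    rw [f1, f2, f3, mul_one, mul_one]
    exact mul_mem (zpow_mem (mem_zpowers w) _) (zpow_mem (mem_zpowers w) _)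
  have h9 := Subgroup.card_dvd_of_le hkw
  rw [hcard, Nat.card_zpowers] at h9
  have h10 := h9.trans (orderOf_dvd_of_pow_eq_one w3')
  revert h10
  norm_num

end three

end Cfsg.Agent.H48.Crit
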