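import Mathlib
import Cfsg.Agent.H48.Crit3
import Cfsg.Agent.J3.Simple
import Cfsg.Agent.KFacts.J3Model
import Cfsg.Agent.KFacts.MulSpor.J3

/-!
# `J₃`: the 2-part of the multiplier is trivial, the 3-part has order at most 3, and `3·J₃` is perfect

All fields of order four, in every universe. `a = D_1`, `b = D_i`, `c = E² A_{1+i}`, `d = A_1`, `e = A_i`, `h = B_i`.
-/

set_option autoImplicit false

namespace Cfsg.Agent.H48.J3Three

open Cfsg.Spor Cfsg.Agent.J3.Core Cfsg.Agent.J3.Tab Cfsg.Agent.J3.Mono Cfsg.Agent.J3.Elts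
open Cfsg.Agent.J3.Order Cfsg.Agent.Lib.BitSet Matrix
open Cfsg.Agent.H51.Mult Cfsg.Agent.H48.Crit
open Subgroup
open scoped commutatorElement

/-- tables of the letters `a b h c d e` -/
def lt : ℕ → List ℕ
  | 0 => tD (1, 0)
  | 1 => tD (0, 1)
  | 2 => tB (0, 1)
  | 3 => compT (powT tE 2) (tA (1, 1))
  | 4 => tA (1, 0)
  | _ => tA (0, 1)

/-- table of a word -/
def wt : List ℕ → List ℕ
  | [] => tS 0
  | x :: l => compT (lt x) (wt l)

theorem k_comm : beqL (cols (wt [0, 1])) (cols (wt [3, 1, 0])) = true := by decide +kernel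
theorem k_ca : beqL (cols (wt [3, 0])) (cols (compT (tS 2) (wt [4, 0, 3]))) = true := by decide +kernel
theorem k_cb : beqL (cols (wt [3, 1])) (cols (compT (tS 2) (wt [5, 1, 3]))) = true := by decide +kernel
theorem k_da : beqL (cols (wt [4, 0])) (cols (compT (tS 1) (wt [0, 4]))) = true := by decide +kernel
theorem k_db : beqL (cols (wt [4, 1])) (cols (compT (tS 0) (wt [1, 4]))) = true := by decide +kernel
theorem k_ea : beqL (cols (wt [5, 0])) (cols (compT (tS 0) (wt [0, 5]))) = true := by decide +kernel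
theorem k_eb : beqL (cols (wt [5, 1])) (cols (compT (tS 1) (wt [1, 5]))) = true := by decide +kernel
theorem k_c3 : beqL (cols (wt [3, 3, 3])) (cols (compT (tS 0) (wt []))) = true := by decide +kernel
theorem k_d3 : beqL (cols (wt [4, 4, 4])) (cols (compT (tS 0) (wt []))) = true := by decide +kernel
theorem k_e3 : beqL (cols (wt [5, 5, 5])) (cols (compT (tS 0) (wt []))) = true := by decide +kernel
theorem k_a3 : beqL (cols (wt [0, 0, 0])) (cols (compT (tS 0) (wt [5]))) = true := by decide +kernel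
theorem k_b3 : beqL (cols (wt [1, 1, 1])) (cols (compT (tS 0) (wt [4, 4]))) = true := by decide +kernel
theorem k_ha : beqL (cols (wt [2, 0])) (cols (compT (tS 0) (wt [1, 2]))) = true := by decide +kernel
theorem k_hb : beqL (cols (wt [0, 2, 1])) (cols (compT (tS 0) (wt [2]))) = true := by decide +kernel
theorem k_hd : beqL (cols (wt [2, 4])) (cols (compT (tS 0) (wt [5, 2]))) = true := by decide +kernel
theorem k_he : beqL (cols (wt [4, 2, 5])) (cols (compT (tS 0) (wt [2]))) = true := by decide +kernel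

/-- the word `c^i d^j e^k` -/
def cw (i j k : ℕ) : List ℕ := List.replicate i 3 ++ (List.replicate j 4 ++ List.replicate k 5)

/-- two words have different tables -/
def dif (l m : List ℕ) : Bool :=
  (List.range 9).any fun z => !(Nat.beq ((cols (wt l)).getD z 0) ((cols (wt m)).getD z 0))

theorem idx_z9 : ∀ i, i < 9 → idx (z9 i) = i := by decide

theorem exists_of_dif {l m : List ℕ} (h : dif l m = true) :
    ∃ z : F9, (cols (wt l)).getD (idx z) 0 ≠ (cols (wt m)).getD (idx z) 0 := by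
  unfold dif at h
  rw [List.any_eq_true] at h
  obtain ⟨z, hz, hne⟩ := h
  refine ⟨z9 z, ?_⟩
  rw [idx_z9 z (List.mem_range.1 hz)]
  intro e
  rw [e, Nat.beq_refl] at hne
  exact Bool.noConfusion hne

/-- no nontrivial `c^i d^j e^k` commutes with both `a` and `b` -/
theorem k_ind : ((List.range 3).all fun i => (List.range 3).all fun j => (List.range 3).all fun k =>
    (Nat.beq (i + j + k) 0 || (dif (cw i j k ++ [0]) (0 :: cw i j k) || dif (cw i j k ++ [1]) (1 :: cw i j k)))) =
      true := by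
  decide +kernel

theorem k_ind' {i j k : ℕ} (hi : i < 3) (hj : j < 3) (hk : k < 3) : (i = 0 ∧ j = 0 ∧ k = 0) ∨
    (∃ z : F9, (cols (wt (cw i j k ++ [0]))).getD (idx z) 0 ≠ (cols (wt (0 :: cw i j k))).getD (idx z) 0) ∨
    (∃ z : F9, (cols (wt (cw i j k ++ [1]))).getD (idx z) 0 ≠ (cols (wt (1 :: cw i j k))).getD (idx z) 0) := by
  have h1 := List.all_eq_true.1 (List.all_eq_true.1 (List.all_eq_true.1 k_ind i (List.mem_range.2 hi)) j
    (List.mem_range.2 hj)) k (List.mem_range.2 hk)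
  rw [Bool.or_eq_true, Bool.or_eq_true] at h1
  rcases h1 with h1 | h1 | h1
  · left
    have := Nat.eq_of_beq_eq_true h1
    omega
  · right; left; exact exists_of_dif h1
  · right; right; exact exists_of_dif h1

section

variable {F : Type*} [Field F] {ω : F} (G : Gens F ω)

/-- the letters -/
def lg : ℕ → threeJ3 F ω
  | 0 => G.d (1, 0)
  | 1 => G.d (0, 1)
  | 2 => G.b (0, 1)
  | 3 => G.e ^ 2 * G.a (1, 1)
  | 4 => G.a (1, 0)
  | _ => G.a (0, 1)

/-- the element of a word -/
def wd (l : List ℕ) : threeJ3 F ω := (l.map (lg G)).prod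

theorem wd_append (l m : List ℕ) : wd G (l ++ m) = wd G l * wd G m := by
  unfold wd; rw [List.map_append, List.prod_append]

theorem wd_cons (x : ℕ) (l : List ℕ) : wd G (x :: l) = lg G x * wd G l := by
  unfold wd; rw [List.map_cons, List.prod_cons]

theorem wd_nil : wd G [] = 1 := rfl

theorem wd_one (x : ℕ) : wd G [x] = lg G x := by rw [wd_cons, wd_nil, mul_one]

variable {G}

theorem rep_lg (H : Good ω) : ∀ x, RepG ω (lt x) (lg G x)
  | 0 => rD G H _
  | 1 => rD G H _
  | 2 => rB G H _ (by decide)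
  | 3 => ((rE G H).pow H 2).mul (rA G H _)
  | 4 => rA G H _
  | (_ + 5) => rA G H _

theorem rep_wd (H : Good ω) : ∀ l, RepG ω (wt l) (wd G l)
  | [] => repG_one H
  | x :: l => by rw [wd_cons]; exact (rep_lg H x).mul (rep_wd H l)

theorem wd_eq (H : Good ω) {l m : List ℕ} (h : beqL (cols (wt l)) (cols (wt m)) = true) : wd G l = wd G m :=
  (rep_wd H l).ext (rep_wd H m) (beqL_eq h)

theorem wd_eqS (H : Good ω) {l m : List ℕ} {s : ℕ} (hs : s < 3)
    (h : beqL (cols (wt l)) (cols (compT (tS s) (wt m))) = true) : mat ω (wd G l) = ω ^ s • mat ω (wd G m) := by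
  have h1 : Rep ω (compT (tS s) (wt m)) ((ω ^ s • (1 : Matrix F9 F9 F)) * mat ω (wd G m)) :=
    (repS H s hs).mul (rep_wd H m)
  have h2 : mat ω (wd G l) = (ω ^ s • (1 : Matrix F9 F9 F)) * mat ω (wd G m) :=
    Rep.ext (rep_wd H l) h1 (beqL_eq h)
  rw [h2, smul_mul_assoc, one_mul]

theorem wd_eq0 (H : Good ω) {l m : List ℕ}
    (h : beqL (cols (wt l)) (cols (compT (tS 0) (wt m))) = true) : wd G l = wd G m := by
  apply mat_injective
  rw [wd_eqS H (by norm_num) h, pow_zero, one_smul]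

/-- scalar matrices are central -/
theorem mem_center_of_mat {x : threeJ3 F ω} {r : F} (h : mat ω x = r • 1) : x ∈ center (threeJ3 F ω) := by
  rw [mem_center_iff]
  intro g
  apply mat_injective
  rw [map_mul, map_mul, h, mul_smul_comm, smul_mul_assoc, one_mul, mul_one]

/-- the projection -/
def pr (F : Type*) [Field F] (ω : F) : threeJ3 F ω →* J3 F ω := QuotientGroup.mk' (center (threeJ3 F ω))

theorem pr_surjective : Function.Surjective (pr F ω) := QuotientGroup.mk'_surjective _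

theorem ker_pr : (pr F ω).ker = center (threeJ3 F ω) := QuotientGroup.ker_mk' _

theorem pr_eqS (H : Good ω) {l m : List ℕ} {s : ℕ} (hs : s < 3)
    (h : beqL (cols (wt l)) (cols (compT (tS s) (wt m))) = true) : pr F ω (wd G l) = pr F ω (wd G m) := by
  have h1 := wd_eqS (G := G) H hs h
  have h2 : mat ω (wd G l * (wd G m)⁻¹) = ω ^ s • 1 := by
    rw [map_mul, h1, smul_mul_assoc, ← map_mul, mul_inv_cancel, map_one]
  have h3 : wd G l * (wd G m)⁻¹ ∈ (pr F ω).ker := by rw [ker_pr]; exact mem_center_of_mat h2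
  rw [MonoidHom.mem_ker, map_mul, map_inv, mul_inv_eq_one] at h3
  exact h3

theorem wd_ne (H : Good ω) {l m : List ℕ} (h : ∃ z : F9, (cols (wt l)).getD (idx z) 0 ≠ (cols (wt m)).getD (idx z) 0) :
    wd G l ≠ wd G m := by
  obtain ⟨z, hz⟩ := h
  intro e
  apply hz
  have h1 := rep_wd (G := G) H l
  rw [e] at h1
  exact RepG.cols_eq H h1 (rep_wd H m) z

theorem wd_replicate (x n : ℕ) : wd G (List.replicate n x) = lg G x ^ n := by
  unfold wd
  rw [List.map_replicate, List.prod_replicate]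

theorem wd_cw (i j k : ℕ) : wd G (cw i j k) = lg G 3 ^ i * (lg G 4 ^ j * lg G 5 ^ k) := by
  unfold cw
  rw [wd_append, wd_append, wd_replicate, wd_replicate, wd_replicate]

variable (G) in
/-- images in `J₃` -/
def q (x : ℕ) : J3 F ω := pr F ω (lg G x)

theorem q2 (H : Good ω) {x y x' y' : ℕ} {s : ℕ} (hs : s < 3)
    (h : beqL (cols (wt [x, y])) (cols (compT (tS s) (wt [x', y']))) = true) : q G x * q G y = q G x' * q G y' := by
  have h1 := pr_eqS (G := G) H hs h
  rw [wd_cons, wd_one, wd_cons, wd_one, map_mul, map_mul] at h1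
  exact h1

theorem independent (H : Good ω) (i j k : ℤ) (h : q G 3 ^ i * q G 4 ^ j * q G 5 ^ k = 1) : 3 ∣ i ∧ 3 ∣ j ∧ 3 ∣ k := by
  have c3 : q G 3 ^ 3 = 1 := by
    have h1 := pr_eqS (G := G) H (by norm_num) k_c3
    rw [wd_nil, map_one, wd_cons, wd_cons, wd_one, map_mul, map_mul] at h1
    rw [pow_succ, pow_two, mul_assoc]; exact h1
  have d3 : q G 4 ^ 3 = 1 := by
    have h1 := pr_eqS (G := G) H (by norm_num) k_d3
    rw [wd_nil, map_one, wd_cons, wd_cons, wd_one, map_mul, map_mul] at h1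
    rw [pow_succ, pow_two, mul_assoc]; exact h1
  have e3 : q G 5 ^ 3 = 1 := by
    have h1 := pr_eqS (G := G) H (by norm_num) k_e3
    rw [wd_nil, map_one, wd_cons, wd_cons, wd_one, map_mul, map_mul] at h1
    rw [pow_succ, pow_two, mul_assoc]; exact h1
  have red : ∀ (x : J3 F ω), x ^ 3 = 1 → ∀ n : ℤ, x ^ n = x ^ (n % 3).toNat := by
    intro x hx n
    rw [← zpow_natCast, Int.toNat_of_nonneg (Int.emod_nonneg _ (by norm_num))]
    conv_lhs => rw [← Int.emod_add_mul_ediv n 3]
    rw [_root_.zpow_add, _root_.zpow_mul, show x ^ (3 : ℤ) = x ^ 3 from zpow_natCast x 3, hx, _root_.one_zpow, mul_one]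
  rw [red _ c3, red _ d3, red _ e3] at h
  have hlt : ∀ n : ℤ, (n % 3).toNat < 3 := fun n => by
    have := Int.emod_lt_of_pos n (by norm_num : (0 : ℤ) < 3)
    have := Int.emod_nonneg n (by norm_num : (3 : ℤ) ≠ 0)
    omega
  have hx : wd G (cw (i % 3).toNat (j % 3).toNat (k % 3).toNat) ∈ center (threeJ3 F ω) := by
    rw [← ker_pr, MonoidHom.mem_ker, wd_cw, map_mul, map_mul, map_pow, map_pow, map_pow, ← mul_assoc]
    exact h
  have hcomm := fun x => (mem_center_iff.1 hx (lg G x)).symm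
  rcases k_ind' (hlt i) (hlt j) (hlt k) with ⟨h1, h2, h3⟩ | h1 | h1
  · have := Int.emod_nonneg i (by norm_num : (3 : ℤ) ≠ 0)
    have := Int.emod_nonneg j (by norm_num : (3 : ℤ) ≠ 0)
    have := Int.emod_nonneg k (by norm_num : (3 : ℤ) ≠ 0)
    omega
  · exfalso
    apply wd_ne (G := G) H h1
    rw [wd_append, wd_one, wd_cons]
    exact hcomm 0
  · exfalso
    apply wd_ne (G := G) H h1
    rw [wd_append, wd_one, wd_cons]
    exact hcomm 1

theorem bd_three [Fintype F] (hF : Fintype.card F = 4) (H : Good ω) : Bd 3 1 (J3 F ω) := by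
  obtain ⟨G⟩ := exists_gens hF H
  have hcard := Cfsg.Agent.J3.Simple.card_J3 hF H
  have hfin : Finite (J3 F ω) := Nat.finite_of_card_ne_zero (by rw [hcard]; norm_num)
  have hab : ⁅q G 0, q G 1⁆ = q G 3 := by
    have h1 := congrArg (pr F ω) (wd_eq (G := G) H k_comm)
    rw [wd_cons, wd_one, wd_cons, wd_cons, wd_one, map_mul, map_mul, map_mul] at h1
    have h2 : q G 0 * q G 1 = q G 3 * (q G 1 * q G 0) := h1
    rw [commutatorElement_def, h2]; group
  have r3 : ∀ {x y z : ℕ} {s : ℕ} (_ : s < 3)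
      (_ : beqL (cols (wt [x, y])) (cols (compT (tS s) (wt [z, y, x]))) = true), ⁅q G x, q G y⁆ = q G z := by
    intro x y z s hs h
    have h1 := pr_eqS (G := G) H hs h
    rw [wd_cons, wd_one, wd_cons, wd_cons, wd_one, map_mul, map_mul, map_mul] at h1
    have h2 : q G x * q G y = q G z * (q G y * q G x) := h1
    rw [commutatorElement_def, h2]; group
  have cube : ∀ {x : ℕ} {s : ℕ} {l : List ℕ} (_ : s < 3)
      (_ : beqL (cols (wt [x, x, x])) (cols (compT (tS s) (wt l))) = true), q G x ^ 3 = pr F ω (wd G l) := by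
    intro x s l hs h
    have h1 := pr_eqS (G := G) H hs h
    rw [← h1, wd_cons, wd_cons, wd_one, map_mul, map_mul, pow_succ, pow_two, mul_assoc]
    rfl
  have hca := r3 (by norm_num) k_ca
  have hcb := r3 (by norm_num) k_cb
  have hda := q2 (G := G) H (by norm_num) k_da
  have hdb := q2 (G := G) H (by norm_num) k_db
  have hea := q2 (G := G) H (by norm_num) k_ea
  have heb := q2 (G := G) H (by norm_num) k_eb
  have c3 : q G 3 ^ 3 = 1 := by rw [cube (by norm_num) k_c3, wd_nil, map_one]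
  have d3 : q G 4 ^ 3 = 1 := by rw [cube (by norm_num) k_d3, wd_nil, map_one]
  have e3 : q G 5 ^ 3 = 1 := by rw [cube (by norm_num) k_e3, wd_nil, map_one]
  have a3 : q G 0 ^ 3 = q G 5 := by rw [cube (by norm_num) k_a3, wd_one]; rfl
  have b3 : q G 1 ^ 3 = q G 4 * q G 4 := by rw [cube (by norm_num) k_b3, wd_cons, wd_one, map_mul]; rfl
  have ha9 : q G 0 ^ 3 ^ 2 = 1 := by rw [show 3 ^ 2 = 3 * 3 by norm_num, pow_mul, a3, e3]
  have hb9 : q G 1 ^ 3 ^ 2 = 1 := by
    rw [show 3 ^ 2 = 3 * 3 by norm_num, pow_mul, b3, ← pow_two, ← pow_mul, mul_comm, pow_mul, d3, one_pow]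
  have hha : q G 2 * q G 0 = q G 1 * q G 2 := q2 (G := G) H (by norm_num) k_ha
  have hhd : q G 2 * q G 4 = q G 5 * q G 2 := q2 (G := G) H (by norm_num) k_hd
  have hhb : q G 0 * (q G 2 * q G 1) = q G 2 := by
    have h1 := pr_eqS (G := G) H (by norm_num) k_hb
    rw [wd_cons, wd_cons, wd_one, wd_one, map_mul, map_mul] at h1
    exact h1
  have hhe : q G 4 * (q G 2 * q G 5) = q G 2 := by
    have h1 := pr_eqS (G := G) H (by norm_num) k_he
    rw [wd_cons, wd_cons, wd_one, wd_one, map_mul, map_mul] at h1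
    exact h1
  have hind := independent (G := G) H
  have h35 := three_pow_five hab hca hcb hda hdb hea heb c3 ⟨2, ha9⟩ ⟨2, hb9⟩ hind
  have hidx : ¬ 3 ∣ (closure ({q G 0, q G 1} : Set (J3 F ω))).index :=
    index_not_dvd Nat.prime_three h35 (by rw [hcard]; norm_num)
  refine Cfsg.Agent.H48.Crit.bd_three (h := q G 2) (m := 0) (n := 1) (i₁ := 0) (j₁ := 0) (k₁ := 0) (i₂ := 0)
    (j₂ := 0) (k₂ := 0) hab hca hcb hda hdb hea heb c3 ?_ hind ?_ ?_ ?_ ?_ hidx
  · rw [zpow_zero, one_mul, zpow_one]; exact a3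
  · simp only [zpow_zero, mul_one]; rw [hha, mul_inv_cancel_right]
  · simp only [zpow_zero, mul_one]
    rw [eq_inv_iff_mul_eq_one, mul_inv_eq_iff_eq_mul.2 ?_]
    · exact inv_mul_cancel (q G 0)
    · rw [eq_inv_mul_iff_mul_eq]; exact hhb
  · rw [hhd, mul_inv_cancel_right]
  · rw [mul_inv_eq_iff_eq_mul, eq_inv_mul_iff_mul_eq]; exact hhe

/-- **`3·J₃` is a perfect central extension.** -/
theorem pce [Fintype F] (hF : Fintype.card F = 4) (H : Good ω) : PCE (pr F ω) := by
  obtain ⟨G⟩ := exists_gens hF H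
  have hcard := Cfsg.Agent.J3.Simple.card_J3 hF H
  have hsim := Cfsg.Agent.J3.Simple.simple_J3 hF H
  have hX : commutator (J3 F ω) = ⊤ := perfect_of_simple (by rw [hcard]; norm_num)
  apply PCE.of_stem _ hX
  refine ⟨pr_surjective, by rw [ker_pr], ?_⟩
  -- `⁅d, a⁆ = ω`
  have h1 := wd_eqS (G := G) H (by norm_num) k_da
  rw [wd_cons, wd_one, wd_cons, wd_one, pow_one] at h1
  have hs : mat ω ⁅lg G 4, lg G 0⁆ = ω • 1 := by
    rw [commutatorElement_def, mul_assoc, ← _root_.mul_inv_rev, map_mul, h1, smul_mul_assoc, ← map_mul, mul_inv_cancel,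
      map_one]
  rw [ker_pr, Cfsg.Agent.J3.Nineteen.center_eq hF H hs, zpowers_le]
  exact commutator_mem_commutator (mem_top _) (mem_top _)

open Cfsg.Agent.J2Type.Model Cfsg.Agent.J3Type.OneClass Cfsg.Agent.KFacts.J3W Cfsg.Agent.J2Type.CStruct in
/-- one class of involutions, and a model of the centraliser, for `J₃` over any field of order 4 -/
theorem model_oneClass [Fintype F] (hF : Fintype.card F = 4) (H : Good ω) : ∃ t : J3 F ω, HasModel t ∧
    ∀ x y : J3 F ω, orderOf x = 2 → orderOf y = 2 → IsConj x y := by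
  obtain ⟨G⟩ := exists_gens hF H
  have hf : Function.Surjective (pr F ω) := pr_surjective
  have hk : (pr F ω).ker = center _ := ker_pr
  obtain ⟨f, hfdef⟩ : ∃ f, f = pr F ω := ⟨_, rfl⟩
  rw [← hfdef] at hf hk
  have hcK := card_K hF H hf hk
  have hfin : Finite (J3 F ω) := by
    apply Nat.finite_of_card_ne_zero
    rw [hcK]; norm_num
  obtain ⟨hMod, Q, ρ, M⟩ := j3_model (G := G) hF H hf hk
  have hcard := hMod.2.1
  let u : centralizer ({f (zz G)} : Set (J3 F ω)) := ⟨f (uu G), mem_centralizer_singleton_iff.2 (hmul (uz H))⟩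
  have hconj : ∀ {x : threeJ3 F ω}, (∃ g, g * zz G = x * g) → ∃ g : J3 F ω, g * f (zz G) * g⁻¹ = f x := by
    rintro x ⟨g, hg⟩
    refine ⟨f g, ?_⟩
    rw [← map_mul, hg, map_mul, mul_inv_cancel_right]
  have huv : ∀ i, u * (⟨f (vv G i), mem_centralizer_singleton_iff.2 (hmul (vz H i))⟩ :
        centralizer ({f (zz G)} : Set (J3 F ω))) =
      zp (zc (f (zz G))) (sg (Cfsg.Agent.J3.Tab.get 0 ua i)) *
      (⟨f (vv G ((Equiv.swap 0 3 * Equiv.swap 2 4 : Equiv.Perm (Fin 5)) i)),
        mem_centralizer_singleton_iff.2 (hmul (vz H _))⟩ : centralizer ({f (zz G)} : Set (J3 F ω))) * u := by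
    intro i
    apply Subtype.ext
    have h1 := congrArg f (ua_eq (G := G) H i)
    rw [map_mul, map_mul, map_mul, f_zp] at h1
    have h2 : ∀ a, ((zp (zc (f (zz G))) a : centralizer ({f (zz G)} : Set (J3 F ω))) : J3 F ω) = zp (f (zz G)) a := by
      intro a
      rcases zmod2_cases a with rfl | rfl
      · rw [zp_zero, zp_zero]; rfl
      · rw [zp_one, zp_one]
    show f (uu G) * f (vv G i) = ((zp (zc (f (zz G))) (sg (Cfsg.Agent.J3.Tab.get 0 ua i)) :
      centralizer ({f (zz G)} : Set (J3 F ω))) : J3 F ω) * f (vv G _) * f (uu G)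
    rw [h2]
    exact h1
  have huQ : u ∉ Q := by
    rw [M.mem_Q]
    intro h1
    have h2 := M.conj u 0
    rw [mul_inv_eq_iff_eq_mul, huv 0, h1] at h2
    have h3 := (M.v_inj _ _ _ _ (mul_right_cancel h2)).2
    exact absurd h3 (by decide)
  have huu : u * u = 1 := by
    -- `u` is conjugate to `z`
    obtain ⟨g, hg⟩ := hconj (uconj (G := G) H)
    apply Subtype.ext
    show f (uu G) * f (uu G) = 1
    rw [← hg]
    have hzz : f (zz G) * f (zz G) = 1 := by rw [← map_mul, zsq H, map_one]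
    calc g * f (zz G) * g⁻¹ * (g * f (zz G) * g⁻¹) = g * (f (zz G) * f (zz G)) * g⁻¹ := by group
      _ = 1 := by rw [hzz]; group
  have hidx : ¬ 2 ∣ (centralizer ({f (zz G)} : Set (J3 F ω))).index := by
    have h1 := Subgroup.card_mul_index (centralizer ({f (zz G)} : Set (J3 F ω)))
    rw [hcard, hcK] at h1
    omega
  have hone : ∀ x : J3 F ω, orderOf x = 2 → IsConj (f (zz G)) x := by
    intro x hx
    have hx1 : x ≠ 1 := fun e => by rw [e, orderOf_one] at hx; omega
    have hx2 : x * x = 1 := by rw [← pow_two, ← hx, pow_orderOf_eq_one]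
    obtain ⟨g, hg⟩ := Cfsg.Agent.KFacts.OneClassOf.one_class hidx M (hconj (vconj (G := G) H 0)) huu huQ
      (hconj (uconj (G := G) H)) hx1 hx2
    exact isConj_iff.2 ⟨g, hg⟩
  exact ⟨f (zz G), hMod, fun x y hx hy => (hone x hx).symm.trans (hone y hy)⟩

/-- **`J₃` has no perfect double cover.** -/
theorem noDouble [Fintype F] (hF : Fintype.card F = 4) (H : Good ω) :
    Cfsg.Agent.KFacts.MulDef.NoDouble (J3 F ω) := by
  obtain ⟨t, hM, hone⟩ := model_oneClass hF H
  exact Cfsg.Agent.KFacts.MulSpor.J3.noDouble hM hone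

end

end Cfsg.Agent.H48.J3Three
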