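import Cfsg.Agent.H905.MdG
import Cfsg.Agent.H610.ChevRegular
import Cfsg.Agent.Nodes.RGDTwD4
import Cfsg.Agent.Nodes.RGDChev
import Cfsg.Agent.H905.MdH
import Cfsg.Agent.H915.LD
import Cfsg.Agent.S2100
import Cfsg.Agent.S2101
import Cfsg.Agent.S2102
import Cfsg.Agent.S2110

/-!
# `G₂(q)` and `³D₄(q)` in the defining characteristic: self-duality (helper48)

* `word_conj` : conjugation of root elements by words in the `n_i`;
* `word_inv` : a word over `-1` inverts the torus;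
* `g2_equiv`, `d4_equiv` : `P` is isomorphic to the simple group;
* **`g2_sd`**, **`d4_sd`** : `SD P`.
-/

set_option autoImplicit false
set_option linter.unusedSectionVars false

universe u v w

namespace Cfsg.Agent.H48.DsChev

open CoxeterSystem Cfsg.Agent.ChevalleyStructure.CoxeterGeom Cfsg.Agent.Tits.Roots Cfsg.Agent.Tits.Core
  Cfsg.Agent.Nodes.Reps Cfsg.Agent.Nodes.BNOf Cfsg.Agent.Nodes.RGDChev Cfsg.Agent.Nodes.Bruhat
  Cfsg.Agent.Nodes.RGDFold
open Cfsg.Lie Cfsg.Agent.ChevalleyStructure.Elts Cfsg.Agent.ChevalleyStructure.RootCombGood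
open Cfsg.Agent.ChevalleyStructure Cfsg.Agent.ChevalleyStructure.CoxeterGeomTypes Cfsg.Agent.H610.ChevRegular
open scoped MatrixGroups

section Word

variable {D : ChevalleyDatum} {l : ℕ} {M : CoxeterMatrix (Fin l)} (hp : IsType D l M) {K : Type u} [Field K]

theorem word_conj (ω : List (Fin l)) {r : ℕ} (hr : r < D.nroots) : ∃ η : K, η ≠ 0 ∧
    ∀ t : K, nI hp K ω * xG hp.inList r t * (nI hp K ω)⁻¹ = xG hp.inList (wp D ω r) (η * t) := by
  induction ω with
  | nil => exact ⟨1, one_ne_zero, fun t => by simp [nI, wp]⟩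
  | cons i ω ih =>
    obtain ⟨η, h0, h⟩ := ih
    obtain ⟨ε, hε, h1⟩ := Cfsg.Agent.S1031.result (F := K) D hp.inList i (wp D ω r) (lt_rank hp i) (wp_lt hp ω hr)
    have hε0 : ((ε : ℤ) : K) ≠ 0 := by
      rcases hε with rfl | rfl <;> simp
    refine ⟨(ε : K) * η, mul_ne_zero hε0 h0, fun t => ?_⟩
    rw [nI_cons, mul_inv_rev]
    have e : nn hp K i * nI hp K ω * xG hp.inList r t * ((nI hp K ω)⁻¹ * (nn hp K i)⁻¹) =
        nn hp K i * (nI hp K ω * xG hp.inList r t * (nI hp K ω)⁻¹) * (nn hp K i)⁻¹ := by group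
    rw [e, h, mul_inv_eq_iff_eq_mul]
    apply Units.ext
    have h2 := h1 (η * t)
    rw [← mul_assoc] at h2
    exact h2

/-- A word over `-1` inverts the torus. -/
theorem word_inv (ω : List (Fin l)) (hω : ∀ r < D.nroots, wp D ω r = D.neg r) {h : GL D.Idx K}
    (hh : h ∈ D.diagonalSubgroup K) : (nI hp K ω)⁻¹ * h⁻¹ * nI hp K ω = h := by
  have hD := hp.inList
  set g := nI hp K ω with hg
  obtain ⟨χ, hχ⟩ := exists_chi hD hh
  have hgn : g⁻¹ * h⁻¹ * g ∈ D.diagonalSubgroup K := by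
    have h1 : g⁻¹ ∈ Subgroup.normalizer (D.diagonalSubgroup K : Set (GL D.Idx K)) :=
      inv_mem (monomial_le hp (nI_mem hp K ω))
    have h2 := (Subgroup.mem_normalizer_iff.1 h1 h⁻¹).1 (inv_mem hh)
    rwa [inv_inv] at h2
  obtain ⟨χ', hχ'⟩ := exists_chi hD hgn
  have hneg : ∀ s < D.nroots, χ (D.neg s) = (χ s)⁻¹ := by
    intro s hs
    have h1 := hχ.prod (D.neg s) (NPerm.neg_lt hD hs)
    have h2 := hχ.prod s hs
    rw [h1, h2, ← Finset.prod_inv_distrib]
    refine Finset.prod_congr rfl fun j _ => ?_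
    rw [RootVec.rt_neg hp.checked hs, zpow_neg]
  have hkey : ∀ s < D.nroots, χ' s = χ s := by
    intro s hs
    obtain ⟨η, h0, h1⟩ := word_conj hp ω (K := K) hs
    rw [hω s hs] at h1
    have h2 : ∀ t, g⁻¹ * xG hD (D.neg s) t * g = xG hD s (η⁻¹ * t) := by
      intro t
      have h3 := h1 (η⁻¹ * t)
      rw [mul_inv_cancel_left₀ h0, ← hg] at h3
      rw [← h3]; group
    have h3 := hχ'.conj s hs 1
    have h4 : g⁻¹ * h⁻¹ * g * xG hD s 1 * (g⁻¹ * h⁻¹ * g)⁻¹ = xG hD s (χ s) := by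
      have h5 : g⁻¹ * h⁻¹ * g * xG hD s 1 * (g⁻¹ * h⁻¹ * g)⁻¹ = g⁻¹ * (h⁻¹ * (g * xG hD s 1 * g⁻¹) * h) * g := by
        group
      have h6 : h⁻¹ * xG hD (D.neg s) (η * 1) * h = xG hD (D.neg s) (χ s * (η * 1)) := by
        have h7 := hχ.conj (D.neg s) (NPerm.neg_lt hD hs) (χ s * (η * 1))
        rw [hneg s hs, inv_mul_cancel_left₀ (hχ.ne s)] at h7
        rw [← h7]; group
      rw [h5, h1, h6, h2]
      congr 1
      field_simp
    rw [h3, mul_one] at h4
    exact xG_injective hD hs h4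
  apply Units.ext
  rw [hχ'.mat, hχ.mat]
  congr 1
  funext v
  rcases v with j | s
  · rfl
  · exact hkey s.1 s.2

include hp in
theorem diag_comm {a b : GL D.Idx K} (ha : a ∈ D.diagonalSubgroup K) (hb : b ∈ D.diagonalSubgroup K) :
    a * b = b * a := by
  obtain ⟨χ, hχ⟩ := exists_chi hp.inList ha
  obtain ⟨χ', hχ'⟩ := exists_chi hp.inList hb
  apply Units.ext
  rw [Units.val_mul, Units.val_mul, hχ.mat, hχ'.mat, Matrix.diagonal_mul_diagonal, Matrix.diagonal_mul_diagonal]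
  congr 1
  funext v
  exact mul_comm _ _

theorem nI_append (o o' : List (Fin l)) : nI hp K (o ++ o') = nI hp K o * nI hp K o' := by
  unfold nI
  rw [List.map_append, List.prod_append]

end Word

/-! ### `-1` in the Weyl group of type `G₂` -/

section G2

variable {W : Type*} [Group W] (cs : CoxeterSystem CoxeterMatrix.G₂ W) {A : Fin 2 → Fin 2 → ℤ}
  (h : IsCartan CoxeterMatrix.G₂ A)

theorem rep_neg (x : Fin 2 → ℤ) : rep cs h ((cs.simple 0 * cs.simple 1) ^ 3) x = -x := by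
  have hA : A 0 1 * A 1 0 = 3 := by
    rcases h.rel 0 1 (by decide) with h1 | h1 | h1 | h1
    · exact absurd h1.1 (by decide)
    · exact absurd h1.1 (by decide)
    · exact absurd h1.1 (by decide)
    · rcases h1.2 with ⟨h2, h3⟩ | ⟨h2, h3⟩ <;> rw [h2, h3] <;> norm_num
  have h00 := h.diag 0
  have h11 := h.diag 1
  have key : ∀ y : Fin 2 → ℤ, rep cs h (cs.simple 0 * cs.simple 1) y =
      ![2 * y 0 + A 0 1 * y 1, -y 1 - A 1 0 * y 0] := by
    intro y
    rw [rep_mul_apply, rep_simple_eq, rep_simple_eq]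
    have e1 : y - pairing A 1 y • (sr 1 : Fin 2 → ℤ) = ![y 0, -y 1 - A 1 0 * y 0] := by
      funext i
      fin_cases i
      · simp [pairing, Fin.sum_univ_two, sr]
      · simp [pairing, Fin.sum_univ_two, sr, h11]; ring
    rw [e1]
    funext i
    fin_cases i
    · simp [pairing, Fin.sum_univ_two, sr, h00]
      linear_combination (y 0) * hA
    · simp [pairing, Fin.sum_univ_two, sr]
  have e : ∀ (u : W) (y : Fin 2 → ℤ), rep cs h (u ^ 3) y = rep cs h u (rep cs h u (rep cs h u y)) := by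
    intro u y
    rw [pow_succ', pow_two, rep_mul_apply, rep_mul_apply]
  rw [e, key, key, key]
  funext i
  fin_cases i
  · simp
    linear_combination (-(A 0 1) * x 1 - 3 * x 0) * hA
  · simp
    linear_combination (A 1 0 * x 0) * hA

theorem rp_three {Y : Type*} [Group Y] {T : Subgroup Y} {n : Fin 2 → Y} (hN : NSys CoxeterMatrix.G₂ T n) :
    Rp cs hN ((cs.simple 0 * cs.simple 1) ^ 3) ((n 0 * n 1) ^ 3) := by
  have h1 := (rp_simple cs hN 0).mul (rp_simple cs hN 1)
  have h2 := h1.mul (h1.mul h1)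
  rwa [← pow_two, ← pow_succ', ← pow_two, ← pow_succ'] at h2

end G2

/-! ### cores -/

section SD

open Cfsg Cfsg.Geo Matrix Cfsg.Agent.H905.Md Cfsg.Agent.H915.LD Cfsg.Agent.Nodes.RGDLib

variable {ι : Type} [Fintype ι] [DecidableEq ι] {F : Type u} [Field F] [Finite F] {P : Subgroup (GL ι F)}
  (p : ℕ) [hp : Fact p.Prime] [CharP F p]

/-- `P` is isomorphic to the simple group when the multiplier is a `p`-group. -/
theorem equiv_of_pmult (hC : Core P) {T : Type v} [Group T] (e : Soc P ≃* T) {A : Type w} [CommGroup A]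
    (hA : HasSchurMultiplier T A) (hd : ∀ d, d ∣ Nat.card A → d.Coprime p → d = 1) :
    ∃ e' : P ≃* T, ∀ x, e' x = e (toSoc P x) := by
  have h1 : (scalars ι F).subgroupOf P = ⊥ := by
    rw [← Subgroup.card_eq_one]
    exact hd _ (hC.card_scalars_dvd e hA) (card_scalars_coprime P)
  have h2 : Function.Injective (e.toMonoidHom.comp (toSoc P)) := by
    rw [← MonoidHom.ker_eq_bot_iff]
    exact (ker_comp e).trans h1
  exact ⟨MulEquiv.ofBijective _ ⟨h2, e.surjective.comp (toSoc_surjective P)⟩, fun x => rfl⟩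

theorem equiv_of_pcyclic (hC : Core P) {T : Type v} [Group T] (e : Soc P ≃* T) {m : ℕ}
    (hA : HasCyclicSchurMultiplier T m) (hd : ∀ d, d ∣ m → d.Coprime p → d = 1) :
    ∃ e' : P ≃* T, ∀ x, e' x = e (toSoc P x) := by
  refine equiv_of_pmult p hC e hA fun d h => hd d ?_
  rwa [Nat.card_congr (Multiplicative.toAdd (α := ZMod m)), Nat.card_zmod] at h

theorem gg_top {I W Y : Type*} [Fintype I] [DecidableEq I] [Group W] [Group Y] {M : CoxeterMatrix I}
    {cs : CoxeterSystem M W} {A : I → I → ℤ} {h : IsCartan M A} {T : Subgroup Y}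
    {X : (I → ℤ) → Subgroup Y} (hG : G1 cs h X = ⊤) : GG cs h T X = ⊤ := by
  rw [eq_top_iff, ← hG]
  exact le_sup_right

/-- Self-duality from a root group datum whose torus is inverted by an element over `-1`. -/
theorem sd_of_rgd (hC : Core P) {Y : Type v} [Group Y] [Finite Y] (f : Y ≃* P) {I : Type} [Fintype I]
    [DecidableEq I] {W : Type} [Group W] [Finite W] {M : CoxeterMatrix I} {cs : CoxeterSystem M W}
    {A : I → I → ℤ} {h : IsCartan M A} {T : Subgroup Y} {n : I → Y} {X : (I → ℤ) → Subgroup Y}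
    (R : RGD cs h p T n X) (hG : G1 cs h X = ⊤) (hT : ∀ s ∈ T, ∀ t ∈ T, s * t = t * s)
    {w0 : W} (hw0 : ∀ x, rep cs h w0 x = -x) {w' : Y} (hw : Rp cs R.nsys w0 w')
    (ht : ∀ t ∈ T, w'⁻¹ * t⁻¹ * w' = t) : SD P := by
  have hne := hC.nonempty
  intro g hg
  have hφ : (P.subtype.comp f.toMonoidHom).range = P := by
    rw [MonoidHom.range_comp, MonoidHom.range_eq_top.2 f.surjective, ← MonoidHom.range_eq_map,
      Subgroup.range_subtype]
  have h1 := trace_inv_pow R (gg_top hG) hT hφ hC.absIrred hw0 hw (a := 0) (fun t h2 => by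
    rw [pow_zero, pow_one]; exact ht t h2) hg
  rw [pow_zero, pow_one] at h1
  exact h1

theorem g2_equiv (hC : Core P) {K : Type} [Field K] [Fintype K] [CharP K p] (h3 : 3 ≤ Fintype.card K)
    (e : Soc P ≃* chevG2.group K) : Nonempty (P ≃* chevG2.group K) := by
  have hpK : p ∣ Fintype.card K := by
    obtain ⟨k, -, hk⟩ := FiniteField.card K p
    rw [hk]; exact dvd_pow_self _ k.ne_zero
  rcases (show Fintype.card K = 3 ∨ Fintype.card K = 4 ∨ 5 ≤ Fintype.card K by omega) with h | h | h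
  · obtain ⟨f, -⟩ := equiv_of_pcyclic p hC e (S2101.result h) (fun d hd hc => by
      rw [h] at hpK
      obtain rfl := (Nat.prime_dvd_prime_iff_eq hp.out Nat.prime_three).1 hpK
      rcases (Nat.dvd_prime Nat.prime_three).1 hd with h1 | h1
      · exact h1
      · subst h1; simp at hc)
    exact ⟨f⟩
  · obtain ⟨f, -⟩ := equiv_of_pcyclic p hC e (S2102.result h) (fun d hd hc => by
      rw [h] at hpK
      obtain rfl := (Nat.prime_dvd_prime_iff_eq hp.out Nat.prime_two).1 (hp.out.dvd_of_dvd_pow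
        (show p ∣ 2 ^ 2 by simpa using hpK))
      rcases (Nat.dvd_prime Nat.prime_two).1 hd with h1 | h1
      · exact h1
      · subst h1; simp at hc)
    exact ⟨f⟩
  · obtain ⟨f, -⟩ := equiv_of_pcyclic p hC e (S2100.result h) (fun d hd _ => Nat.dvd_one.1 hd)
    exact ⟨f⟩

/-- **`G₂(q)`, own characteristic, every dimension.** -/
theorem g2_sd (hC : Core P) {K : Type} [Field K] [Fintype K] [CharP K p] (h3 : 3 ≤ Fintype.card K)
    (e : Soc P ≃* chevG2.group K) : SD P := by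
  obtain ⟨f⟩ := g2_equiv p hC h3 e
  have ht : IsType chevG2 2 CoxeterMatrix.G₂ := by simp [IsType, typeList]
  have : Finite CoxeterMatrix.G₂.Group := Nodes.RGDChev.finite_W ht CoxeterMatrix.G₂.toCoxeterSystem
  have hw : ∀ r < chevG2.nroots, wp chevG2 ([0, 1, 0, 1, 0, 1] : List (Fin 2)) r = chevG2.neg r := by decide +kernel
  have R := Nodes.RGDChev.rgd (K := K) ht CoxeterMatrix.G₂.toCoxeterSystem p
  refine sd_of_rgd p hC f.symm R (Nodes.RGDChev.G1_eq_top ht _) ?_ (rep_neg _ _) (rp_three _ R.nsys) ?_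
  · intro s hs t ht'
    exact Subtype.ext (diag_comm ht hs ht')
  · intro t ht'
    apply Subtype.ext
    have h1 := word_inv ht ([0, 1, 0, 1, 0, 1] : List (Fin 2)) hw (K := K) ht'
    have h2 : nI ht K ([0, 1, 0, 1, 0, 1] : List (Fin 2)) = (nn ht K 0 * nn ht K 1) ^ 3 := by
      rw [pow_succ', pow_two]
      simp [nI, mul_assoc]
    rw [h2] at h1
    exact h1

theorem d4_equiv (hC : Core P) {K : Type} [Field K] [Fintype K] {q : ℕ} (hq : IsPrimePow q)
    (hK : Fintype.card K = q ^ 3) (e : Soc P ≃* twistedD4 K q) : Nonempty (P ≃* twistedD4 K q) := by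
  obtain ⟨p, hp⟩ := CharP.exists F
  have : Fact p.Prime := ⟨CharP.char_is_prime F p⟩
  obtain ⟨f, -⟩ := equiv_of_pcyclic p hC e (S2110.result hq hK) (fun d hd _ => Nat.dvd_one.1 hd)
  exact ⟨f⟩

/-- **`³D₄(q)`, own characteristic, every dimension.** -/
theorem d4_sd (hC : Core P) {K : Type} [Field K] [Fintype K] [CharP K p] {q : ℕ} (hq : IsPrimePow q)
    (hK : Fintype.card K = q ^ 3) (e : Soc P ≃* twistedD4 K q) : SD P := by
  obtain ⟨f⟩ := d4_equiv hC hq hK e
  obtain ⟨φ, hφ⟩ := D4Fixed.exists_frob hq hK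
  have : Finite CoxeterMatrix.G₂.Group := Nodes.RGDFold.finite_W (hp := Nodes.RGDTwD4.hp)
    CoxeterMatrix.G₂.toCoxeterSystem Nodes.RGDTwD4.isCartan Nodes.RGDTwD4.foldData
  have hw : ∀ r < chevD4.nroots, wp chevD4 (((Nodes.RGDTwD4.J 0 ++ Nodes.RGDTwD4.J 1) ++
    ((Nodes.RGDTwD4.J 0 ++ Nodes.RGDTwD4.J 1) ++ (Nodes.RGDTwD4.J 0 ++ Nodes.RGDTwD4.J 1))) : List (Fin 4)) r =
      chevD4.neg r := by decide +kernel
  have R := Nodes.RGDTwD4.rgd CoxeterMatrix.G₂.toCoxeterSystem hK hφ p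
  refine sd_of_rgd p hC f.symm R (Nodes.RGDTwD4.G1_eq_top _ hK hφ) ?_ (rep_neg _ _) (rp_three _ R.nsys) ?_
  · intro s hs t ht'
    exact Subtype.ext (diag_comm Nodes.RGDTwD4.hp hs.1 ht'.1)
  · intro t ht'
    apply Subtype.ext
    have h1 := word_inv Nodes.RGDTwD4.hp _ hw (K := K) ht'.1
    have h2 : nI Nodes.RGDTwD4.hp K (((Nodes.RGDTwD4.J 0 ++ Nodes.RGDTwD4.J 1) ++
        ((Nodes.RGDTwD4.J 0 ++ Nodes.RGDTwD4.J 1) ++ (Nodes.RGDTwD4.J 0 ++ Nodes.RGDTwD4.J 1))) : List (Fin 4)) =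
        (nI Nodes.RGDTwD4.hp K (Nodes.RGDTwD4.J 0) * nI Nodes.RGDTwD4.hp K (Nodes.RGDTwD4.J 1)) ^ 3 := by
      rw [nI_append, nI_append _ (Nodes.RGDTwD4.J 0 ++ Nodes.RGDTwD4.J 1), ← pow_two, ← pow_succ', nI_append]
    rw [h2] at h1
    exact h1

end SD

end Cfsg.Agent.H48.DsChev
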