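import Cfsg.Agent.H48.M12Sec
import Cfsg.Agent.H6.M11.Stage12

/-!
# The Mathieu group of degree 12 in characteristic 3, dimensions 7, 8, 9 (helper48)

`m12_three` : a core of dimension 7, 8 or 9 in characteristic 3 is not isomorphic to the group.
-/

set_option autoImplicit false
set_option linter.unusedSectionVars false
set_option linter.unusedVariables false
set_option maxRecDepth 100000

universe w u

namespace Cfsg.Agent.H48.M12T

open Module LinearMap

/-! ### absolutely irreducible representations and subgroups of index 12 -/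

section abstract

variable {k : Type*} [Field k] {V : Type*} [AddCommGroup V] [Module k V] [FiniteDimensional k V]
  {G : Type*} [Group G] {M : Subgroup G} {c : Fin 12 → G} {R : G →* End k V}

theorem exists_pair {S : Submodule k V} (h2 : 2 ≤ finrank k S) :
    ∃ x y : V, x ∈ S ∧ y ∈ S ∧ ∀ a b : k, a • x + b • y = 0 → a = 0 ∧ b = 0 := by
  have hnt : Nontrivial S := Module.nontrivial_of_finrank_pos (R := k) (by omega)
  obtain ⟨x, hx⟩ := exists_ne (0 : S)
  obtain ⟨y, hy⟩ := exists_linearIndependent_pair_of_one_lt_finrank (R := k) (by omega) hx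
  refine ⟨x, y, x.2, y.2, fun a b h => ?_⟩
  rw [LinearIndependent.pair_iff] at hy
  apply hy a b
  apply Subtype.ext
  exact h

/-- two fixed vectors -/
theorem two_fixed (hspan : Submodule.span k (Set.range R) = ⊤) (hc : ∀ g, ∃ j, (c j)⁻¹ * g ∈ M) (h7 : 7 ≤ finrank k V)
    {S : Submodule k V} (h2 : 2 ≤ finrank k S) (hS : ∀ u ∈ S, ∀ m ∈ M, R m u = u) : False := by
  obtain ⟨x, y, hx, hy, hxy⟩ := exists_pair h2
  let L : (Dual k V × Dual k V) →ₗ[k] (Fin 12 → k) := LinearMap.pi fun j =>
    (Dual.eval k V (R (c j) x)).comp (LinearMap.fst k (Dual k V) (Dual k V)) +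
      (Dual.eval k V (R (c j) y)).comp (LinearMap.snd k (Dual k V) (Dual k V))
  have hL : LinearMap.ker L ≠ ⊥ := by
    apply LinearMap.ker_ne_bot_of_finrank_lt
    rw [Module.finrank_prod, Subspace.dual_finrank_eq, Module.finrank_fin_fun]
    omega
  obtain ⟨⟨φ, χ⟩, hker, hne⟩ := (Submodule.ne_bot_iff _).1 hL
  have h0 : ∀ j, φ (R (c j) x) + χ (R (c j) y) = 0 := fun j => congrFun (LinearMap.mem_ker.1 hker) j
  have h1 : ∀ g, φ (R g x) + χ (R g y) = 0 := by
    intro g
    obtain ⟨j, hj⟩ := hc g
    have e : ∀ z ∈ S, R g z = R (c j) z := by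
      intro z hz
      have e1 := hS z hz _ hj
      calc R g z = R (c j) (R ((c j)⁻¹ * g) z) := by
            rw [← Module.End.mul_apply, ← map_mul, mul_inv_cancel_left]
        _ = _ := by rw [e1]
    rw [e x hx, e y hy, h0]
  have h2' : ∀ A : End k V, φ (A x) + χ (A y) = 0 := by
    intro A
    have hA : A ∈ Submodule.span k (Set.range R) := by rw [hspan]; trivial
    induction hA using Submodule.span_induction with
    | mem A hA => obtain ⟨g, rfl⟩ := hA; exact h1 g
    | zero => simp
    | add A B _ _ hA hB =>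
      rw [LinearMap.add_apply, LinearMap.add_apply, map_add, map_add]
      linear_combination hA + hB
    | smul a A _ hA =>
      rw [LinearMap.smul_apply, LinearMap.smul_apply, map_smul, map_smul, smul_eq_mul, smul_eq_mul]
      linear_combination a * hA
  have h3 : ∀ z, φ z = 0 ∧ χ z = 0 := by
    intro z
    apply hxy
    rw [← Module.forall_dual_apply_eq_zero_iff k]
    intro θ
    have h4 := h2' (θ.smulRight z)
    rw [LinearMap.smulRight_apply, LinearMap.smulRight_apply, map_smul, map_smul, smul_eq_mul, smul_eq_mul] at h4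
    rw [map_add, map_smul, map_smul, smul_eq_mul, smul_eq_mul]
    linear_combination h4
  apply hne
  rw [Prod.mk_eq_zero]
  exact ⟨LinearMap.ext fun z => (h3 z).1, LinearMap.ext fun z => (h3 z).2⟩

/-- two fixed functionals -/
theorem two_cofixed (hspan : Submodule.span k (Set.range R) = ⊤) (hc : ∀ g, ∃ j, (c j)⁻¹ * g ∈ M) (h7 : 7 ≤ finrank k V)
    {S : Submodule k V} (h2 : finrank k S + 2 ≤ finrank k V) (hS : ∀ u, ∀ m ∈ M, R m u - u ∈ S) : False := by
  have hd := Subspace.finrank_add_finrank_dualAnnihilator_eq S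
  obtain ⟨φ, χ, hφ, hχ, hind⟩ := exists_pair (S := S.dualAnnihilator) (by omega)
  have hfix : ∀ θ ∈ S.dualAnnihilator, ∀ m ∈ M, ∀ u, θ (R m u) = θ u := by
    intro θ hθ m hm u
    have h1 := (Submodule.mem_dualAnnihilator θ).1 hθ _ (hS u m hm)
    rwa [map_sub, sub_eq_zero] at h1
  let L : (V × V) →ₗ[k] (Fin 12 → k) := LinearMap.pi fun j =>
    (φ ∘ₗ (R (c j)⁻¹)).comp (LinearMap.fst k V V) + (χ ∘ₗ (R (c j)⁻¹)).comp (LinearMap.snd k V V)
  have hL : LinearMap.ker L ≠ ⊥ := by
    apply LinearMap.ker_ne_bot_of_finrank_lt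
    rw [Module.finrank_prod, Module.finrank_fin_fun]
    omega
  obtain ⟨⟨x, y⟩, hker, hne⟩ := (Submodule.ne_bot_iff _).1 hL
  have h0 : ∀ j, φ (R (c j)⁻¹ x) + χ (R (c j)⁻¹ y) = 0 := fun j => congrFun (LinearMap.mem_ker.1 hker) j
  have h1 : ∀ g, φ (R g x) + χ (R g y) = 0 := by
    intro g
    obtain ⟨j, hj⟩ := hc g⁻¹
    have hj' : g * c j ∈ M := by
      have := inv_mem hj
      rwa [mul_inv_rev, inv_inv, inv_inv] at this
    have e : ∀ θ ∈ S.dualAnnihilator, ∀ z, θ (R g z) = θ (R (c j)⁻¹ z) := by
      intro θ hθ z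
      have e1 := hfix θ hθ _ hj' (R (c j)⁻¹ z)
      rw [← e1, ← Module.End.mul_apply, ← map_mul, mul_assoc, mul_inv_cancel, mul_one]
    rw [e φ hφ, e χ hχ, h0]
  have h2' : ∀ A : End k V, φ (A x) + χ (A y) = 0 := by
    intro A
    have hA : A ∈ Submodule.span k (Set.range R) := by rw [hspan]; trivial
    induction hA using Submodule.span_induction with
    | mem A hA => obtain ⟨g, rfl⟩ := hA; exact h1 g
    | zero => simp
    | add A B _ _ hA hB =>
      rw [LinearMap.add_apply, LinearMap.add_apply, map_add, map_add]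
      linear_combination hA + hB
    | smul a A _ hA =>
      rw [LinearMap.smul_apply, LinearMap.smul_apply, map_smul, map_smul, smul_eq_mul, smul_eq_mul]
      linear_combination a * hA
  have h3 : ∀ θ : Dual k V, θ x = 0 ∧ θ y = 0 := by
    intro θ
    apply hind
    ext z
    have h4 := h2' (θ.smulRight z)
    rw [LinearMap.smulRight_apply, LinearMap.smulRight_apply, map_smul, map_smul, smul_eq_mul, smul_eq_mul] at h4
    rw [LinearMap.add_apply, LinearMap.smul_apply, LinearMap.smul_apply, smul_eq_mul, smul_eq_mul, LinearMap.zero_apply]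
    exact h4
  apply hne
  rw [Prod.mk_eq_zero]
  exact ⟨(Module.forall_dual_apply_eq_zero_iff k x).1 fun θ => (h3 θ).1,
    (Module.forall_dual_apply_eq_zero_iff k y).1 fun θ => (h3 θ).2⟩

/-- a fixed vector and a fixed functional, doubly transitive action -/
theorem one_one (hspan : Submodule.span k (Set.range R) = ⊤) (hc : ∀ g, ∃ j, (c j)⁻¹ * g ∈ M) (h12 : (12 : k) = 0)
    (hlt : finrank k V < 12) (h1 : 1 < finrank k V) {x : V} (hx0 : x ≠ 0) (hx : ∀ m ∈ M, R m x = x) {φ : Dual k V}
    (hφ0 : φ ≠ 0) (hφ : ∀ m ∈ M, ∀ u, φ (R m u) = φ u) {t : G} (hM : ∀ j, c j ∈ M ∨ ∃ m ∈ M, c j = m * t)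
    (hdist : ∀ i j, i ≠ j → (c i)⁻¹ * c j ∉ M) : False := by
  -- the values
  have hval : ∀ g, (g ∈ M ∧ φ (R g x) = φ x) ∨ (φ (R g x) = φ (R t x)) := by
    intro g
    obtain ⟨j, hj⟩ := hc g
    have e : R g x = R (c j) x := by
      have e1 := hx _ hj
      calc R g x = R (c j) (R ((c j)⁻¹ * g) x) := by
            rw [← Module.End.mul_apply, ← map_mul, mul_inv_cancel_left]
        _ = _ := by rw [e1]
    rcases hM j with h | ⟨m, hm, h⟩
    · left
      refine ⟨?_, ?_⟩
      · have := mul_mem h hj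
        rwa [mul_inv_cancel_left] at this
      · rw [e, hφ _ h]
    · right
      rw [e, h, map_mul, Module.End.mul_apply, hφ _ hm]
  have hoff : ∀ i j, i ≠ j → φ (R (c i)⁻¹ (R (c j) x)) = φ (R t x) := by
    intro i j hij
    rw [← Module.End.mul_apply, ← map_mul]
    rcases hval ((c i)⁻¹ * c j) with h | h
    · exact absurd h.1 (hdist i j hij)
    · exact h
  have hdiag : ∀ i, φ (R (c i)⁻¹ (R (c i) x)) = φ x := by
    intro i
    rw [← Module.End.mul_apply, ← map_mul, inv_mul_cancel, map_one]
    rfl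
  by_cases hab : φ x = φ (R t x)
  · -- the function is constant
    have hconst : ∀ g, φ (R g x) = φ x := by
      intro g
      rcases hval g with h | h
      · exact h.2
      · rw [h, hab]
    -- an annihilated vector is zero
    have hann : ∀ w : V, (∀ g, φ (R g w) = 0) → w = 0 := by
      intro w hw
      have h2' : ∀ A : End k V, φ (A w) = 0 := by
        intro A
        have hA : A ∈ Submodule.span k (Set.range R) := by rw [hspan]; trivial
        induction hA using Submodule.span_induction with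
        | mem A hA => obtain ⟨g, rfl⟩ := hA; exact hw g
        | zero => simp
        | add A B _ _ hA hB => rw [LinearMap.add_apply, map_add, hA, hB, add_zero]
        | smul a A _ hA => rw [LinearMap.smul_apply, map_smul, hA, smul_zero]
      rw [← Module.forall_dual_apply_eq_zero_iff k]
      intro θ
      by_contra hθ
      apply hφ0
      ext z
      have h4 := h2' (θ.smulRight z)
      rw [LinearMap.smulRight_apply, map_smul, smul_eq_mul] at h4
      exact (mul_eq_zero.1 h4).resolve_left hθ
    have hfix : ∀ g, R g x = x := by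
      intro g
      rw [← sub_eq_zero]
      apply hann
      intro h
      rw [map_sub, map_sub, ← Module.End.mul_apply, ← map_mul, hconst, hconst, sub_self]
    have hall : ∀ A : End k V, A x ∈ Submodule.span k {x} := by
      intro A
      have hA : A ∈ Submodule.span k (Set.range R) := by rw [hspan]; trivial
      induction hA using Submodule.span_induction with
      | mem A hA => obtain ⟨g, rfl⟩ := hA; rw [hfix]; exact Submodule.mem_span_singleton_self x
      | zero => simp
      | add A B _ _ hA hB => rw [LinearMap.add_apply]; exact Submodule.add_mem _ hA hB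
      | smul a A _ hA => rw [LinearMap.smul_apply]; exact Submodule.smul_mem _ _ hA
    obtain ⟨θ, hθ⟩ : ∃ θ : Dual k V, θ x ≠ 0 := by
      by_contra hcon
      push Not at hcon
      exact hx0 ((Module.forall_dual_apply_eq_zero_iff k x).1 hcon)
    have htop : Submodule.span k {x} = ⊤ := by
      rw [eq_top_iff]
      intro z _
      have h4 := hall (θ.smulRight z)
      rw [LinearMap.smulRight_apply] at h4
      have h5 := Submodule.smul_mem _ (θ x)⁻¹ h4
      rwa [smul_smul, inv_mul_cancel₀ hθ, one_smul] at h5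
    have h5 : finrank k (Submodule.span k {x}) = 1 := finrank_span_singleton hx0
    rw [htop, finrank_top] at h5
    omega
  · -- the twelve vectors are linearly independent
    have hli : LinearIndependent k fun j => R (c j) x := by
      rw [Fintype.linearIndependent_iff]
      intro g hg
      have h3 : ∀ i, g i * (φ x - φ (R t x)) + (∑ j, g j) * φ (R t x) = 0 := by
        intro i
        have h4 := congrArg (fun z => φ (R (c i)⁻¹ z)) hg
        simp only [map_sum, map_smul, map_zero, smul_eq_mul] at h4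
        rw [← Finset.add_sum_erase _ _ (Finset.mem_univ i), hdiag,
          Finset.sum_congr rfl (fun j hj => by rw [hoff i j (Finset.ne_of_mem_erase hj).symm]), ← Finset.sum_mul] at h4
        rw [← Finset.add_sum_erase _ _ (Finset.mem_univ i)]
        linear_combination h4
      have h4 : (∑ j, g j) * (φ x - φ (R t x)) = 0 := by
        have h5 := Finset.sum_congr (s₁ := (Finset.univ : Finset (Fin 12))) rfl fun i _ => h3 i
        rw [Finset.sum_add_distrib, Finset.sum_const, Finset.sum_const_zero, Finset.card_univ, Fintype.card_fin,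
          ← Finset.sum_mul, nsmul_eq_mul] at h5
        push_cast at h5
        linear_combination h5 - h12 * (∑ j, g j) * φ (R t x)
      have h5 : ∑ j, g j = 0 := (mul_eq_zero.1 h4).resolve_right (sub_ne_zero.2 hab)
      intro i
      have h6 := h3 i
      rw [h5, zero_mul, add_zero] at h6
      exact (mul_eq_zero.1 h6).resolve_right (sub_ne_zero.2 hab)
    have := hli.fintype_card_le_finrank
    rw [Fintype.card_fin] at this
    omega

end abstract

end Cfsg.Agent.H48.M12T

namespace Cfsg.Agent.H48.M12T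

open Cfsg Cfsg.Agent.H6.M11 Cfsg.Agent.CoThreeStd.MTwelve Cfsg.Agent.SporadicStructure.M11InvPerms Module

/-! ### the cosets -/

/-- words of coset representatives -/
def cw : ℕ → List ℕ
  | 0 => []
  | n + 1 => (List.replicate n (W 5)).flatten ++ [0]

theorem act_cons (i : ℕ) (l : List ℕ) (x : ℕ) : act (i :: l) x = (ptab i >>> (5 * act l x)) % 32 := rfl

theorem act_append (l l' : List ℕ) (x : ℕ) : act (l ++ l') x = act l (act l' x) := by
  induction l with
  | nil => rfl
  | cons i l ih => rw [List.cons_append, act_cons, act_cons, ih]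

theorem exists_act (l : List ℕ) : ∃ j : Fin 12, act l 0 = act (cw j) 0 := by
  induction l with
  | nil => exact ⟨0, rfl⟩
  | cons i l ih =>
    obtain ⟨j, hj⟩ := ih
    have h : ∀ i : Fin 7, ∀ j : Fin 12, ∃ j' : Fin 12, act (i.1 :: cw j) 0 = act (cw j') 0 := by decide +kernel
    rw [act_cons, hj, ← act_cons]
    rcases Nat.lt_or_ge i 6 with hi | hi
    · exact h ⟨i, by omega⟩ j
    · have h7 : ptab i = ptab 6 := by
        obtain ⟨k, rfl⟩ := Nat.exists_eq_add_of_le hi
        rw [Nat.add_comm]; rfl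
      rw [act_cons, h7, ← act_cons]
      exact h 6 j

theorem act_cw_inj : ∀ i j : Fin 12, act (cw i) 0 = act (cw j) 0 → i = j := by decide +kernel

/-- the subgroup of degree 11 -/
def M₀ : Subgroup Spor.M12 := (Subgroup.inclusion M11_le).range

theorem mem_M₀ {g : Spor.M12} : g ∈ M₀ ↔ (g : Equiv.Perm GolayPt) (dec 0) = dec 0 := by
  have h2 : dec 0 = (some 0 : GolayPt) := by decide +kernel
  constructor
  · rintro ⟨m, rfl⟩
    have h1 := (Subgroup.mem_inf.1 m.2).2
    rw [MulAction.mem_stabilizer_iff] at h1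
    rw [h2]
    exact h1
  · intro h
    rw [h2] at h
    exact ⟨⟨g, Subgroup.mem_inf.2 ⟨g.2, by rw [MulAction.mem_stabilizer_iff]; exact h⟩⟩, rfl⟩

theorem inv_mul_mem {l l' : List ℕ} : (wd l)⁻¹ * wd l' ∈ M₀ ↔ act l 0 = act l' 0 := by
  rw [mem_M₀]
  have h1 := act_spec l 0 (by norm_num)
  have h2 := act_spec l' 0 (by norm_num)
  have e1 : (wd l).1 (dec 0) = dec (act l 0) := by rw [← h1.1, dec_enc]
  have e2 : (wd l').1 (dec 0) = dec (act l' 0) := by rw [← h2.1, dec_enc]
  have h3 : (((wd l)⁻¹ * wd l' : Spor.M12) : Equiv.Perm GolayPt) (dec 0) = (wd l).1⁻¹ ((wd l').1 (dec 0)) := rfl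
  rw [h3, e2]
  constructor
  · intro h
    have h4 : dec (act l' 0) = (wd l).1 (dec 0) := by
      rw [← h]
      exact ((wd l).1.apply_symm_apply _).symm
    rw [e1] at h4
    have h5 := congrArg enc h4
    rw [enc_dec _ h1.2, enc_dec _ h2.2] at h5
    exact h5.symm
  · intro h
    rw [← h, ← e1]
    exact (wd l).1.symm_apply_apply _

theorem hc (g : Spor.M12) : ∃ j : Fin 12, (wd (cw j))⁻¹ * g ∈ M₀ := by
  obtain ⟨l, rfl⟩ := mem_wd g
  obtain ⟨j, hj⟩ := exists_act l
  exact ⟨j, inv_mul_mem.2 hj.symm⟩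

theorem hdist (i j : Fin 12) (hij : i ≠ j) : (wd (cw i))⁻¹ * wd (cw j) ∉ M₀ := fun h =>
  hij (act_cw_inj i j (inv_mul_mem.1 h))

theorem hM (j : Fin 12) : wd (cw j) ∈ M₀ ∨ ∃ m ∈ M₀, wd (cw j) = m * wd [0] := by
  obtain ⟨j, hj⟩ := j
  cases j with
  | zero => left; exact one_mem _
  | succ n =>
    right
    refine ⟨wd ((List.replicate n (W 5)).flatten), ?_, ?_⟩
    · have h1 : wd (W 5) ∈ M₀ := ⟨v11 5, rfl⟩
      clear hj
      induction n with
      | zero => exact one_mem _
      | succ n ih =>
        rw [List.replicate_succ, List.flatten_cons, wd_append]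
        exact mul_mem h1 ih
    · rw [← wd_append]
      rfl

end Cfsg.Agent.H48.M12T

namespace Cfsg.Agent.H48.M12T

open Matrix Module Cfsg Cfsg.Geo Cfsg.Agent.H915.LD Cfsg.Agent.H6.M11 Cfsg.Agent.CoThreeStd.MTwelve

/-- representations of the group of degree 12 in characteristic 3 -/
theorem rep_false {k : Type u} [Field k] [IsAlgClosed k] (h3 : (3 : k) = 0) {V : Type w} [AddCommGroup V] [Module k V]
    [FiniteDimensional k V] (R : Spor.M12 →* End k V) (hspan : Submodule.span k (Set.range R) = ⊤)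
    (h7 : 7 ≤ finrank k V) (h9 : finrank k V ≤ 9) : False := by
  obtain ⟨ζ, hζ⟩ := exists_root k 11 (eleven_ne_of3 h3)
  obtain ⟨ξ, hξ⟩ := exists_root k 5 (five_ne_of3 h3)
  have h12 : (12 : k) = 0 := by linear_combination 4 * h3
  let ρ : Spor.M11 →* End k V := R.comp (Subgroup.inclusion M11_le)
  have hX : ρ (v11 5) ≠ 1 := by
    intro h
    have h1 := triv_of_x h
    have hfix : ∀ u : V, ∀ m ∈ M₀, R m u = u := by
      rintro u _ ⟨m, rfl⟩
      exact congrArg (fun f : End k V => f u) (h1 m)
    exact two_fixed (M := M₀) (c := fun j => wd (cw j)) hspan hc h7 (S := ⊤) (by rw [finrank_top]; omega)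
      (fun u _ => hfix u)
  rcases fixed_cases h3 hζ hξ V ρ hX h7 h9 with ⟨S, h2, hS⟩ | ⟨S, h2, hS⟩ | ⟨⟨S, h1, hS⟩, ⟨T, h2, hT⟩⟩
  · refine two_fixed (M := M₀) (c := fun j => wd (cw j)) hspan hc h7 h2 ?_
    rintro u hu _ ⟨m, rfl⟩
    exact hS u hu m
  · refine two_cofixed (M := M₀) (c := fun j => wd (cw j)) hspan hc h7 h2 ?_
    rintro u _ ⟨m, rfl⟩
    exact hS u m
  · have hnt : Nontrivial S := Module.nontrivial_of_finrank_pos (R := k) (by omega)
    obtain ⟨⟨x, hx⟩, hx0⟩ := exists_ne (0 : S)
    have hd := Subspace.finrank_add_finrank_dualAnnihilator_eq T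
    have hnt' : Nontrivial T.dualAnnihilator := Module.nontrivial_of_finrank_pos (R := k) (by omega)
    obtain ⟨⟨φ, hφ⟩, hφ0⟩ := exists_ne (0 : T.dualAnnihilator)
    refine one_one (M := M₀) (c := fun j => wd (cw j)) (t := wd [0]) hspan hc h12 (by omega) (by omega) (x := x)
      (fun h => hx0 (Subtype.ext h)) ?_ (φ := φ) (fun h => hφ0 (Subtype.ext h)) ?_ hM hdist
    · rintro _ ⟨m, rfl⟩
      exact hS x hx m
    · rintro _ ⟨m, rfl⟩ u
      have h4 := (Submodule.mem_dualAnnihilator φ).1 hφ _ (hT u m)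
      rwa [map_sub, sub_eq_zero] at h4

variable {ι : Type} [Fintype ι] [DecidableEq ι] {F : Type u} [Field F] {P : Subgroup (GL ι F)}

/-- **the group of degree 12 in characteristic 3, dimensions 7, 8, 9** -/
theorem m12_three (hC : Core P) (h3 : (3 : F) = 0) (e : P ≃* Spor.M12) (h7 : 7 ≤ Fintype.card ι)
    (h9 : Fintype.card ι ≤ 9) : False := by
  let k := AlgebraicClosure F
  have h3k : (3 : k) = 0 := by
    have h := congrArg (algebraMap F k) h3
    rwa [map_ofNat, map_zero] at h
  refine rep_false (k := k) h3k (V := ι → k) ((rep P k).comp e.symm.toMonoidHom) ?_ (by simpa using h7) (by simpa using h9)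
  have h1 : Set.range ((rep P k).comp e.symm.toMonoidHom) = Set.range (rep P k) := by
    ext f
    constructor
    · rintro ⟨g, rfl⟩
      exact ⟨e.symm g, rfl⟩
    · rintro ⟨g, rfl⟩
      exact ⟨e g, by simp⟩
  rw [h1]
  exact span_rep k hC

/-- **odd dimension** -/
theorem m12_three_odd [Finite F] (hC : Core P) (h3 : (3 : F) = 0) (h : Spor.IsoM12 (Soc P)) (h7 : Fintype.card ι = 7 ∨
    Fintype.card ι = 9) : False := by
  rcases m12_cases hC h with ⟨⟨e⟩⟩ | ⟨-, h1, -⟩
  · exact m12_three hC h3 e (by omega) (by omega)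
  · rcases h7 with h7 | h7
    · rw [h7] at h1; exact absurd h1 (by decide)
    · rw [h7] at h1; exact absurd h1 (by decide)

end Cfsg.Agent.H48.M12T
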