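import Cfsg.Agent.H48.NatSU
import Cfsg.Agent.H948.UProd

/-!
# Recognition of `SU(n, q)` (helper48)

`P ≤ GU(n, q)`, `P / scalars ≃ PSU(m, q₀)`, same characteristic:

* `psu_le` : `q ≤ q₀` and `m ≤ n`;
* **`psu_eq`** : `m = n` implies `q = q₀` and `P = SU(n, q)`.
-/

set_option autoImplicit false
set_option linter.unusedSectionVars false

namespace Cfsg.Agent.H48.NatSU

open Cfsg Cfsg.Geo Matrix Cfsg.Agent.H905.Md Cfsg.Agent.H915.LD

universe u

variable {n : ℕ} {F : Type u} [Field F] [Fintype F] {P : Subgroup (GL (Fin n) F)} {q : ℕ}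

/-- the map `P → SU` -/
def toSU (hC : Core P) (hP : P ≤ GU n F q) : P →* SU n F q where
  toFun g := ⟨⟨(g : GL (Fin n) F).1, by
    have h := hC.det g.2
    exact congrArg Units.val h⟩, fun u v => hP g.2 u v⟩
  map_one' := rfl
  map_mul' := fun _ _ => rfl

theorem toSU_injective (hC : Core P) (hP : P ≤ GU n F q) : Function.Injective (toSU hC hP) := by
  intro x y e
  exact Subtype.ext (Units.ext (congrArg (fun z : SU n F q => z.1.1) e))

theorem two_le_of_sq {K : Type*} [Field K] [Fintype K] {q : ℕ} (hK : Fintype.card K = q ^ 2) : 2 ≤ q := by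
  have h1 := Fintype.one_lt_card (α := K)
  rw [hK] at h1
  by_contra h
  have h2 : q = 0 ∨ q = 1 := by omega
  rcases h2 with rfl | rfl <;> simp at h1

theorem ph_coprime {p q i : ℕ} (hp : p.Prime) (h : p ∣ q) (hq : 2 ≤ q) : p.Coprime (H948.UProd.ph q i) := by
  rw [Nat.Prime.coprime_iff_not_dvd hp]
  intro hd
  have h5 : p ∣ q ^ (i + 1) := dvd_pow h (by omega)
  have h6 : 1 ≤ q ^ (i + 1) := Nat.one_le_pow _ _ (by omega)
  have h7 : p ∣ 1 := by
    unfold H948.UProd.ph at hd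
    split_ifs at hd
    · exact (Nat.dvd_add_right h5).1 hd
    · have h8 := Nat.dvd_sub h5 hd
      have h9 : q ^ (i + 1) - (q ^ (i + 1) - 1) = 1 := by omega
      rwa [h9] at h8
  exact hp.one_lt.ne' (Nat.dvd_one.1 h7)

section

variable {K : Type} [Field K] [Fintype K] {q₀ m : ℕ}

/-- `q ≤ q₀`, and the `p`-parts -/
theorem psu_dvd (hC : Core P) (p : ℕ) [hp : Fact p.Prime] [CharP F p] [CharP K p] (hF : Fintype.card F = q ^ 2)
    (hP : P ≤ GU n F q) (hK : Fintype.card K = q₀ ^ 2) (hm : 3 ≤ m) (h32 : ¬ (m = 3 ∧ q₀ = 2))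
    (e : Soc P ≃* PSU m K q₀) :
    2 ≤ q ∧ q ≤ q₀ ∧ q₀ ^ (m * (m - 1) / 2) ∣ q ^ (n * (n - 1) / 2) := by
  have hq2 := two_le_of_sq hF
  have hq2' := two_le_of_sq hK
  obtain ⟨p', b, hp', hch, hqb, hb⟩ := LieClassical.HermBasic.exists_prime_pow hK
  obtain rfl : p' = p := CharP.eq K hch ‹_›
  obtain ⟨p'', a, hp'', hch', hqa, ha⟩ := LieClassical.HermBasic.exists_prime_pow hF
  obtain rfl : p'' = p' := CharP.eq F hch' ‹_›
  have hpq : p'' ∣ q := by rw [hqa]; exact dvd_pow_self _ ha.ne'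
  have hpq' : p'' ∣ q₀ := by rw [hqb]; exact dvd_pow_self _ hb.ne'
  have hcj := psu_cj hC p'' hK hm h32 e
  have h1 : q ≤ q₀ := by
    have h2 : Fr P (p'' ^ (2 * b)) := by
      have h3 := hcj.fr
      rw [hqb, ← pow_add, ← two_mul] at h3
      exact h3
    have h3 := hC.card_le p'' (by omega) h2
    rw [hF, two_mul, pow_add, ← hqb, ← pow_two] at h3
    exact (Nat.pow_le_pow_iff_left (by norm_num)).1 h3
  refine ⟨hq2, h1, ?_⟩
  obtain ⟨φ, hφ, hk, -⟩ := psu_cover p'' hK hm h32 hC.perfect e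
  have hfin : Finite (SU m K q₀) := inferInstance
  have h2 : Nat.card (SU m K q₀) = Nat.card φ.ker * Nat.card P := by
    rw [Subgroup.card_eq_card_quotient_mul_card_subgroup φ.ker,
      Nat.card_congr (QuotientGroup.quotientKerEquivRange φ).toEquiv, hφ, mul_comm]
  have hn : 1 ≤ n := by
    have := hC.two_le
    rw [Fintype.card_fin] at this
    omega
  have h3 : Nat.card P ∣ Nat.card (SU n F q) :=
    Subgroup.card_dvd_of_injective (toSU hC hP) (toSU_injective hC hP)
  have hkc : (Nat.card φ.ker).Coprime q₀ := by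
    have h4 : Nat.card φ.ker ∣ q₀ + 1 := by
      refine (Subgroup.card_dvd_of_le hk).trans ?_
      rw [Cfsg.Agent.S0279.result hK m hm]
      exact Nat.gcd_dvd_right _ _
    refine Nat.Coprime.coprime_dvd_left h4 ?_
    rw [Nat.coprime_self_add_left]
    exact Nat.coprime_one_left _
  rw [H948.UProd.card_SU hK (by omega)] at h2
  rw [H948.UProd.card_SU hF hn] at h3
  have h4 : q₀ ^ (m * (m - 1) / 2) ∣ Nat.card P := by
    refine (Nat.Coprime.pow_left _ hkc.symm).dvd_of_dvd_mul_left ?_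
    rw [← h2]
    exact Dvd.intro _ rfl
  refine Nat.Coprime.dvd_of_dvd_mul_right ?_ (h4.trans h3)
  refine Nat.Coprime.prod_right fun j _ => ?_
  apply Nat.Coprime.pow_left
  rw [hqb]
  exact Nat.Coprime.pow_left _ (ph_coprime hp.out hpq hq2)

theorem tri_lt {m n : ℕ} (h : n < m) : n * (n - 1) / 2 < m * (m - 1) / 2 ∨ m ≤ 1 := by
  rcases Nat.lt_or_ge 1 m with h1 | h1
  · left
    have h2 : n * (n - 1) / 2 = ∑ i ∈ Finset.range n, i := (Finset.sum_range_id n).symm
    have h3 : m * (m - 1) / 2 = ∑ i ∈ Finset.range m, i := (Finset.sum_range_id m).symm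
    rw [h2, h3]
    obtain ⟨k, rfl⟩ : ∃ k, m = k + 1 := ⟨m - 1, by omega⟩
    rw [Finset.sum_range_succ]
    have h4 : ∑ i ∈ Finset.range n, i ≤ ∑ i ∈ Finset.range k, i :=
      Finset.sum_le_sum_of_subset (Finset.range_mono (by omega))
    omega
  · exact Or.inr h1

/-- `q ≤ q₀` and `m ≤ n` -/
theorem psu_le (hC : Core P) (p : ℕ) [hp : Fact p.Prime] [CharP F p] [CharP K p] (hF : Fintype.card F = q ^ 2)
    (hP : P ≤ GU n F q) (hK : Fintype.card K = q₀ ^ 2) (hm : 3 ≤ m) (h32 : ¬ (m = 3 ∧ q₀ = 2))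
    (e : Soc P ≃* PSU m K q₀) : q ≤ q₀ ∧ m ≤ n := by
  obtain ⟨h1, h2, h3⟩ := psu_dvd hC p hF hP hK hm h32 e
  refine ⟨h2, ?_⟩
  by_contra hlt
  push Not at hlt
  rcases tri_lt hlt with h4 | h4
  · have h5 := Nat.le_of_dvd (pow_pos (by omega) _) h3
    have h6 : q ^ (n * (n - 1) / 2) ≤ q₀ ^ (n * (n - 1) / 2) := Nat.pow_le_pow_left h2 _
    have h7 : q₀ ^ (n * (n - 1) / 2) < q₀ ^ (m * (m - 1) / 2) := Nat.pow_lt_pow_right (by omega) h4
    omega
  · omega

/-- **Recognition of `SU(n, q)`.** -/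
theorem psu_eq (hC : Core P) (p : ℕ) [hp : Fact p.Prime] [CharP F p] [CharP K p] (hF : Fintype.card F = q ^ 2)
    (hP : P ≤ GU n F q) (hK : Fintype.card K = q₀ ^ 2) (hm : 3 ≤ m) (h32 : ¬ (m = 3 ∧ q₀ = 2))
    (e : Soc P ≃* PSU m K q₀) (hmn : m = n) : q = q₀ ∧ P = GU n F q ⊓ specialLinear (Fin n) F := by
  obtain ⟨h1, h2, h3⟩ := psu_dvd hC p hF hP hK hm h32 e
  subst hmn
  have h4 : q₀ ≤ q := by
    rw [Nat.pow_dvd_pow_iff] at h3
    · exact Nat.le_of_dvd (by omega) h3
    · have h5 : 3 * 2 ≤ m * (m - 1) := Nat.mul_le_mul hm (by omega)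
      omega
  obtain rfl : q = q₀ := le_antisymm h2 h4
  refine ⟨rfl, ?_⟩
  have hfinX : Finite (SU m F q) := inferInstance
  have hS : commutator (SU m F q) = ⊤ := GpUn.perfect_SU hF hm h32
  have eKF : K ≃+* F := FiniteField.ringEquivOfCardEq (by rw [hF, hK])
  let j := toSU hC hP
  let π : SU m F q →* PSU m F q := QuotientGroup.mk' _
  have hker : (π.comp j).ker = (scalars (Fin m) F).subgroupOf P := by
    ext g
    have h6 : (π.comp j) g = 1 ↔ j g ∈ Subgroup.center (SU m F q) := QuotientGroup.eq_one_iff _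
    rw [MonoidHom.mem_ker, h6]
    constructor
    · intro h
      have hg : ∀ x : P, x * g = g * x := by
        intro x
        apply toSU_injective hC hP
        rw [map_mul, map_mul]
        exact Subgroup.mem_center_iff.1 h (toSU hC hP x)
      rw [Subgroup.mem_subgroupOf, mem_scalars_iff]
      obtain ⟨c, hc⟩ := hC.absIrred.2 ((g : GL (Fin m) F) : Matrix (Fin m) (Fin m) F) (by
        rintro _ ⟨x, hx, rfl⟩
        have h7 := congrArg (fun z : P => ((z : GL (Fin m) F) : Matrix (Fin m) (Fin m) F)) (hg ⟨x, hx⟩)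
        exact h7.symm)
      have hc0 : c ≠ 0 := by
        rintro rfl
        rw [zero_smul] at hc
        have h8 : ((g : GL (Fin m) F)⁻¹ : GL (Fin m) F).1 * ((g : GL (Fin m) F) : Matrix (Fin m) (Fin m) F) = 1 := by
          rw [← Units.val_mul, inv_mul_cancel, Units.val_one]
        rw [hc, Matrix.mul_zero] at h8
        have h9 := congrFun (congrFun h8 ⟨0, by omega⟩) ⟨0, by omega⟩
        rw [Matrix.one_apply_eq] at h9
        exact zero_ne_one h9
      exact ⟨Units.mk0 c hc0, hc⟩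
    · intro h
      rw [Subgroup.mem_center_iff]
      intro y
      have h7 := (mem_scalars_iff _).1 (Subgroup.mem_subgroupOf.1 h)
      obtain ⟨c, hc⟩ := h7
      apply Subtype.ext
      apply Subtype.ext
      change y.1.1 * ((g : GL (Fin m) F) : Matrix (Fin m) (Fin m) F) =
        ((g : GL (Fin m) F) : Matrix (Fin m) (Fin m) F) * y.1.1
      rw [hc, Matrix.mul_smul, Matrix.smul_mul, Matrix.mul_one, Matrix.one_mul]
  have hsurj : Function.Surjective (π.comp j) := by
    have hfinQ : Finite (PSU m F q) := inferInstance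
    have h6 := QuotientGroup.kerLift_injective (π.comp j)
    have h7 : Function.Bijective (QuotientGroup.kerLift (π.comp j)) :=
      (Nat.bijective_iff_injective_and_card _).2 ⟨h6, by
        rw [hker, Nat.card_congr e.toEquiv]
        exact Nat.card_congr (LieClassical.FieldTransfer.psuCongr m q eKF).toEquiv⟩
    intro y
    obtain ⟨x, rfl⟩ := h7.2 y
    obtain ⟨g, rfl⟩ := QuotientGroup.mk_surjective x
    exact ⟨g, rfl⟩
  have htop : j.range = ⊤ := by
    refine top_of_sup_center hS (N := Subgroup.center (SU m F q)) le_rfl ?_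
    rw [eq_top_iff]
    intro x _
    obtain ⟨a, ha⟩ := hsurj (π x)
    have ha' : (j a)⁻¹ * x ∈ Subgroup.center (SU m F q) := QuotientGroup.eq.1 ha
    have h1 : x = j a * ((j a)⁻¹ * x) := by group
    rw [h1]
    exact mul_mem (Subgroup.mem_sup_left ⟨a, rfl⟩) (Subgroup.mem_sup_right ha')
  apply le_antisymm
  · exact le_inf hP hC.le_sl
  · rintro g ⟨hg1, hg2⟩
    have h8 : (g : Matrix (Fin m) (Fin m) F).det = 1 := by
      have : Matrix.GeneralLinearGroup.det g = 1 := hg2
      exact congrArg Units.val this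
    obtain ⟨y, hy⟩ : (⟨⟨g.1, h8⟩, fun u v => hg1 u v⟩ : SU m F q) ∈ j.range := by rw [htop]; trivial
    have h9 : ((y : GL (Fin m) F) : Matrix (Fin m) (Fin m) F) = g := congrArg (fun z : SU m F q => z.1.1) hy
    have h10 : (y : GL (Fin m) F) = g := Units.ext h9
    rw [← h10]
    exact y.2

end

end Cfsg.Agent.H48.NatSU
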