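import Cfsg.Agent.H48.SevenE
import Cfsg.Agent.H876.D3.Main5

/-!
# Dimension seven: the unitary row (helper48)

`seven_unitary` : the row `S5812`.
-/

set_option autoImplicit false
set_option linter.unusedSectionVars false

universe u v

namespace Cfsg.Agent.H48.Seven

open Cfsg Cfsg.Geo Matrix Cfsg.Agent.H915.LD Cfsg.Agent.H912.Bd Cfsg.Agent.H912.Five

/-- `PSU_N(q)` in the defining characteristic in dimension seven : `N = 7` -/
theorem psu_seven {F : Type u} [Field F] [Finite F] {P : Subgroup (GL (Fin 7) F)} (p : ℕ) [hp : Fact p.Prime] [CharP F p]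
    (hC : Core P) {K : Type} [Field K] [Fintype K] [CharP K p] {N q : ℕ} (hK : Fintype.card K = q ^ 2) (hN : 4 ≤ N)
    (e : Soc P ≃* PSU N K q) : N = 7 := by
  rcases H876.D3.core_psu p K hN (by rw [Fintype.card_fin]; norm_num) hK hC e with h | ⟨-, h, -⟩ | ⟨-, h, -⟩ | ⟨-, h⟩ <;>
    rw [Fintype.card_fin] at h <;> omega

variable {F : Type u} [Field F] [Fintype F]

/-- **The unitary row**, `S5812`. -/
theorem seven_unitary (hk : ∀ P : Subgroup (GL (Fin 7) F), Core P → IsKnownSimple' (Soc P))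
    (q : ℕ) (hF : Fintype.card F = q ^ 2) (H : Subgroup (Matrix.GeneralLinearGroup (Fin 7) F))
    (hH : Cfsg.Geo.IsMaximalIn (Cfsg.GU 7 F q ⊓ Cfsg.Geo.specialLinear (Fin 7) F) H)
    (hS : Cfsg.Geo.InUnitaryResidualClass H) :
    ∃ P : Subgroup (Matrix.GeneralLinearGroup (Fin 7) F), Cfsg.Geo.IsResidualCore H P ∧ q.Prime ∧ q % 4 = 3 ∧ q ≠ 3 ∧
      (∃ (K : Type) (_ : Field K) (_ : Fintype K), Fintype.card K = 9 ∧
        Nonempty ((P ⧸ (Cfsg.Geo.scalars (Fin 7) F).subgroupOf P) ≃* Cfsg.PSU 3 K 3)) := by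
  obtain ⟨p, hpF⟩ := CharP.exists F
  have hp : Fact p.Prime := ⟨CharP.char_is_prime F p⟩
  obtain ⟨P, hP, hC, hsd⟩ := unitary_core hS
  rcases seven_all p hC (hk P hC) hsd with ⟨h, h3, h2, hfr, hc⟩ | h | h
  · rcases odd_mod p h3 h2 with h4 | h4
    · exact (not_fr_of_card hC p hF (hfr h4)).elim
    · have h5 := q_eq_of_cj hC p hF (hc h4)
      subst h5
      exact ⟨P, hP, hp.out, h4, h3, u33_concl h⟩
  · refine (hH.1.not_ge ?_).elim
    refine inf_le_right.trans ?_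
    rw [← h]
    exact hP.le
  · exfalso
    obtain ⟨K, i1, i2, i3, N, q₀, hK, hN, ⟨e⟩⟩ := h
    obtain rfl := psu_seven p hC hK hN e
    have hPG : P ≤ GU 7 F q := (hP.le.trans hH.1.le).trans inf_le_left
    have h6 := (NatSU.psu_eq hC p hF hPG hK (by omega) (by omega) e rfl).2
    refine hH.1.not_ge ?_
    rw [← h6]
    exact hP.le

end Cfsg.Agent.H48.Seven
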