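import Cfsg.Agent.H912.BdAlt

/-!
# Alternating groups of degree at least ten in characteristic not five: degree at least eight (helper48)

`<a, b> = 5 × 5 ≤ A_10` : all four nontrivial eigenvalues of `a` and of `b` occur; in dimension at most seven the four
eigenspaces of `a` are lines, on which `b` acts trivially.
-/

set_option autoImplicit false

universe u v

namespace Cfsg.Agent.H48.AltTen

open Module Cfsg.Agent.H912.Bd

section Lin

variable {K : Type*} [Field K] [IsAlgClosed K] {V : Type*} [AddCommGroup V] [Module K V] [FiniteDimensional K V]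
  {L : Type*} [Group L] (ρ : L →* Module.End K V)

omit [IsAlgClosed K] [FiniteDimensional K V] in
theorem inv_apply (g : L) (v : V) : ρ g⁻¹ (ρ g v) = v := by
  rw [← Module.End.mul_apply, ← map_mul, inv_mul_cancel, map_one, Module.End.one_apply]

omit [IsAlgClosed K] [FiniteDimensional K V] in
theorem apply_inv (g : L) (v : V) : ρ g (ρ g⁻¹ v) = v := by
  rw [← Module.End.mul_apply, ← map_mul, mul_inv_cancel, map_one, Module.End.one_apply]

theorem exists_eig (h5 : (5 : K) ≠ 0) {a : L} (ha : a ^ 5 = 1) (ha1 : ρ a ≠ 1) :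
    ∃ ζ : K, ζ ≠ 1 ∧ ζ ^ 5 = 1 ∧ ∃ v : V, v ≠ 0 ∧ ρ a v = ζ • v := by
  have hN : ((5 : ℕ) : K) ≠ 0 := by exact_mod_cast h5
  have hf : (ρ a) ^ 5 = 1 := by rw [← map_pow, ha, map_one]
  have htop : ⨆ μ, (ρ a).eigenspace μ = ⊤ := by
    have h1 := Module.End.iSup_maxGenEigenspace_eq_top (ρ a)
    have h2 : ∀ μ, (ρ a).maxGenEigenspace μ = (ρ a).eigenspace μ := fun μ => maxGen_eq hN hf μ
    simp only [h2] at h1
    exact h1
  by_contra hcon
  push Not at hcon
  apply ha1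
  have h1 : ∀ μ, (ρ a).eigenspace μ ≤ (ρ a).eigenspace 1 := by
    intro μ v hv
    rw [Module.End.mem_eigenspace_iff] at hv ⊢
    by_cases hv0 : v = 0
    · rw [hv0, map_zero, smul_zero]
    by_cases hμ : μ = 1
    · rw [hv, hμ]
    exfalso
    refine hcon μ hμ ?_ v hv0 hv
    have h2 : ∀ k : ℕ, (ρ a ^ k) v = μ ^ k • v := by
      intro k
      induction k with
      | zero => simp
      | succ k ih => rw [pow_succ, Module.End.mul_apply, hv, map_smul, ih, smul_smul, pow_succ, mul_comm]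
    have h3 := h2 5
    rw [hf, Module.End.one_apply] at h3
    have h4 : (μ ^ 5 - 1) • v = 0 := by rw [sub_smul, ← h3, one_smul, sub_self]
    exact sub_eq_zero.1 ((smul_eq_zero.1 h4).resolve_right hv0)
  have h2 : (ρ a).eigenspace 1 = ⊤ := by rw [eq_top_iff, ← htop]; exact iSup_le h1
  ext v
  have h3 : v ∈ (ρ a).eigenspace 1 := by rw [h2]; trivial
  rw [Module.End.mem_eigenspace_iff, one_smul] at h3
  rw [h3, Module.End.one_apply]

omit [IsAlgClosed K] in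
/-- the powers `ζ^(2^i)` -/
theorem zeta_inj {ζ : K} (h1 : ζ ≠ 1) (h5 : ζ ^ 5 = 1) :
    Function.Injective (fun i : Fin 4 => ζ ^ 2 ^ (i : ℕ)) ∧ ∀ i : Fin 4, ζ ^ 2 ^ (i : ℕ) ≠ 1 := by
  have h0 : ζ ≠ 0 := by
    rintro rfl
    norm_num at h5
  have : Fact (Nat.Prime 5) := ⟨by norm_num⟩
  have hord : orderOf ζ = 5 := orderOf_eq_prime h5 h1
  have key1 : ∀ i j : Fin 4, 2 ^ (i : ℕ) % 5 = 2 ^ (j : ℕ) % 5 → i = j := by decide
  have key2 : ∀ i : Fin 4, ¬ 5 ∣ 2 ^ (i : ℕ) := by decide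
  constructor
  · intro i j h
    have h2 : 2 ^ (i : ℕ) ≡ 2 ^ (j : ℕ) [MOD 5] := by
      have h3 := (pow_inj_mod (x := Units.mk0 ζ h0) (n := 2 ^ (i : ℕ)) (m := 2 ^ (j : ℕ))).1 (Units.ext (by simpa using h))
      have h4 : orderOf (Units.mk0 ζ h0) = 5 := by rw [← orderOf_units, Units.val_mk0, hord]
      rw [h4] at h3
      exact h3
    exact key1 i j h2
  · intro i h
    have h2 : 5 ∣ 2 ^ (i : ℕ) := by rw [← hord]; exact orderOf_dvd_of_pow_eq_one h
    exact key2 i h2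

omit [IsAlgClosed K] [FiniteDimensional K V] in
/-- moving an eigenvector -/
theorem move {a s : L} (hs : s * a = a ^ 2 * s) {v : V} {ζ : K} (hv : ρ a v = ζ • v) (i : ℕ) :
    ρ a (ρ (s⁻¹ ^ i) v) = ζ ^ 2 ^ i • ρ (s⁻¹ ^ i) v := by
  have h0 : a * s⁻¹ = s⁻¹ * a ^ 2 := by
    rw [eq_inv_mul_iff_mul_eq, ← mul_assoc, hs, mul_inv_cancel_right]
  induction i with
  | zero => simpa using hv
  | succ i ih =>
    rw [pow_succ', map_mul, Module.End.mul_apply, ← Module.End.mul_apply (ρ a), ← map_mul, h0, map_mul,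
      Module.End.mul_apply, pow_two, map_mul, Module.End.mul_apply, ih, map_smul, ih, smul_smul, map_smul, pow_succ,
      pow_mul, pow_two]

theorem lin (h5 : (5 : K) ≠ 0) {a b s s' u : L} (ha : a ^ 5 = 1) (hb : b ^ 5 = 1) (hab : b * a = a * b)
    (hs : s * a = a ^ 2 * s) (hs' : s' * b = b ^ 2 * s') (hua : u * a = a * u) (hub : u * b = b⁻¹ * u)
    (ha1 : ρ a ≠ 1) (hb1 : ρ b ≠ 1) : 8 ≤ finrank K V := by
  by_contra hlt
  push Not at hlt
  obtain ⟨ζ, hζ1, hζ5, v, hv0, hv⟩ := exists_eig ρ h5 ha ha1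
  obtain ⟨ξ, hξ1, hξ5, w, hw0, hw⟩ := exists_eig ρ h5 hb hb1
  obtain ⟨hζi, hζn⟩ := zeta_inj hζ1 hζ5
  obtain ⟨hξi, hξn⟩ := zeta_inj hξ1 hξ5
  -- the four eigenspaces of `a` are lines
  let E : Fin 4 → Submodule K V := fun i => (ρ a).eigenspace (ζ ^ 2 ^ (i : ℕ))
  have hEi : iSupIndep E := (Module.End.eigenspaces_iSupIndep (ρ a)).comp hζi
  have hEs := sum_finrank_le hEi
  have hdim : ∀ i j : ℕ, ζ ^ 2 ^ (i + j) = ζ ^ 2 ^ (i + j) → finrank K ((ρ a).eigenspace (ζ ^ 2 ^ i)) ≤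
      finrank K ((ρ a).eigenspace (ζ ^ 2 ^ (i + j))) := by
    intro i j _
    have hinj : Function.Injective (ρ (s⁻¹ ^ j)) := rho_injective ρ _
    have h1 : ((ρ a).eigenspace (ζ ^ 2 ^ i)).map (ρ (s⁻¹ ^ j)) ≤ (ρ a).eigenspace (ζ ^ 2 ^ (i + j)) := by
      rintro _ ⟨x, hx, rfl⟩
      rw [Module.End.mem_eigenspace_iff]
      have h2 := move ρ hs (Module.End.mem_eigenspace_iff.1 hx) j
      rw [h2, ← pow_mul, ← pow_add]
    exact (Submodule.equivMapOfInjective _ hinj _).finrank_eq.le.trans (Submodule.finrank_mono h1)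
  have h16 : ∀ i : ℕ, ζ ^ 2 ^ (i + 4) = ζ ^ 2 ^ i := by
    intro i
    have h1 : (2 : ℕ) ^ (i + 4) = 2 ^ i * 15 + 2 ^ i := by rw [pow_add]; ring
    rw [h1, pow_add, mul_comm (2 ^ i) 15, pow_mul, show (15 : ℕ) = 5 * 3 by norm_num, pow_mul, hζ5, one_pow, one_pow,
      one_mul]
  have heq : ∀ i : Fin 4, finrank K (E i) = finrank K (E 0) := by
    intro i
    apply le_antisymm
    · have h1 := hdim (i : ℕ) (4 - (i : ℕ)) rfl
      have h2 : (i : ℕ) + (4 - (i : ℕ)) = 0 + 4 := by omega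
      rw [h2, h16 0] at h1
      exact h1
    · have h1 := hdim 0 (i : ℕ) rfl
      rw [zero_add] at h1
      exact h1
  have hpos : 1 ≤ finrank K (E 0) := by
    rw [Nat.one_le_iff_ne_zero]
    intro h0
    rw [Submodule.finrank_eq_zero] at h0
    have h1 : v ∈ E 0 := by
      change v ∈ (ρ a).eigenspace (ζ ^ 2 ^ 0)
      rw [Module.End.mem_eigenspace_iff, hv, pow_zero, pow_one]
    rw [h0, Submodule.mem_bot] at h1
    exact hv0 h1
  have hone : ∀ i, finrank K (E i) = 1 := by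
    intro i
    rw [heq i]
    have h1 : ∑ i : Fin 4, finrank K (E i) = 4 * finrank K (E 0) := by
      rw [Finset.sum_congr rfl (fun i _ => heq i)]
      simp
    omega
  -- `b` acts trivially on them
  have hEb : ∀ i, E i ≤ (ρ b).eigenspace 1 := by
    intro i
    obtain ⟨x, hx0, hx⟩ := finrank_eq_one_iff'.1 (hone i)
    have hxE : ρ a (x : V) = ζ ^ 2 ^ (i : ℕ) • (x : V) := Module.End.mem_eigenspace_iff.1 x.2
    have hxne : (x : V) ≠ 0 := fun h => hx0 (Subtype.ext h)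
    have hstab : ∀ c : L, c * a = a * c → ∃ μ : K, ρ c (x : V) = μ • (x : V) := by
      intro c hc
      have h1 : ρ c (x : V) ∈ E i := by
        change ρ c (x : V) ∈ (ρ a).eigenspace (ζ ^ 2 ^ (i : ℕ))
        rw [Module.End.mem_eigenspace_iff, ← Module.End.mul_apply, ← map_mul, ← hc, map_mul, Module.End.mul_apply, hxE,
          map_smul]
      obtain ⟨μ, hμ⟩ := hx ⟨_, h1⟩
      exact ⟨μ, (congrArg Subtype.val hμ).symm⟩
    obtain ⟨μ, hμ⟩ := hstab b hab
    obtain ⟨ν, hν⟩ := hstab u hua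
    have hμ5 : μ ^ 5 = 1 := by
      have h2 : ∀ k : ℕ, ρ (b ^ k) (x : V) = μ ^ k • (x : V) := by
        intro k
        induction k with
        | zero => simp
        | succ k ih =>
          rw [pow_succ, map_mul, Module.End.mul_apply, hμ, map_smul, ih, smul_smul, pow_succ, mul_comm]
      have h3 := h2 5
      rw [hb, map_one, Module.End.one_apply] at h3
      have h4 : (μ ^ 5 - 1) • (x : V) = 0 := by rw [sub_smul, ← h3, one_smul, sub_self]
      exact sub_eq_zero.1 ((smul_eq_zero.1 h4).resolve_right hxne)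
    have hμ0 : μ ≠ 0 := by rintro rfl; norm_num at hμ5
    have hν0 : ν ≠ 0 := by
      rintro rfl
      rw [zero_smul] at hν
      have h1 := inv_apply ρ u (x : V)
      rw [hν, map_zero] at h1
      exact hxne h1.symm
    have hbi : ρ b⁻¹ (x : V) = μ⁻¹ • (x : V) := by
      have h1 := inv_apply ρ b (x : V)
      rw [hμ, map_smul] at h1
      rw [eq_comm, inv_smul_eq_iff₀ hμ0]
      exact h1.symm
    have hμ2 : μ * μ = 1 := by
      have h1 : ρ (u * b) (x : V) = ρ (b⁻¹ * u) (x : V) := by rw [hub]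
      rw [map_mul, map_mul, Module.End.mul_apply, Module.End.mul_apply, hμ, map_smul, hν, map_smul, hbi, smul_smul,
        smul_smul] at h1
      have h2 : (μ * ν - ν * μ⁻¹) • (x : V) = 0 := by rw [sub_smul, h1, sub_self]
      have h3 := (smul_eq_zero.1 h2).resolve_right hxne
      have h4 : ν * (μ - μ⁻¹) = 0 := by rw [← h3]; ring
      have h5 := (mul_eq_zero.1 h4).resolve_left hν0
      rw [sub_eq_zero] at h5
      nth_rewrite 1 [h5]
      exact inv_mul_cancel₀ hμ0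
    have hμ1 : μ = 1 := by
      have h1 : μ ^ 5 = μ := by
        calc μ ^ 5 = (μ * μ) * (μ * μ) * μ := by ring
          _ = μ := by rw [hμ2, one_mul, one_mul]
      rw [← h1, hμ5]
    intro y hy
    obtain ⟨c, hc⟩ := hx ⟨y, hy⟩
    have h1 : c • (x : V) = y := congrArg Subtype.val hc
    rw [Module.End.mem_eigenspace_iff, ← h1, map_smul, hμ, hμ1]
    simp
  -- the fixed space of `b` has dimension at least four
  have hv4 : LinearIndependent K (fun i : Fin 4 => ρ (s⁻¹ ^ (i : ℕ)) v) := by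
    refine Module.End.eigenvectors_linearIndependent' (ρ a) (fun i : Fin 4 => ζ ^ 2 ^ (i : ℕ)) hζi _ ?_
    intro i
    refine ⟨?_, ?_⟩
    · rw [Module.End.mem_eigenspace_iff]
      exact move ρ hs hv i
    · intro h
      exact hv0 (rho_injective ρ _ (by rw [h, map_zero]))
  have hw4 : LinearIndependent K (fun i : Fin 4 => ρ (s'⁻¹ ^ (i : ℕ)) w) := by
    refine Module.End.eigenvectors_linearIndependent' (ρ b) (fun i : Fin 4 => ξ ^ 2 ^ (i : ℕ)) hξi _ ?_
    intro i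
    refine ⟨?_, ?_⟩
    · rw [Module.End.mem_eigenspace_iff]
      exact move ρ hs' hw i
    · intro h
      exact hw0 (rho_injective ρ _ (by rw [h, map_zero]))
  have h1 : 4 ≤ finrank K ((ρ b).eigenspace 1) := by
    have h2 := finrank_span_eq_card hv4
    rw [Fintype.card_fin] at h2
    rw [← h2]
    apply Submodule.finrank_mono
    rw [Submodule.span_le]
    rintro _ ⟨i, rfl⟩
    apply hEb i
    change _ ∈ (ρ a).eigenspace (ζ ^ 2 ^ (i : ℕ))
    rw [Module.End.mem_eigenspace_iff]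
    exact move ρ hs hv i
  have h2 : 4 ≤ finrank K ↥(⨆ μ, ⨆ (_ : μ ≠ 1), (ρ b).eigenspace μ) := by
    have h2 := finrank_span_eq_card hw4
    rw [Fintype.card_fin] at h2
    rw [← h2]
    apply Submodule.finrank_mono
    rw [Submodule.span_le]
    rintro _ ⟨i, rfl⟩
    refine Submodule.mem_iSup_of_mem (ξ ^ 2 ^ (i : ℕ)) (Submodule.mem_iSup_of_mem (hξn i) ?_)
    rw [Module.End.mem_eigenspace_iff]
    exact move ρ hs' hw i
  have h3 : Disjoint ((ρ b).eigenspace 1) (⨆ μ, ⨆ (_ : μ ≠ 1), (ρ b).eigenspace μ) :=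
    Module.End.eigenspaces_iSupIndep (ρ b) 1
  have h5 : finrank K ↥((ρ b).eigenspace 1 ⊔ ⨆ μ, ⨆ (_ : μ ≠ 1), (ρ b).eigenspace μ) =
      finrank K ((ρ b).eigenspace 1) + finrank K ↥(⨆ μ, ⨆ (_ : μ ≠ 1), (ρ b).eigenspace μ) := by
    have h6 := Submodule.finrank_sup_add_finrank_inf_eq ((ρ b).eigenspace 1) (⨆ μ, ⨆ (_ : μ ≠ 1), (ρ b).eigenspace μ)
    rw [h3.eq_bot, finrank_bot, add_zero] at h6
    exact h6
  have h6 := Submodule.finrank_le ((ρ b).eigenspace 1 ⊔ ⨆ μ, ⨆ (_ : μ ≠ 1), (ρ b).eigenspace μ)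
  omega

end Lin

/-! ### the elements of `A_10` -/

def pa : Equiv.Perm (Fin 10) where
  toFun := ![1, 2, 3, 4, 0, 5, 6, 7, 8, 9]
  invFun := ![4, 0, 1, 2, 3, 5, 6, 7, 8, 9]
  left_inv := by decide
  right_inv := by decide

def pb : Equiv.Perm (Fin 10) where
  toFun := ![0, 1, 2, 3, 4, 6, 7, 8, 9, 5]
  invFun := ![0, 1, 2, 3, 4, 9, 5, 6, 7, 8]
  left_inv := by decide
  right_inv := by decide

def ps : Equiv.Perm (Fin 10) where
  toFun := ![0, 2, 4, 1, 3, 6, 5, 7, 8, 9]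
  invFun := ![0, 3, 1, 4, 2, 6, 5, 7, 8, 9]
  left_inv := by decide
  right_inv := by decide

def ps' : Equiv.Perm (Fin 10) where
  toFun := ![1, 0, 2, 3, 4, 5, 7, 9, 6, 8]
  invFun := ![1, 0, 2, 3, 4, 5, 8, 6, 9, 7]
  left_inv := by decide
  right_inv := by decide

def pu : Equiv.Perm (Fin 10) where
  toFun := ![0, 1, 2, 3, 4, 5, 9, 8, 7, 6]
  invFun := ![0, 1, 2, 3, 4, 5, 9, 8, 7, 6]
  left_inv := by decide
  right_inv := by decide

theorem rels : pa ^ 5 = 1 ∧ pb ^ 5 = 1 ∧ pb * pa = pa * pb ∧ ps * pa = pa ^ 2 * ps ∧ ps' * pb = pb ^ 2 * ps' ∧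
    pu * pa = pa * pu ∧ pu * pb = pb⁻¹ * pu ∧ pa ≠ 1 ∧ pb ≠ 1 := by decide +kernel

theorem signs : Equiv.Perm.sign pa = 1 ∧ Equiv.Perm.sign pb = 1 ∧ Equiv.Perm.sign ps = 1 ∧ Equiv.Perm.sign ps' = 1 ∧
    Equiv.Perm.sign pu = 1 := by decide +kernel

/-- the elements in `A_10` -/
theorem exists_elts : ∃ a b s s' u : alternatingGroup (Fin 10), a ^ 5 = 1 ∧ b ^ 5 = 1 ∧ b * a = a * b ∧
    s * a = a ^ 2 * s ∧ s' * b = b ^ 2 * s' ∧ u * a = a * u ∧ u * b = b⁻¹ * u ∧ a ≠ 1 ∧ b ≠ 1 := by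
  obtain ⟨s1, s2, s3, s4, s5⟩ := signs
  obtain ⟨r1, r2, r3, r4, r5, r6, r7, r8, r9⟩ := rels
  exact ⟨⟨pa, Equiv.Perm.mem_alternatingGroup.2 s1⟩, ⟨pb, Equiv.Perm.mem_alternatingGroup.2 s2⟩,
    ⟨ps, Equiv.Perm.mem_alternatingGroup.2 s3⟩, ⟨ps', Equiv.Perm.mem_alternatingGroup.2 s4⟩,
    ⟨pu, Equiv.Perm.mem_alternatingGroup.2 s5⟩, Subtype.ext r1, Subtype.ext r2, Subtype.ext r3, Subtype.ext r4,
    Subtype.ext r5, Subtype.ext r6, Subtype.ext r7, fun h => r8 (congrArg Subtype.val h),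
    fun h => r9 (congrArg Subtype.val h)⟩

/-- **Five by five.** -/
theorem bd_of_rels {F : Type u} [Field F] (h5 : (5 : F) ≠ 0) {T : Type v} [Group T] {a b s s' u : T}
    (ha : a ^ 5 = 1) (hb : b ^ 5 = 1) (hab : b * a = a * b)
    (hs : s * a = a ^ 2 * s) (hs' : s' * b = b ^ 2 * s') (hua : u * a = a * u) (hub : u * b = b⁻¹ * u)
    (ha1 : a ≠ 1) (hb1 : b ≠ 1) : Bd F 5 8 T := by
  rintro n ⟨L, _, π, ρ, hπ, hc, hcop, hρ⟩
  obtain ⟨A, hA, hA5⟩ := exists_lift hcop hπ (e := a) (k := 1) (by rw [pow_one]; exact ha)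
  obtain ⟨B, hB, hB5⟩ := exists_lift hcop hπ (e := b) (k := 1) (by rw [pow_one]; exact hb)
  obtain ⟨S, hS⟩ := hπ s
  obtain ⟨S', hS'⟩ := hπ s'
  obtain ⟨U, hU⟩ := hπ u
  have hne : ∀ x : L, π x ≠ 1 → repK ρ x ≠ 1 := by
    intro x hx h1
    have h2 : x ∈ ρ.ker := eq_one_of_repK h1
    exact hx (hρ h2)
  have h5K : (5 : AlgebraicClosure F) ≠ 0 := by
    intro h0
    apply h5
    apply (algebraMap F (AlgebraicClosure F)).injective
    rw [map_ofNat, map_zero, h0]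
  have hconj : ∀ x y z : L, π (x * y * x⁻¹) = π z → y ^ 5 ^ 1 = 1 → z ^ 5 ^ 1 = 1 → x * y = z * x := by
    intro x y z h1 h2 h3
    have h4 : x * y * x⁻¹ = z := lift_unique hc hcop h1 (k := 1) (l := 1) (by rw [conj_pow, h2]; group) h3
    rw [← h4, inv_mul_cancel_right]
  have h8 := lin (repK ρ) h5K (a := A) (b := B) (s := S) (s' := S') (u := U) (by rwa [pow_one] at hA5)
    (by rwa [pow_one] at hB5)
    (hconj B A A (by rw [map_mul, map_mul, map_inv, hA, hB, hab, mul_inv_cancel_right]) hA5 hA5)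
    (hconj S A (A ^ 2) (by rw [map_mul, map_mul, map_inv, map_pow, hA, hS, hs, mul_inv_cancel_right]) hA5
      (by rw [← pow_mul, mul_comm, pow_mul, hA5, one_pow]))
    (hconj S' B (B ^ 2) (by rw [map_mul, map_mul, map_inv, map_pow, hB, hS', hs', mul_inv_cancel_right]) hB5
      (by rw [← pow_mul, mul_comm, pow_mul, hB5, one_pow]))
    (hconj U A A (by rw [map_mul, map_mul, map_inv, hA, hU, hua, mul_inv_cancel_right]) hA5 hA5)
    (hconj U B B⁻¹ (by rw [map_mul, map_mul, map_inv, map_inv, hB, hU, hub, mul_inv_cancel_right]) hB5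
      (by rw [inv_pow, hB5, inv_one]))
    (hne A (by rwa [hA])) (hne B (by rwa [hB]))
  rwa [Module.finrank_fintype_fun_eq_card, Fintype.card_fin] at h8

/-- **`A_m`, `m ≥ 10`, in characteristic `≠ 5`: degree at least `8`.** -/
theorem bd_alt_ten {F : Type u} [Field F] (h5 : (5 : F) ≠ 0) {m : ℕ} (hm : 10 ≤ m) :
    Bd F 5 8 (alternatingGroup (Fin m)) := by
  obtain ⟨a, b, s, s', u, r1, r2, r3, r4, r5, r6, r7, r8, r9⟩ := exists_elts
  obtain ⟨e⟩ : Nonempty (Fin 10 ↪ Fin m) := by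
    apply Function.Embedding.nonempty_of_card_le
    rw [Fintype.card_fin, Fintype.card_fin]
    exact hm
  obtain ⟨f, hf⟩ := exists_alt_hom e
  exact (bd_of_rels h5 r1 r2 r3 r4 r5 r6 r7 r8 r9).of_sub f hf

end Cfsg.Agent.H48.AltTen
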