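import Cfsg.Agent.Nodes.WittAll

/-!
# The element `-1` of the Weyl group of a Witt frame (helper48)

`M : Model Fr K` with its root group datum of type `C_n` (`rgdC_model`): there are `w0 ∈ W` with `rep w0 = -1` and a
representative `M.φ g` of `w0` with `g` interchanging the lines of `b x` and `b (-x)`.

* `exists_flip`, **`exists_neg`**; `apply_torus` : `g⁻¹ t⁻¹ g b_x = σ(a) b_x` if `t b_x = a b_x`, `t` in the torus.
-/

set_option autoImplicit false
set_option linter.unusedSectionVars false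

namespace Cfsg.Agent.H48.WittNeg

open Cfsg.Agent.ChevalleyStructure.CoxeterGeom Cfsg.Agent.Tits.Roots Cfsg.Agent.Nodes.TypeC
open Cfsg.Agent.Nodes Cfsg.Agent.Nodes.Comb Cfsg.Agent.Nodes.Reps Cfsg.Agent.Nodes.WittRoot Cfsg.Agent.Nodes.BNOf
open Cfsg.Agent.Nodes.WittRGD Cfsg.Agent.Nodes.WittAll Cfsg.Agent.Nodes.RGDLib
open Cfsg.Agent.TitsThree Cfsg.Agent.TitsThree.Siegel Cfsg.Agent.TitsThree.WittFrame
  Cfsg.Agent.TitsThree.WittWeyl Cfsg.Agent.TitsThree.FrameCN

/-! ### sign changes of the coordinates -/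

section Flip

variable {n : ℕ}

/-- sign changes on the signed indices -/
def flip (S : Finset (Fin n)) (x : Fin n × Bool) : Fin n × Bool := if x.1 ∈ S then ng x else x

/-- sign changes on the vectors -/
def fl (S : Finset (Fin n)) (v : Fin n → ℤ) : Fin n → ℤ := fun k => if k ∈ S then -v k else v k

theorem flip_univ (x : Fin n × Bool) : flip Finset.univ x = ng x := if_pos (Finset.mem_univ _)

theorem fl_univ (v : Fin n → ℤ) : fl Finset.univ v = -v := funext fun _ => if_pos (Finset.mem_univ _)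

theorem flip_empty (x : Fin n × Bool) : flip ∅ x = x := if_neg (Finset.notMem_empty _)

theorem fl_empty (v : Fin n → ℤ) : fl ∅ v = v := funext fun _ => if_neg (Finset.notMem_empty _)

theorem flip_insert {S : Finset (Fin n)} {i : Fin n} (hi : i ∉ S) (x : Fin n × Bool) :
    flip {i} (flip S x) = flip (insert i S) x := by
  unfold flip
  by_cases h1 : x.1 ∈ S
  · have h2 : x.1 ≠ i := fun h => hi (h ▸ h1)
    rw [if_pos h1, if_neg (by rw [ng_fst, Finset.mem_singleton]; exact h2),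
      if_pos (Finset.mem_insert_of_mem h1)]
  · rw [if_neg h1]
    by_cases h2 : x.1 = i
    · rw [if_pos (by rw [Finset.mem_singleton]; exact h2), if_pos (by rw [h2]; exact Finset.mem_insert_self _ _)]
    · rw [if_neg (by rw [Finset.mem_singleton]; exact h2), if_neg (by
        rw [Finset.mem_insert, not_or]; exact ⟨h2, h1⟩)]

theorem fl_insert {S : Finset (Fin n)} {i : Fin n} (hi : i ∉ S) (v : Fin n → ℤ) :
    fl {i} (fl S v) = fl (insert i S) v := by
  funext k
  unfold fl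
  by_cases h1 : k ∈ S
  · have h2 : k ≠ i := fun h => hi (h ▸ h1)
    rw [if_neg (by rw [Finset.mem_singleton]; exact h2), if_pos h1, if_pos (Finset.mem_insert_of_mem h1)]
  · by_cases h2 : k = i
    · rw [if_pos (by rw [Finset.mem_singleton]; exact h2), if_neg h1,
        if_pos (by rw [h2]; exact Finset.mem_insert_self _ _)]
    · rw [if_neg (by rw [Finset.mem_singleton]; exact h2), if_neg h1, if_neg (by
        rw [Finset.mem_insert, not_or]; exact ⟨h2, h1⟩)]

/-- the simple reflection on vectors -/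
def rf (i : Fin n) (v : Fin n → ℤ) : Fin n → ℤ := v - Cf i v • bt i

theorem rf_last {i : Fin n} (hi : ¬ (i : ℕ) + 1 < n) (v : Fin n → ℤ) : rf i v = fl {i} v := by
  funext k
  unfold rf fl Cf
  rw [Pi.sub_apply, Pi.smul_apply, bt_apply, dif_neg hi, if_neg hi, smul_eq_mul]
  by_cases h : k = i
  · subst h
    rw [if_pos (Finset.mem_singleton_self _), if_pos rfl]; ring
  · have h' : ¬ (k : ℕ) = i := fun h' => h (Fin.ext h')
    simp [h, h']

theorem rf_up {i : Fin n} (hi : (i : ℕ) + 1 < n) (v : Fin n → ℤ) (k : Fin n) :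
    rf i v k = if k = i then v ⟨i + 1, hi⟩ else if k = ⟨i + 1, hi⟩ then v i else v k := by
  unfold rf Cf
  rw [Pi.sub_apply, Pi.smul_apply, bt_apply, dif_pos hi, if_pos hi, smul_eq_mul]
  by_cases h : k = i
  · subst h
    rw [if_pos rfl, if_pos rfl]; ring
  · rw [if_neg (fun h' => h (Fin.ext h')), if_neg h]
    by_cases h2 : k = ⟨i + 1, hi⟩
    · subst h2
      rw [if_pos rfl, if_pos rfl]; ring
    · rw [if_neg (fun h' => h2 (Fin.ext h')), if_neg h2]; ring

theorem rf_fl {i : Fin n} (hi : (i : ℕ) + 1 < n) (v : Fin n → ℤ) :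
    rf i (fl {⟨i + 1, hi⟩} (rf i v)) = fl {i} v := by
  have hne : (⟨(i : ℕ) + 1, hi⟩ : Fin n) ≠ i := by simp [Fin.ext_iff]
  funext k
  rw [rf_up hi]
  unfold fl
  rw [rf_up hi, rf_up hi, rf_up hi]
  simp only [Finset.mem_singleton]
  by_cases h : k = i
  · subst h
    simp [hne, hne.symm]
  · by_cases h2 : k = ⟨i + 1, hi⟩
    · subst h2
      simp [hne, hne.symm]
    · simp [h, h2]

theorem sg_flip {i : Fin n} (hi : (i : ℕ) + 1 < n) (x : Fin n × Bool) :
    sg i (flip {⟨i + 1, hi⟩} (sg i x)) = flip {i} x := by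
  have hne : (⟨(i : ℕ) + 1, hi⟩ : Fin n) ≠ i := by simp [Fin.ext_iff]
  obtain ⟨k, s⟩ := x
  unfold flip
  simp only [Finset.mem_singleton]
  by_cases h : k = i
  · subst h
    rw [sg_up hi]
    simp only [if_true, ng]
    rw [sg_down hi]
  · by_cases h2 : k = ⟨i + 1, hi⟩
    · subst h2
      rw [sg_down hi]
      simp only [hne, hne.symm, if_false]
      rw [sg_up hi]
    · have h3 : sg i (k, s) = (k, s) := sg_of_ne h (fun h' => h2 (Fin.ext h'))
      rw [h3]
      simp only [h, h2, if_false]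
      rw [h3]

theorem sg_flip_last {i : Fin n} (hi : ¬ (i : ℕ) + 1 < n) (x : Fin n × Bool) : sg i x = flip {i} x := by
  obtain ⟨k, s⟩ := x
  unfold flip
  simp only [Finset.mem_singleton]
  by_cases h : k = i
  · subst h
    rw [sg_last hi, if_pos rfl]
    rfl
  · rw [if_neg h]
    exact sg_of_ne h (fun h' => by have := k.2; simp only at h'; omega)

end Flip

/-! ### the model -/

section Model

variable {F : Type*} [Field F] {V : Type*} [AddCommGroup V] [Module F V] {H : HForm F V} {n : ℕ}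
  {Fr : Frame H (Fin n)} {K : Type*} [Group K] {M : Model Fr K} {p : ℕ}

theorem ee_rep {W : Type*} [Group W] (cs : CoxeterSystem (CoxeterMatrix.B n) W) (i : Fin n) (x : Fin n → ℤ) :
    ee (rep cs (isCartan n) (cs.simple i) x) = rf i (ee x) := by
  rw [rep_simple, ee_refl]
  rfl

variable (hA : AmbT Fr p M.I) [Finite V] [Fact p.Prime] [CharP F p] {p0 : Fr.Adm} (hp0 : p0.c ≠ 0)
  {W : Type*} [Group W] (cs : CoxeterSystem (CoxeterMatrix.B n) W)

include hA in
theorem exists_flip_single (d : ℕ) : ∀ i : Fin n, (i : ℕ) + d + 1 = n →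
    ∃ (u : W) (g : V ≃ₗ[F] V) (hg : g ∈ M.I), Rp cs (rgdC_model M hA hp0 cs).nsys u (M.φ ⟨g, hg⟩) ∧
      Mono Fr g (flip {i}) ∧ ∀ x, ee (rep cs (isCartan n) u x) = fl {i} (ee x) := by
  induction d with
  | zero =>
    intro i hi
    have hi' : ¬ (i : ℕ) + 1 < n := by omega
    exact ⟨cs.simple i, nn Fr p0 i, nn_mem hA p0 i, rp_simple cs _ i,
      (mono_nn hp0 i).congr (sg_flip_last hi'), fun x => by rw [ee_rep, rf_last hi']⟩
  | succ d ih =>
    intro i hi
    have hi' : (i : ℕ) + 1 < n := by omega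
    obtain ⟨u, g, hg, h1, h2, h3⟩ := ih ⟨i + 1, hi'⟩ (by simp only; omega)
    refine ⟨cs.simple i * u * cs.simple i, nn Fr p0 i * g * nn Fr p0 i,
      mul_mem (mul_mem (nn_mem hA p0 i) hg) (nn_mem hA p0 i), ?_, ?_, ?_⟩
    · have h4 := ((rp_simple cs (rgdC_model M hA hp0 cs).nsys i).mul h1).mul
        (rp_simple cs (rgdC_model M hA hp0 cs).nsys i)
      rw [← map_mul, ← map_mul] at h4
      exact h4
    · exact (((mono_nn hp0 i).mul h2).mul (mono_nn hp0 i)).congr fun x => sg_flip hi' x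
    · intro x
      rw [map_mul, Module.End.mul_apply, map_mul, Module.End.mul_apply, ee_rep, h3, ee_rep, rf_fl hi']

include hA in
theorem exists_flip (S : Finset (Fin n)) :
    ∃ (u : W) (g : V ≃ₗ[F] V) (hg : g ∈ M.I), Rp cs (rgdC_model M hA hp0 cs).nsys u (M.φ ⟨g, hg⟩) ∧
      Mono Fr g (flip S) ∧ ∀ x, ee (rep cs (isCartan n) u x) = fl S (ee x) := by
  induction S using Finset.induction_on with
  | empty =>
    refine ⟨1, 1, one_mem _, ?_, Mono.one.congr fun x => (flip_empty x).symm, fun x => ?_⟩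
    · have h1 : M.φ ⟨1, one_mem _⟩ = 1 := map_one M.φ
      rw [h1]
      exact rp_one
    · rw [map_one, fl_empty]
      rfl
  | insert i S hi ih =>
    obtain ⟨u, g, hg, h1, h2, h3⟩ := ih
    obtain ⟨u', g', hg', h1', h2', h3'⟩ := exists_flip_single hA hp0 cs (n - 1 - i) i (by have := i.2; omega)
    refine ⟨u' * u, g' * g, mul_mem hg' hg, ?_, (h2'.mul h2).congr fun x => flip_insert hi x, fun x => ?_⟩
    · have h4 := h1'.mul h1
      rw [← map_mul] at h4
      exact h4
    · rw [map_mul, Module.End.mul_apply, h3', h3, fl_insert hi]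

include hA in
/-- **The element `-1`.** -/
theorem exists_neg : ∃ (w0 : W) (g : V ≃ₗ[F] V) (hg : g ∈ M.I), (∀ x, rep cs (isCartan n) w0 x = -x) ∧
    Rp cs (rgdC_model M hA hp0 cs).nsys w0 (M.φ ⟨g, hg⟩) ∧ Mono Fr g ng := by
  obtain ⟨u, g, hg, h1, h2, h3⟩ := exists_flip hA hp0 cs Finset.univ
  refine ⟨u, g, hg, fun x => ?_, h1, h2.congr flip_univ⟩
  apply ee_injective
  rw [h3, fl_univ, ee_neg]

end Model

section Torus

variable {F : Type*} [Field F] {V : Type*} [AddCommGroup V] [Module F V] {H : HForm F V} {n : ℕ}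
  {Fr : Frame H (Fin n)}

/-- an isometry with `t b_x = a b_x` and `t b_{-x} = a' b_{-x}` : `a' σ(a) = 1`-/
theorem mul_eq_one {t : V ≃ₗ[F] V} (ht : H.IsIso t) {x : Fin n × Bool} {a a' : F} (h1 : t (Fr.b x) = a • Fr.b x)
    (h2 : t (Fr.b (ng x)) = a' • Fr.b (ng x)) : a' * H.σ a = 1 := by
  have h3 := ht (Fr.b (ng x)) (Fr.b x)
  rw [h1, h2, H.smul_left, H.smul_right] at h3
  have h4 : H.h (Fr.b (ng x)) (Fr.b x) = Fr.η x := Fr.hb_neg_self x
  rw [h4] at h3
  have h5 := Fr.η_ne x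
  have h6 : (a' * H.σ a) * Fr.η x = 1 * Fr.η x := by rw [one_mul]; linear_combination h3
  exact mul_right_cancel₀ h5 h6

/-- **`g⁻¹ t⁻¹ g b_x = σ(a) b_x`** -/
theorem apply_torus {t g : V ≃ₗ[F] V} (ht : H.IsIso t) (htm : Mono Fr t id) (hg : Mono Fr g ng)
    {x : Fin n × Bool} {a : F} (h1 : t (Fr.b x) = a • Fr.b x) : (g⁻¹ * t⁻¹ * g) (Fr.b x) = H.σ a • Fr.b x := by
  obtain ⟨l, hl, e⟩ := hg x
  obtain ⟨a', ha', e'⟩ := htm (ng x)
  have e1 : t (Fr.b (ng x)) = a' • Fr.b (ng x) := e'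
  have h2 := mul_eq_one ht h1 e1
  have h3 : a'⁻¹ = H.σ a := by
    rw [inv_eq_iff_eq_inv]
    exact eq_inv_of_mul_eq_one_left h2
  have h4 : t⁻¹ (Fr.b (ng x)) = a'⁻¹ • Fr.b (ng x) := by
    have h5 : t⁻¹ (t (Fr.b (ng x))) = Fr.b (ng x) := by
      rw [← mul_apply', inv_mul_cancel]; rfl
    rw [e1, map_smul] at h5
    rw [← h5, smul_smul, inv_mul_cancel₀ ha', one_smul, h5]
  have h6 : g⁻¹ (Fr.b (ng x)) = l⁻¹ • Fr.b x := by
    have h5 : g⁻¹ (g (Fr.b x)) = Fr.b x := by
      rw [← mul_apply', inv_mul_cancel]; rfl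
    rw [e, map_smul] at h5
    rw [← h5, smul_smul, inv_mul_cancel₀ hl, one_smul]
  rw [mul_apply', mul_apply', e, map_smul, h4, map_smul, map_smul, h6, smul_smul, smul_smul, h3]
  congr 1
  field_simp

end Torus

end Cfsg.Agent.H48.WittNeg
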