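import Cfsg.Agent.H48.DsChev
import Cfsg.Agent.H48.WittNeg
import Cfsg.Agent.Nodes.WittInst
import Cfsg.Agent.S2099

/-!
# `PΩ⁻_{2m+2}(q)`, `m` odd, in the defining characteristic: self-duality (helper48)

* `sgn` : the Dickson sign on `O Q`; `exists_fix` : an isometry of sign `-1` which is diagonal on the frame fixes a
  vector of the anisotropic part; `sq_of_fix` : then its square is one there;
* `tor_comm`, `conj_tor` : the torus is commutative and inverted by `-1`;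
* **`minus_sd`** : `SD P` for `P ≃* PΩ⁻_{2m+2}(q)`, `m` odd.
-/

set_option autoImplicit false
set_option linter.unusedSectionVars false

namespace Cfsg.Agent.H48.DsO8m

open QuadraticMap Module
open Cfsg
open Cfsg.Agent.ChevalleyStructure.CoxeterGeom Cfsg.Agent.Tits.Roots
open Cfsg.Agent.Nodes Cfsg.Agent.Nodes.Comb Cfsg.Agent.Nodes.Reps Cfsg.Agent.Nodes.WittRoot
  Cfsg.Agent.Nodes.WittRGD Cfsg.Agent.Nodes.TypeC Cfsg.Agent.Nodes.BNOf
open Cfsg.Agent.Nodes.RGDLib Cfsg.Agent.Nodes.WittAll Cfsg.Agent.Nodes.WittInst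
open Cfsg.Agent.TitsThree Cfsg.Agent.TitsThree.Siegel Cfsg.Agent.TitsThree.SiegelGen
  Cfsg.Agent.TitsThree.WittFrame Cfsg.Agent.TitsThree.WBridge Cfsg.Agent.TitsThree.WittWeyl
  Cfsg.Agent.TitsThree.FrameCN
open Cfsg.Agent.LieClassical Cfsg.Agent.LieClassical.OrthCore Cfsg.Agent.LieClassical.OrthTrans
open Cfsg.Agent.LieClassical.OrthSimple Cfsg.Agent.LieClassical.OrthFinite
open Cfsg.Agent.LieClassical.OrthForms
open Cfsg.Agent.TitsThree.KSideO Cfsg.Agent.TitsThree.StdData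
open Cfsg.Agent.ClassicalGeometry Cfsg.Agent.H48.WittNeg

/-! ### the Dickson sign -/

section Sign

variable {ι : Type} [Fintype ι] [DecidableEq ι] {F : Type*} [Field F] {Q : QuadraticForm F (ι → F)}
  (hQ : (polarBilin Q).Nondegenerate) (h4 : (∃ θ : F, θ ≠ 0 ∧ θ ≠ 1) ∨ Fintype.card ι ≠ 4)

/-- the Dickson sign on the group of linear isometries -/
noncomputable def sgn : O Q →* ℤˣ := (OrthDickson.dsignHom Q hQ h4).comp (isometryEquiv Q).symm.toMonoidHom

/-- the fixed space -/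
def fx (k : (ι → F) ≃ₗ[F] (ι → F)) : Submodule F (ι → F) := LinearMap.eqLocus k.toLinearMap LinearMap.id

theorem mem_fx {k : (ι → F) ≃ₗ[F] (ι → F)} {v : ι → F} : v ∈ fx k ↔ k v = v := Iff.rfl

theorem sgn_eq (k : O Q) : sgn hQ h4 k = (-1) ^ (finrank F (fx k.1) + Fintype.card ι) := by
  obtain ⟨g, rfl⟩ := (isometryEquiv Q).surjective k
  have h1 : sgn hQ h4 (isometryEquiv Q g) = OrthDickson.dsign Q g := by
    change OrthDickson.dsign Q ((isometryEquiv Q).symm (isometryEquiv Q g)) = _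
    rw [MulEquiv.symm_apply_apply]
  rw [h1, OrthDickson.dsign_def]
  rfl

theorem sgn_refl {v : ι → F} (hv : Q v ≠ 0) : sgn hQ h4 ⟨refl Q v hv, refl_mem_O hv⟩ = -1 := by
  have h1 : isometryEquiv Q (Reflection.reflIso Q v hv) = ⟨refl Q v hv, refl_mem_O hv⟩ := by
    apply Subtype.ext
    ext1 x
    rw [isometryEquiv_apply, Reflection.coe_reflIso, Reflection.reflectionMatrix_mulVec]
    exact (refl_apply hv x).symm
  rw [← h1]
  change OrthDickson.dsign Q ((isometryEquiv Q).symm (isometryEquiv Q _)) = _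
  rw [MulEquiv.symm_apply_apply, OrthDickson.dsign_refl Q hQ]

theorem sgn_E (hG : Good Q) (k : O Q) (hk : k.1 ∈ E Q) : sgn hQ h4 k = 1 := by
  obtain ⟨g, hg⟩ := (omegaEquiv Q).surjective ⟨k.1, by rw [hG.commutator_eq_E]; exact hk⟩
  have h1 : isometryEquiv Q g.1 = k := by
    apply Subtype.ext
    ext1 v
    have h2 : (omegaEquiv Q g : (ι → F) ≃ₗ[F] (ι → F)) v = k.1 v := by rw [hg]
    exact h2
  rw [← h1]
  change OrthDickson.dsign Q ((isometryEquiv Q).symm (isometryEquiv Q _)) = _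
  rw [MulEquiv.symm_apply_apply]
  exact OrthDickson.dsign_eq_one_of_mem_commutator Q hQ h4 _ g.2

end Sign

/-! ### minus type -/

section Minus

variable {F : Type*} [Field F] {m : ℕ} {a b : F}
  (hab : ∀ z₁ z₂ : F, z₁ ^ 2 + a * z₁ * z₂ + b * z₂ ^ 2 = 0 → z₁ = 0 ∧ z₂ = 0)

/-- the coordinate of `b x` -/
def cc (x : Fin m × Bool) : (Fin m ⊕ Fin m) ⊕ Fin 2 := if x.2 then Sum.inl (Sum.inl x.1) else Sum.inl (Sum.inr x.1)

local notation "QQ" => minusForm m F a b
local notation "Frm" => toFrame (wminus m F a b hab)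

theorem b_eq (x : Fin m × Bool) : (Frm).b x = Pi.single (cc x) 1 := by
  obtain ⟨i, s⟩ := x
  cases s <;> rfl

theorem polar_b (v : (Fin m ⊕ Fin m) ⊕ Fin 2 → F) (x : Fin m × Bool) :
    polar QQ v ((Frm).b (ng x)) = v (cc x) := by
  obtain ⟨i, s⟩ := x
  rw [b_eq, polar_minusForm]
  cases s <;> simp [cc, ng, Pi.single_apply]

theorem mem_V0 {v : (Fin m ⊕ Fin m) ⊕ Fin 2 → F} : v ∈ (Frm).V0 ↔ ∀ x : Fin m × Bool, v (cc x) = 0 := by
  change (∀ j, v (Sum.inl j) = 0) ↔ _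
  constructor
  · rintro h ⟨i, s⟩
    cases s <;> exact h _
  · rintro h (j | j)
    · exact h (j, true)
    · exact h (j, false)

theorem diag_apply {k : ((Fin m ⊕ Fin m) ⊕ Fin 2 → F) ≃ₗ[F] ((Fin m ⊕ Fin m) ⊕ Fin 2 → F)} (hk : k ∈ O QQ)
    (hm : Mono (Frm) k id) : ∃ c : Fin m × Bool → F, (∀ x, k ((Frm).b x) = c x • (Frm).b x) ∧
      (∀ x, c (ng x) * c x = 1) ∧ ∀ v x, k v (cc x) = c x * v (cc x) := by
  choose c hc0 hc using hm
  have hiso : (HO QQ).IsIso k := fun v w => polar_map hk v w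
  have h1 : ∀ x, c (ng x) * c x = 1 := fun x => WittNeg.mul_eq_one hiso (hc x) (hc (ng x))
  refine ⟨c, hc, h1, fun v x => ?_⟩
  have h2 : polar QQ (k v) (k ((Frm).b (ng x))) = polar QQ v ((Frm).b (ng x)) := polar_map hk _ _
  rw [hc (ng x)] at h2
  change polar QQ (k v) (c (ng x) • (Frm).b (ng x)) = _ at h2
  rw [polar_smul_right, polar_b, polar_b, smul_eq_mul] at h2
  have h3 := h1 x
  linear_combination (c x) * h2 - (k v (cc x)) * h3

/-- A diagonal isometry of sign `-1` fixes a vector of the anisotropic part. -/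
theorem exists_fix [Finite F] (hQ : (polarBilin QQ).Nondegenerate)
    (h4 : (∃ θ : F, θ ≠ 0 ∧ θ ≠ 1) ∨ Fintype.card ((Fin m ⊕ Fin m) ⊕ Fin 2) ≠ 4)
    {k : ((Fin m ⊕ Fin m) ⊕ Fin 2 → F) ≃ₗ[F] ((Fin m ⊕ Fin m) ⊕ Fin 2 → F)} (hk : k ∈ O QQ)
    (hm : Mono (Frm) k id) (hs : sgn hQ h4 ⟨k, hk⟩ = -1) : ∃ u ∈ (Frm).V0, u ≠ 0 ∧ k u = u := by
  classical
  by_contra hcon
  push Not at hcon
  obtain ⟨c, hc, hc1, hkc⟩ := diag_apply hab hk hm
  -- the fixed space
  let ev : fx k →ₗ[F] ({x : Fin m × Bool // c x = 1} → F) :=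
    { toFun := fun v x => v.1 (cc x.1)
      map_add' := fun v w => rfl
      map_smul' := fun r v => rfl }
  have hinj : Function.Injective ev := by
    rw [← LinearMap.ker_eq_bot, LinearMap.ker_eq_bot']
    rintro ⟨v, hv⟩ h
    have h1 : v ∈ (Frm).V0 := by
      rw [mem_V0]
      intro x
      by_cases hx : c x = 1
      · exact congrFun h ⟨x, hx⟩
      · have h2 := hkc v x
        rw [mem_fx.1 hv] at h2
        have h3 : (c x - 1) * v (cc x) = 0 := by linear_combination -h2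
        exact (mul_eq_zero.1 h3).resolve_left (sub_ne_zero.2 hx)
    apply Subtype.ext
    change v = 0
    by_contra hv0
    exact hcon v h1 hv0 hv
  have hcc : Function.Injective (cc : Fin m × Bool → (Fin m ⊕ Fin m) ⊕ Fin 2) := by
    rintro ⟨i, s⟩ ⟨j, t⟩ h
    cases s <;> cases t <;> simp [cc] at h <;> simp [h]
  have hsurj : Function.Surjective ev := by
    intro f
    have hv : (∑ x : {x : Fin m × Bool // c x = 1}, f x • (Frm).b x.1) ∈ fx k := by
      rw [mem_fx, map_sum]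
      refine Finset.sum_congr rfl fun x _ => ?_
      rw [map_smul, hc, x.2, one_smul]
    refine ⟨⟨_, hv⟩, ?_⟩
    funext y
    change (∑ x : {x : Fin m × Bool // c x = 1}, f x • (Frm).b x.1) (cc y.1) = f y
    rw [Finset.sum_apply, Finset.sum_eq_single y]
    · rw [Pi.smul_apply, b_eq, Pi.single_eq_same, smul_eq_mul, mul_one]
    · intro x _ hxy
      rw [Pi.smul_apply, b_eq, Pi.single_eq_of_ne (fun h => hxy (Subtype.ext (hcc h.symm))), smul_zero]
    · intro h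
      exact absurd (Finset.mem_univ _) h
  have h1 : finrank F (fx k) = Fintype.card {x : Fin m × Bool // c x = 1} := by
    rw [(LinearEquiv.ofBijective ev ⟨hinj, hsurj⟩).finrank_eq, finrank_fintype_fun_eq_card]
  have hng : ∀ x, c x = 1 → c (ng x) = 1 := fun x hx => by have := hc1 x; rwa [hx, mul_one] at this
  have h2 : Fintype.card {x : Fin m × Bool // c x = 1} = Fintype.card ({i : Fin m // c (i, true) = 1} × Bool) := by
    refine Fintype.card_congr
      { toFun := fun x => (⟨x.1.1, ?_⟩, x.1.2)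
        invFun := fun y => ⟨(y.1.1, y.2), ?_⟩
        left_inv := fun x => rfl
        right_inv := fun y => rfl }
    · obtain ⟨⟨i, s⟩, hx⟩ := x
      cases s
      · exact hng _ hx
      · exact hx
    · obtain ⟨⟨i, hi⟩, s⟩ := y
      cases s
      · exact hng _ hi
      · exact hi
  rw [sgn_eq, h1, h2, Fintype.card_prod, Fintype.card_bool, Fintype.card_sum, Fintype.card_sum, Fintype.card_fin,
    Fintype.card_fin] at hs
  have h3 : Even (Fintype.card {i : Fin m // c (i, true) = 1} * 2 + (m + m + 2)) :=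
    ⟨Fintype.card {i : Fin m // c (i, true) = 1} + (m + 1), by ring⟩
  rw [Even.neg_one_pow h3] at hs
  exact absurd hs (by decide)

/-- An isometry of the anisotropic part with a fixed vector has square one. -/
theorem sq_of_fix [Finite F] {k : ((Fin m ⊕ Fin m) ⊕ Fin 2 → F) ≃ₗ[F] ((Fin m ⊕ Fin m) ⊕ Fin 2 → F)}
    (hk : k ∈ O QQ) (hV : ∀ w ∈ (Frm).V0, k w ∈ (Frm).V0) {u : (Fin m ⊕ Fin m) ⊕ Fin 2 → F}
    (hu : u ∈ (Frm).V0) (hu0 : u ≠ 0) (hku : k u = u) : ∀ w ∈ (Frm).V0, k (k w) = w := by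
  intro x hx
  -- the form on `V0`
  have hform : ∀ y ∈ (Frm).V0, ∀ z ∈ (Frm).V0, polar QQ y z = 2 * y (Sum.inr 0) * z (Sum.inr 0) +
      a * (y (Sum.inr 0) * z (Sum.inr 1) + y (Sum.inr 1) * z (Sum.inr 0)) +
        2 * b * y (Sum.inr 1) * z (Sum.inr 1) := by
    intro y hy z hz
    have hy' : ∀ j, y (Sum.inl j) = 0 := hy
    have hz' : ∀ j, z (Sum.inl j) = 0 := hz
    rw [polar_minusForm]
    simp only [hy', hz', mul_zero, zero_mul, add_zero, Finset.sum_const_zero, zero_add]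
  have hext : ∀ y ∈ (Frm).V0, y (Sum.inr 0) = 0 → y (Sum.inr 1) = 0 → y = 0 := by
    intro y hy h0 h1
    have hy' : ∀ j, y (Sum.inl j) = 0 := hy
    funext j
    rcases j with j | j
    · exact hy' j
    · fin_cases j
      · exact h0
      · exact h1
  -- the line orthogonal to `u`
  obtain ⟨A, B, hAB, hline⟩ : ∃ A B : F, (A ≠ 0 ∨ B ≠ 0) ∧ ∀ y ∈ (Frm).V0, polar QQ y u = 0 →
      y (Sum.inr 0) * A + y (Sum.inr 1) * B = 0 := by
    refine ⟨2 * u (Sum.inr 0) + a * u (Sum.inr 1), a * u (Sum.inr 0) + 2 * b * u (Sum.inr 1), ?_, ?_⟩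
    · by_contra hcon
      push Not at hcon
      obtain ⟨h1, h2⟩ := hcon
      obtain ⟨h3, h4⟩ := binary_nondeg F a b hab (z := u (Sum.inr 0)) (w := u (Sum.inr 1)) h1 h2
      exact hu0 (hext u hu h3 h4)
    · intro y hy h
      rw [hform y hy u hu] at h
      linear_combination h
  have hprop : ∀ y ∈ (Frm).V0, ∀ z ∈ (Frm).V0, polar QQ y u = 0 → polar QQ z u = 0 → y ≠ 0 →
      ∃ c : F, z = c • y := by
    intro y hy z hz hyu hzu hy0
    have h1 := hline y hy hyu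
    have h2 := hline z hz hzu
    have hdet : y (Sum.inr 0) * z (Sum.inr 1) = y (Sum.inr 1) * z (Sum.inr 0) := by
      rcases hAB with h | h
      · apply mul_right_cancel₀ h
        linear_combination (z (Sum.inr 1)) * h1 - (y (Sum.inr 1)) * h2
      · apply mul_right_cancel₀ h
        linear_combination (y (Sum.inr 0)) * h2 - (z (Sum.inr 0)) * h1
    by_cases h0 : y (Sum.inr 0) = 0
    · have h3 : y (Sum.inr 1) ≠ 0 := fun h => hy0 (hext y hy h0 h)
      refine ⟨z (Sum.inr 1) * (y (Sum.inr 1))⁻¹, sub_eq_zero.1 (hext _ ((Frm).V0.sub_mem hz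
        ((Frm).V0.smul_mem _ hy)) ?_ ?_)⟩
      · rw [h0, zero_mul] at hdet
        have h4 : z (Sum.inr 0) = 0 := (mul_eq_zero.1 hdet.symm).resolve_left h3
        simp [h0, h4]
      · simp [h3]
    · refine ⟨z (Sum.inr 0) * (y (Sum.inr 0))⁻¹, sub_eq_zero.1 (hext _ ((Frm).V0.sub_mem hz
        ((Frm).V0.smul_mem _ hy)) ?_ ?_)⟩
      · simp [h0]
      · simp only [Pi.sub_apply, Pi.smul_apply, smul_eq_mul]
        field_simp
        linear_combination hdet
  -- the argument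
  have hkx := hV x hx
  have hkkx := hV _ hkx
  have horth : ∀ y, polar QQ (k y - y) u = 0 := by
    intro y
    have h1 := polar_map hk y u
    rw [hku] at h1
    rw [polar_sub_left, h1, sub_self]
  have horth2 : polar QQ (k (k x) - x) u = 0 := by
    have h1 := horth (k x)
    have h2 := horth x
    have h3 : k (k x) - x = (k (k x) - k x) + (k x - x) := by abel
    rw [h3, polar_add_left, h1, h2, add_zero]
  by_cases hd : k x - x = 0
  · have h1 : k x = x := sub_eq_zero.1 hd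
    rw [h1, h1]
  · obtain ⟨c, hc⟩ := hprop _ ((Frm).V0.sub_mem hkx hx) _ ((Frm).V0.sub_mem hkkx hx) (horth x) horth2 hd
    set d := k x - x with hdd
    have hkx' : k x = x + d := by rw [hdd]; abel
    have hkkx' : k (k x) = x + c • d := by rw [← hc]; abel
    have hQd : QQ d ≠ 0 := fun h => hd ((wminus m F a b hab).aniso d ((Frm).V0.sub_mem hkx hx)
      ((sing_iff QQ).2 h))
    have e1 : QQ (x + d) = QQ x := by rw [← hkx']; exact mem_O.1 hk x
    have e2 : QQ (x + c • d) = QQ x := by rw [← hkkx', mem_O.1 hk, mem_O.1 hk]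
    rw [Q_add] at e1 e2
    rw [QuadraticMap.map_smul, polar_smul_right, smul_eq_mul, smul_eq_mul] at e2
    have e3 : c * (c - 1) * QQ d = 0 := by linear_combination e2 - c * e1
    rcases mul_eq_zero.1 ((mul_eq_zero.1 e3).resolve_right hQd) with h | h
    · rw [hkkx', h, zero_smul, add_zero]
    · exfalso
      rw [sub_eq_zero] at h
      rw [h, one_smul, ← hkx'] at hkkx'
      exact hd (sub_eq_zero.2 (k.injective hkkx'))

/-- A diagonal isometry of sign `-1` has square one on the anisotropic part. -/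
theorem sq_of_sgn [Finite F] (hQ : (polarBilin QQ).Nondegenerate)
    (h4 : (∃ θ : F, θ ≠ 0 ∧ θ ≠ 1) ∨ Fintype.card ((Fin m ⊕ Fin m) ⊕ Fin 2) ≠ 4)
    {k : ((Fin m ⊕ Fin m) ⊕ Fin 2 → F) ≃ₗ[F] ((Fin m ⊕ Fin m) ⊕ Fin 2 → F)} (hk : k ∈ O QQ)
    (hm : Mono (Frm) k id) (hs : sgn hQ h4 ⟨k, hk⟩ = -1) : ∀ w ∈ (Frm).V0, k (k w) = w := by
  obtain ⟨u, hu, hu0, hku⟩ := exists_fix hab hQ h4 hk hm hs
  refine sq_of_fix hab hk (fun w hw => ?_) hu hu0 hku
  obtain ⟨c, -, -, hkc⟩ := diag_apply hab hk hm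
  rw [mem_V0] at hw ⊢
  intro x
  rw [hkc, hw x, mul_zero]

/-- products of reflections swapping hyperbolic pairs -/
theorem exists_swap (hQ : (polarBilin QQ).Nondegenerate)
    (h4 : (∃ θ : F, θ ≠ 0 ∧ θ ≠ 1) ∨ Fintype.card ((Fin m ⊕ Fin m) ⊕ Fin 2) ≠ 4) (S : Finset (Fin m)) :
    ∃ R : O QQ, sgn hQ h4 R = (-1) ^ S.card ∧ (∀ x, R.1 ((Frm).b x) = (Frm).b (flip S x)) ∧
      ∀ w ∈ (Frm).V0, R.1 w = w := by
  induction S using Finset.induction_on with
  | empty => exact ⟨1, by rw [map_one]; rfl, fun x => by rw [flip_empty]; rfl, fun w _ => rfl⟩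
  | insert i S hi ih =>
    obtain ⟨R, h1, h2, h3⟩ := ih
    set v : (Fin m ⊕ Fin m) ⊕ Fin 2 → F := (Frm).b (i, true) - (Frm).b (i, false) with hv
    have hpol : ∀ x, polar QQ v ((Frm).b x) = if x = (i, false) then 1 else if x = (i, true) then -1 else 0 := by
      intro x
      have e : x = ng (ng x) := (ng_ng x).symm
      rw [e, polar_b, hv, b_eq, b_eq, ng_ng]
      obtain ⟨j, s⟩ := x
      by_cases h : j = i
      · subst h
        cases s <;> simp [cc, ng]
      · have h' : ¬ i = j := fun h' => h h'.symm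
        cases s <;> simp [cc, ng, Pi.single_apply, h, h']
    have hQv : QQ v = -1 := by
      have e1 : ∀ x, QQ ((Frm).b x) = 0 := fun x => (sing_iff QQ).1 (b_sing _ x)
      have e2 : QQ v = QQ ((Frm).b (i, true)) + QQ (-(Frm).b (i, false)) +
          polar QQ ((Frm).b (i, true)) (-(Frm).b (i, false)) := by rw [← Q_add, hv, sub_eq_add_neg]
      have e3 : polar QQ ((Frm).b (i, true)) ((Frm).b (i, false)) = 1 := by
        have := polar_b (a := a) (b := b) hab ((Frm).b (i, true)) (i, true)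
        rw [b_eq] at this ⊢
        rw [show (i, false) = ng (i, true) from rfl, this]
        simp
      rw [e2, e1, QuadraticMap.map_neg, e1, polar_neg_right, e3]
      ring
    have hQv0 : QQ v ≠ 0 := by rw [hQv]; exact neg_ne_zero.2 one_ne_zero
    refine ⟨⟨refl QQ v hQv0, refl_mem_O hQv0⟩ * R, ?_, fun x => ?_, fun w hw => ?_⟩
    · rw [map_mul, sgn_refl, h1, Finset.card_insert_of_notMem hi, pow_succ']
    · change refl QQ v hQv0 (R.1 _) = _
      rw [h2, OrthCore.refl_apply, hpol, hQv, ← flip_insert hi]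
      by_cases hx1 : flip S x = (i, false)
      · rw [if_pos hx1, hx1, hv]
        have e : flip {i} (i, false) = (i, true) := by unfold WittNeg.flip; simp [ng]
        rw [e]
        simp
      · rw [if_neg hx1]
        by_cases hx2 : flip S x = (i, true)
        · rw [if_pos hx2, hx2, hv]
          have e : flip {i} (i, true) = (i, false) := by unfold WittNeg.flip; simp [ng]
          rw [e]
          simp
        · rw [if_neg hx2, mul_zero, zero_smul, sub_zero]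
          have e : flip {i} (flip S x) = flip S x := by
            set y := flip S x
            unfold WittNeg.flip
            rw [if_neg]
            rw [Finset.mem_singleton]
            intro h
            obtain ⟨j, s⟩ := y
            simp only at h
            subst h
            cases s
            · exact hx1 rfl
            · exact hx2 rfl
          rw [e]
    · change refl QQ v hQv0 (R.1 _) = _
      have e : polar QQ v w = 0 := by
        rw [hv, polar_sub_left]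
        have e1 : ∀ x, polar QQ ((Frm).b x) w = 0 := fun x => (Frm).h0 x w hw
        rw [e1, e1, sub_zero]
      rw [h3 w hw, OrthCore.refl_apply, e, mul_zero, zero_smul, sub_zero]

include hab in
theorem nondeg' [Finite F] : (polarBilin QQ).Nondegenerate :=
  ⟨fun x hx => nondeg_minusForm m F a b hab x fun y => by
    have := hx y; rwa [polarBilin_apply_apply] at this,
  fun x hx => nondeg_minusForm m F a b hab x fun y => by
    have := hx y
    rw [polarBilin_apply_apply, polar_comm] at this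
    exact this⟩

theorem card_ne (hm : 2 ≤ m) : (∃ θ : F, θ ≠ 0 ∧ θ ≠ 1) ∨ Fintype.card ((Fin m ⊕ Fin m) ⊕ Fin 2) ≠ 4 :=
  Or.inr (by rw [Fintype.card_sum, Fintype.card_sum, Fintype.card_fin, Fintype.card_fin]; omega)

theorem ext_frame {g g' : ((Fin m ⊕ Fin m) ⊕ Fin 2 → F) ≃ₗ[F] ((Fin m ⊕ Fin m) ⊕ Fin 2 → F)}
    (hb : ∀ x, g ((Frm).b x) = g' ((Frm).b x)) (h0 : ∀ w ∈ (Frm).V0, g w = g' w) : g = g' := by
  ext1 v
  obtain ⟨x, y, w, hw, e⟩ := (wminus m F a b hab).span v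
  rw [e, map_add, map_add, map_add, map_add, map_sum, map_sum, map_sum, map_sum, h0 w hw]
  congr 2
  · exact Finset.sum_congr rfl fun i _ => by rw [map_smul, map_smul]; congr 1; exact hb (i, true)
  · exact Finset.sum_congr rfl fun i _ => by rw [map_smul, map_smul]; congr 1; exact hb (i, false)

/-- the reflection in a vector of `V0` inverts the torus on `V0` -/
theorem exists_refl [Finite F] (hm : 2 ≤ m) (hG : Good QQ) :
    ∃ r : ((Fin m ⊕ Fin m) ⊕ Fin 2 → F) ≃ₗ[F] ((Fin m ⊕ Fin m) ⊕ Fin 2 → F), (∀ w, r (r w) = w) ∧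
      (∀ w ∈ (Frm).V0, r w ∈ (Frm).V0) ∧ ∀ s ∈ Tor (Frm) (E QQ), ∀ w ∈ (Frm).V0, s (r (s (r w))) = w := by
  have hQ := nondeg' hab (m := m)
  have h4 := card_ne (F := F) hm
  set u : (Fin m ⊕ Fin m) ⊕ Fin 2 → F := Pi.single (Sum.inr 0) 1 with hu
  have huV : u ∈ (Frm).V0 := by
    intro j
    rw [hu]
    simp
  have hu0 : QQ u ≠ 0 := by
    intro h
    have h1 := (wminus m F a b hab).aniso u huV ((sing_iff QQ).2 h)
    have h2 := congrFun h1 (Sum.inr 0)
    rw [hu] at h2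
    simp at h2
  have hrr : ∀ w, refl QQ u hu0 (refl QQ u hu0 w) = w := fun w => by
    rw [← mul_apply', OrthCore.refl_mul_self]; rfl
  have hrb : ∀ x, refl QQ u hu0 ((Frm).b x) = (Frm).b x := by
    intro x
    rw [OrthCore.refl_apply]
    have e : polar QQ u ((Frm).b x) = 0 := (Frm).h0' x huV
    rw [e, mul_zero, zero_smul, sub_zero]
  refine ⟨refl QQ u hu0, hrr, fun w hw => ?_, fun s hs w hw => ?_⟩
  · rw [OrthCore.refl_apply]
    exact (Frm).V0.sub_mem hw ((Frm).V0.smul_mem _ huV)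
  · have hsO : s ∈ O QQ := E_le_O hs.1
    have h1 : sgn hQ h4 ⟨s * refl QQ u hu0, mul_mem hsO (refl_mem_O hu0)⟩ = -1 := by
      have h2 : (⟨s * refl QQ u hu0, mul_mem hsO (refl_mem_O hu0)⟩ : O QQ) =
        ⟨s, hsO⟩ * ⟨refl QQ u hu0, refl_mem_O hu0⟩ := rfl
      rw [h2, map_mul, sgn_refl, sgn_E hQ h4 hG ⟨s, hsO⟩ hs.1, one_mul]
    exact sq_of_sgn hab hQ h4 (mul_mem hsO (refl_mem_O hu0)) (fun x => by
      obtain ⟨l, hl, e⟩ := hs.2 x
      refine ⟨l, hl, ?_⟩
      rw [mul_apply', hrb, e]) h1 w hw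

theorem tor_V0 {s : ((Fin m ⊕ Fin m) ⊕ Fin 2 → F) ≃ₗ[F] ((Fin m ⊕ Fin m) ⊕ Fin 2 → F)}
    (hs : s ∈ Tor (Frm) (E QQ)) {w : (Fin m ⊕ Fin m) ⊕ Fin 2 → F} (hw : w ∈ (Frm).V0) : s w ∈ (Frm).V0 := by
  obtain ⟨c, -, -, hkc⟩ := diag_apply hab (E_le_O hs.1) hs.2
  rw [mem_V0] at hw ⊢
  intro x
  rw [hkc, hw x, mul_zero]

theorem inv_eq {s : ((Fin m ⊕ Fin m) ⊕ Fin 2 → F) ≃ₗ[F] ((Fin m ⊕ Fin m) ⊕ Fin 2 → F)}
    {v w : (Fin m ⊕ Fin m) ⊕ Fin 2 → F} (h : s v = w) : s⁻¹ w = v := by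
  rw [← h, ← mul_apply', inv_mul_cancel]; rfl

/-- **The torus is commutative.** -/
theorem tor_comm [Finite F] (hm : 2 ≤ m) (hG : Good QQ)
    {s t : ((Fin m ⊕ Fin m) ⊕ Fin 2 → F) ≃ₗ[F] ((Fin m ⊕ Fin m) ⊕ Fin 2 → F)}
    (hs : s ∈ Tor (Frm) (E QQ)) (ht : t ∈ Tor (Frm) (E QQ)) : s * t = t * s := by
  obtain ⟨r, hr, hrV, hrs⟩ := exists_refl hab hm hG
  refine ext_frame hab (fun x => ?_) (fun w hw => ?_)
  · obtain ⟨α, -, ha⟩ := hs.2 x
    obtain ⟨β, -, hb⟩ := ht.2 x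
    have ha' : s ((Frm).b x) = α • (Frm).b x := ha
    have hb' : t ((Frm).b x) = β • (Frm).b x := hb
    rw [mul_apply', mul_apply', ha', hb', map_smul, map_smul, ha', hb', smul_comm]
  · rw [mul_apply', mul_apply']
    have key : ∀ w ∈ (Frm).V0, s (t (s⁻¹ (t⁻¹ w))) = w := by
      intro w hw
      have h1 := hrs t ht w hw
      have h2 : r (t (r w)) = t⁻¹ w := (inv_eq h1).symm
      have h3 := hrs s hs (t⁻¹ w) (by rw [← h2]; exact hrV _ (tor_V0 hab ht (hrV w hw)))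
      have h4 : r (s (r (t⁻¹ w))) = s⁻¹ (t⁻¹ w) := (inv_eq h3).symm
      have h5 := hrs (s * t) (mul_mem hs ht) w hw
      rw [mul_apply', mul_apply'] at h5
      rw [← h4, ← h2, hr]
      exact h5
    have h1 := key (t (s w)) (tor_V0 hab ht (tor_V0 hab hs hw))
    rw [inv_eq rfl, inv_eq rfl] at h1
    exact h1

/-- an element over `-1` has square one on `V0` -/
theorem neg_sq [Finite F] (hm : 2 ≤ m) (hodd : Odd m) (hG : Good QQ)
    {g : ((Fin m ⊕ Fin m) ⊕ Fin 2 → F) ≃ₗ[F] ((Fin m ⊕ Fin m) ⊕ Fin 2 → F)} (hg : g ∈ E QQ)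
    (hgm : Mono (Frm) g ng) {w : (Fin m ⊕ Fin m) ⊕ Fin 2 → F} (hw : w ∈ (Frm).V0) :
    g w ∈ (Frm).V0 ∧ g (g w) = w := by
  have hQ := nondeg' hab (m := m)
  have h4 := card_ne (F := F) hm
  obtain ⟨R, h1, h2, h3⟩ := exists_swap hab hQ h4 (Finset.univ : Finset (Fin m))
  have hkO : R.1 * g ∈ O QQ := mul_mem R.2 (E_le_O hg)
  have hkm : Mono (Frm) (R.1 * g) id := by
    intro x
    obtain ⟨l, hl, e⟩ := hgm x
    refine ⟨l, hl, ?_⟩
    rw [mul_apply', e, map_smul, h2, flip_univ, ng_ng]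
    rfl
  have hks : sgn hQ h4 ⟨R.1 * g, hkO⟩ = -1 := by
    have e : (⟨R.1 * g, hkO⟩ : O QQ) = R * ⟨g, E_le_O hg⟩ := rfl
    rw [e, map_mul, sgn_E hQ h4 hG ⟨g, E_le_O hg⟩ hg, mul_one, h1, Finset.card_univ, Fintype.card_fin,
      hodd.neg_one_pow]
  have hkV : ∀ w ∈ (Frm).V0, (R.1 * g) w ∈ (Frm).V0 := by
    intro w hw
    obtain ⟨c, -, -, hkc⟩ := diag_apply hab hkO hkm
    rw [mem_V0] at hw ⊢
    intro x
    rw [hkc, hw x, mul_zero]
  have hgk : ∀ w ∈ (Frm).V0, g w = (R.1 * g) w := by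
    intro w hw
    apply R.1.injective
    rw [h3 _ (hkV w hw)]
    rfl
  have hgV := hgk w hw ▸ hkV w hw
  refine ⟨hgV, ?_⟩
  rw [hgk _ hgV, hgk w hw]
  exact sq_of_sgn hab hQ h4 hkO hkm hks w hw

/-- **`g⁻¹ t⁻¹ g = t`** for `m` odd -/
theorem conj_tor [Finite F] (hm : 2 ≤ m) (hodd : Odd m) (hG : Good QQ)
    {g t : ((Fin m ⊕ Fin m) ⊕ Fin 2 → F) ≃ₗ[F] ((Fin m ⊕ Fin m) ⊕ Fin 2 → F)} (hg : g ∈ E QQ)
    (hgm : Mono (Frm) g ng) (ht : t ∈ Tor (Frm) (E QQ)) : g⁻¹ * t⁻¹ * g = t := by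
  refine ext_frame hab (fun x => ?_) (fun w hw => ?_)
  · obtain ⟨α, -, ha⟩ := ht.2 x
    have ha' : t ((Frm).b x) = α • (Frm).b x := ha
    have hiso : (HO QQ).IsIso t := fun v w => polar_map (E_le_O ht.1) v w
    rw [apply_torus hiso ht.2 hgm ha', ha']
    rfl
  · rw [mul_apply', mul_apply']
    obtain ⟨h1, h2⟩ := neg_sq hab hm hodd hG hg hgm hw
    have htg : Mono (Frm) (t * g) ng := by
      have := Mono.mul ht.2 hgm
      exact this.congr fun x => rfl
    obtain ⟨-, h3⟩ := neg_sq hab hm hodd hG (mul_mem ht.1 hg) htg h1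
    rw [mul_apply', mul_apply', h2] at h3
    -- `t (g (t w)) = g w`
    rw [inv_eq h3, inv_eq rfl]

include hab in
/-- The root group datum of `PΩ⁻_{2m+2}(q)`, `m` odd, and its element over `-1`. -/
theorem exists_rgd [Finite F] (hm : 2 ≤ m) (hodd : Odd m) {p : ℕ} [hp : Fact p.Prime] [CharP F p] :
    ∃ (T : Subgroup (POmega F (quadFormMinus m F a b))) (n : Fin m → POmega F (quadFormMinus m F a b))
      (X : (Fin m → ℤ) → Subgroup (POmega F (quadFormMinus m F a b)))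
      (R : RGD (CoxeterMatrix.B m).toCoxeterSystem (isCartan m) p T n X) (w0 : (CoxeterMatrix.B m).Group)
      (w : POmega F (quadFormMinus m F a b)), G1 (CoxeterMatrix.B m).toCoxeterSystem (isCartan m) X = ⊤ ∧
      (∀ s ∈ T, ∀ t ∈ T, s * t = t * s) ∧ (∀ x, rep (CoxeterMatrix.B m).toCoxeterSystem (isCartan m) w0 x = -x) ∧
      Rp (CoxeterMatrix.B m).toCoxeterSystem R.nsys w0 w ∧ ∀ t ∈ T, w⁻¹ * t⁻¹ * w = t := by
  rw [← coe_minusForm]
  have hG : Good (minusForm m F a b) := by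
    apply good_of_finite (nondeg_minusForm m F a b hab)
    rw [Module.finrank_fintype_fun_eq_card, Fintype.card_sum, Fintype.card_sum, Fintype.card_fin,
      Fintype.card_fin]
    omega
  have hp0 : ((embMinus m F a b hab).ngt ⟨(1, 0), -nf a b (1, 0), rfl⟩).c ≠ 0 := by
    change (1 : F)⁻¹ * (-nf a b (1, 0)) ≠ 0
    simp [nf]
  have hA : AmbT (toFrame (wminus m F a b hab)) p (model (wminus m F a b hab) hG ⟨_, hp0⟩).I := by
    change AmbT (toFrame (wminus m F a b hab)) p (E (minusForm m F a b))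
    by_cases h2 : (2 : F) = 0
    · have hp2 : p = 2 := by
        have h3 : CharP F 2 := CharTwo.of_one_ne_zero_of_two_eq_zero one_ne_zero h2
        exact CharP.eq F ‹CharP F p› h3
      subst hp2
      exact ambT_O _ fun g hg hg2 hb => fixp_minus a b hab h2 hm hG hg hg2 hb
    · exact AmbT.of_amb (amb_O_of_two _ h2) p
  obtain ⟨w0, g, hg, h1, h2, h3⟩ := exists_neg hA hp0 (CoxeterMatrix.B m).toCoxeterSystem
  refine ⟨_, _, _, rgdC_model (model (wminus m F a b hab) hG ⟨_, hp0⟩) hA hp0 (CoxeterMatrix.B m).toCoxeterSystem,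
    w0, (model (wminus m F a b hab) hG ⟨_, hp0⟩).φ ⟨g, hg⟩, WittModel.G1_eq_top _ (by omega) _, ?_, h1, h2, ?_⟩
  · rintro _ ⟨s, hs, rfl⟩ _ ⟨t, ht, rfl⟩
    rw [← map_mul, ← map_mul]
    congr 1
    exact Subtype.ext (tor_comm hab hm hG (Subgroup.mem_subgroupOf.1 hs) (Subgroup.mem_subgroupOf.1 ht))
  · rintro _ ⟨t, ht, rfl⟩
    rw [← map_inv, ← map_inv, ← map_mul, ← map_mul]
    congr 1
    exact Subtype.ext (conj_tor hab hm hodd hG hg h3 (Subgroup.mem_subgroupOf.1 ht))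

end Minus

/-! ### cores -/

section SD

open Matrix Cfsg.Geo Cfsg.Agent.H905.Md Cfsg.Agent.H915.LD Cfsg.Agent.H48.DsChev

universe u

variable {ι : Type} [Fintype ι] [DecidableEq ι] {F : Type u} [Field F] [Finite F] {P : Subgroup (GL ι F)}
  (p : ℕ) [hp : Fact p.Prime] [CharP F p]

/-- **`P ≃ PΩ⁻_{2m+2}(q)`, `m` odd, own characteristic.** -/
theorem minus_sd (hC : Core P) {K : Type} [Field K] [Finite K] [CharP K p] {m : ℕ} (hm : 2 ≤ m) (hodd : Odd m)
    {a b : K} (hab : ∀ z₁ z₂ : K, z₁ ^ 2 + a * z₁ * z₂ + b * z₂ ^ 2 = 0 → z₁ = 0 ∧ z₂ = 0)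
    (f : POmega K (quadFormMinus m K a b) ≃* P) : SD P := by
  obtain ⟨T, n, X, R, w0, w, hG1, hT, hw0, hw, htor⟩ := exists_rgd (p := p) hab hm hodd
  have : Finite (POmega K (quadFormMinus m K a b)) := Finite.of_equiv P f.symm.toEquiv
  have hW : Finite (CoxeterMatrix.B m).Group := finite_W (CoxeterMatrix.B m).toCoxeterSystem
  exact sd_of_rgd p hC f R hG1 hT hw0 hw htor

theorem gcd_dvd (q : ℕ) : Nat.gcd 4 (q ^ 4 + 1) ∣ 2 := by
  have h1 : (q ^ 4 + 1) % 4 = 1 ∨ (q ^ 4 + 1) % 4 = 2 := by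
    rcases (show q % 4 = 0 ∨ q % 4 = 1 ∨ q % 4 = 2 ∨ q % 4 = 3 by omega) with h | h | h | h <;>
      simp [Nat.add_mod, Nat.pow_mod, h]
  rw [Nat.gcd_rec]
  rcases h1 with h | h <;> rw [h] <;> decide

/-- **`PΩ₈⁻(q)`, own characteristic, odd dimension.** -/
theorem o8m_sd_odd (hC : Core P) (hn : Odd (Fintype.card ι)) {K : Type} [Field K] [Fintype K] [CharP K p] {a b : K}
    (hab : ∀ z₁ z₂ : K, z₁ ^ 2 + a * z₁ * z₂ + b * z₂ ^ 2 = 0 → z₁ = 0 ∧ z₂ = 0)
    (e : Soc P ≃* POmega K (quadFormMinus 3 K a b)) : SD P := by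
  have hA : HasSchurMultiplier (POmega K (quadFormMinus 3 K a b))
    (Multiplicative (ZMod (Nat.gcd 4 (Fintype.card K ^ 4 + 1)))) := S2099.result rfl 4 le_rfl a b hab
  obtain ⟨f, -⟩ := hC.equiv_of_coprime e hA (by
    rw [Nat.card_congr (Multiplicative.toAdd (α := ZMod _)), Nat.card_zmod]
    exact Nat.Coprime.coprime_dvd_left (gcd_dvd _) (Nat.coprime_two_left.2 hn))
  exact minus_sd p hC (by norm_num) (by decide) hab f.symm

/-- **`PΩ₈⁻(q)`, `q` even, characteristic two, every dimension.** -/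
theorem o8m_sd_two (hp2 : p = 2) (hC : Core P) {K : Type} [Field K] [Fintype K] [CharP K p] {a b : K}
    (hab : ∀ z₁ z₂ : K, z₁ ^ 2 + a * z₁ * z₂ + b * z₂ ^ 2 = 0 → z₁ = 0 ∧ z₂ = 0)
    (e : Soc P ≃* POmega K (quadFormMinus 3 K a b)) : SD P := by
  subst hp2
  obtain ⟨f, -⟩ := equiv_of_pcyclic 2 hC e (S2099.result rfl 4 le_rfl a b hab) (fun d hd hc => by
    have h1 : d ∣ 2 := hd.trans (gcd_dvd _)
    rcases (Nat.dvd_prime Nat.prime_two).1 h1 with h | h
    · exact h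
    · subst h; simp at hc)
  exact minus_sd 2 hC (by norm_num) (by decide) hab f.symm

end SD

end Cfsg.Agent.H48.DsO8m
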