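import Cfsg.Agent.H48.M12Three

/-!
# The Mathieu group of degree 12 in characteristic 3: the elements of order 11 (helper48)

* `structure_one`, `two_of_one` : representations of the group of degree 11 with at most five eigenvalues `≠ 1` of `x`;
* `ab_two` : `a + b = 2` for the group of degree 12 in dimension 10, 11, 12.
-/

set_option autoImplicit false
set_option linter.unusedSectionVars false
set_option linter.unusedVariables false
set_option maxRecDepth 100000

universe w u

namespace Cfsg.Agent.H48.M12T

open Module LinearMap Cfsg Cfsg.Agent.H6.M11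

variable {k : Type*} [Field k] {ζ ξ : k}

section

variable {V : Type*} [AddCommGroup V] [Module k V] [FiniteDimensional k V] {ρ : Spor.M11 →* End k V}

theorem op5 : op v11 ρ [5] = ρ (v11 5) := by simp [op, ev_cons, ev_nil]

/-- the number of eigenvalues `≠ 1` -/
noncomputable def rk (X : End k V) : ℕ := finrank k (LinearMap.range (X - 1))

theorem rk_add (X : End k V) : rk X + finrank k (End.eigenspace X 1) = finrank k V := by
  have h1 := LinearMap.finrank_range_add_finrank_ker (X - 1)
  have h2 : LinearMap.ker (X - 1) = End.eigenspace X 1 := by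
    ext u
    rw [LinearMap.mem_ker, End.mem_eigenspace_iff, one_smul, LinearMap.sub_apply, Module.End.one_apply, sub_eq_zero]
  rw [h2] at h1
  exact h1

theorem rk_zero {X : End k V} (h : rk X = 0) : X = 1 := by
  have h1 : LinearMap.range (X - 1) = ⊥ := Submodule.finrank_eq_zero.1 h
  rw [LinearMap.range_eq_bot] at h1
  exact sub_eq_zero.1 h1

/-- the rank is a multiple of five -/
theorem rk_five (hζ : IsPrimitiveRoot ζ 11) : ∃ c, rk (ρ (v11 5)) = 5 * c := by
  obtain ⟨m, a, b, -, -, hm, hdim⟩ := sat_11.toL.eigen (R := ρ) hζ ⊤ (fun _ _ => trivial) (fun _ _ => trivial)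
  rw [top_inf_eq, op5] at hm
  rw [finrank_top] at hdim
  have h1 := rk_add (ρ (v11 5))
  exact ⟨a + b, by omega⟩

/-- irreducible representations with few eigenvalues `≠ 1` -/
theorem irr_false (h3 : (3 : k) = 0) (hζ : IsPrimitiveRoot ζ 11) (hξ : IsPrimitiveRoot ξ 5) (irr : Irr v11 ρ)
    (hX : ρ (v11 5) ≠ 1) (hn : 6 ≤ finrank k V) (hn' : finrank k V ≤ 12) (hr : rk (ρ (v11 5)) ≤ 5) : False := by
  have h := sat_11
  have hX1 : op v11 ρ [5] ≠ 1 := by rw [op5]; exact hX
  have h11k := eleven_ne_of3 h3
  have hXp := h.toL.pow_eleven (R := ρ)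
  have hdt := h.dim_three h3 hζ hξ irr hX1 (by omega) hn'
  obtain ⟨m, a, b, ha, hb, hm, hdim⟩ := h.toL.eigen (R := ρ) hζ ⊤ (fun _ _ => trivial) (fun _ _ => trivial)
  have top' : ∀ c : k, finrank k (⊤ ⊓ End.eigenspace (op v11 ρ [5]) c : Submodule k V) =
      finrank k (End.eigenspace (op v11 ρ [5]) c) := fun c => by rw [top_inf_eq]
  simp only [top'] at ha hb hm
  rw [finrank_top] at hdim
  have hrk := rk_add (ρ (v11 5))
  rw [← op5] at hrk hr
  have hab : a + b = 1 := by
    have h1 : a + b ≤ 1 := by omega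
    rcases Nat.eq_zero_or_pos (a + b) with h0 | h0
    · exfalso
      exact hX1 (rk_zero (by omega))
    · omega
  have hinv : ∀ u ∈ fix (op v11 ρ [5]), op v11 ρ [6] u ∈ fix (op v11 ρ [5]) := by
    intro u hu
    exact mem_of_comm (isProj_av h11k hXp) (h.toL.d_av h11k) hu
  have hsum := finrank_eq_sum hξ (by norm_num) (h.toL.pow_five (R := ρ)) (fix (op v11 ρ [5])) hinv
  have h1 : finrank k (fix (op v11 ρ [5])) = m := hm
  obtain ⟨j, -, hj⟩ : ∃ j ∈ (Finset.univ : Finset (Fin 5)),
      finrank k (fix (op v11 ρ [5]) ⊓ End.eigenspace (op v11 ρ [6]) (ξ ^ (j : ℕ)) : Submodule k V) ≠ 0 := by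
    by_contra hc
    push Not at hc
    rw [Finset.sum_eq_zero hc, h1] at hsum
    omega
  have h2 : (fix (op v11 ρ [5]) ⊓ End.eigenspace (op v11 ρ [6]) (ξ ^ (j : ℕ)) : Submodule k V) ≠ ⊥ := by
    intro hc
    rw [hc, finrank_bot] at hj
    exact hj rfl
  obtain ⟨x0, hx, hx0⟩ := (Submodule.ne_bot_iff _).1 h2
  obtain ⟨g1, g2⟩ := Submodule.mem_inf.1 hx
  have f5 := mem_fix.1 g1
  have f6 := End.mem_eigenspace_iff.1 g2
  obtain ⟨i5, i6, i7⟩ := h.toL.span_inv f5 f6
  have hUb : spanO (op v11 ρ [5]) x0 (op v11 ρ [7] x0) ≠ ⊥ := by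
    intro h1
    have h2 : x0 ∈ spanO (op v11 ρ [5]) x0 (op v11 ρ [7] x0) := x0_mem
    rw [h1, Submodule.mem_bot] at h2
    exact hx0 h2
  have hU : spanO (op v11 ρ [5]) x0 (op v11 ρ [7] x0) = ⊤ := by
    by_contra hU
    obtain ⟨m1, a1, b1, -, -, g1, g2⟩ := h.step h3 hζ irr (by omega) ha hb i5 i6 i7 hUb hU
    omega
  have h3' := finrank_fix_le (u := op v11 ρ [7] x0) h11k hXp f5
  rw [hU, top_inf_eq, hm] at h3'
  omega

theorem rk_sub (S : Submodule k V) (hS : ∀ g, S ≤ S.comap (ρ g)) :
    rk (Representation.subrepresentation ρ S hS (v11 5)) ≤ rk (ρ (v11 5)) := by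
  unfold rk
  rw [← Submodule.finrank_map_subtype_eq S]
  apply Submodule.finrank_mono
  rintro _ ⟨_, ⟨u, rfl⟩, rfl⟩
  exact ⟨u, rfl⟩

theorem rk_quo (S : Submodule k V) (hS : ∀ g, S ≤ S.comap (ρ g)) :
    rk (Representation.quotient ρ S hS (v11 5)) ≤ rk (ρ (v11 5)) := by
  unfold rk
  have h1 : LinearMap.range (Representation.quotient ρ S hS (v11 5) - 1) ≤ (LinearMap.range (ρ (v11 5) - 1)).map S.mkQ := by
    rintro _ ⟨y, rfl⟩
    obtain ⟨u, rfl⟩ := S.mkQ_surjective y
    exact ⟨_, ⟨u, rfl⟩, rfl⟩
  exact (Submodule.finrank_mono h1).trans (Submodule.finrank_map_le _ _)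

end

/-- **representations with few eigenvalues `≠ 1`** -/
theorem structure_one (h3 : (3 : k) = 0) (hζ : IsPrimitiveRoot ζ 11) (hξ : IsPrimitiveRoot ξ 5) (n : ℕ) :
    ∀ (V : Type w) [AddCommGroup V] [Module k V] [FiniteDimensional k V] (ρ : Spor.M11 →* End k V), ρ (v11 5) ≠ 1 →
      finrank k V = n → n ≤ 12 → rk (ρ (v11 5)) ≤ 5 →
      ∃ T W : Submodule k V, finrank k W = finrank k T + 5 ∧ (∀ u ∈ T, ∀ g, ρ g u = u) ∧ (∀ u g, ρ g u - u ∈ W) := by
  have h11 := eleven_ne_of3 h3
  induction n using Nat.strong_induction_on with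
  | _ n ih =>
    intro V _ _ _ ρ hX hn h12 hr
    have hX11 : (ρ (v11 5)) ^ 11 = 1 := by
      have h1 := sat_11.toL.pow_eleven (R := ρ)
      rwa [op5] at h1
    have h5 : 5 ≤ n := by
      by_contra hc
      exact hX (triv_of_small hζ (by omega) _)
    rcases h5.lt_or_eq with h5 | h5
    · obtain ⟨S, hS, hS0, hS1⟩ : ∃ S : Submodule k V, (∀ g, S ≤ S.comap (ρ g)) ∧ 0 < finrank k S ∧
          finrank k S < finrank k V := by
        by_contra hcon
        refine irr_false h3 hζ hξ ?_ hX (by omega) (by omega) hr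
        intro S i5 i8
        by_contra hc
        push Not at hc
        refine hcon ⟨S, inv_of i5 i8, ?_, ?_⟩
        · have : Nontrivial S := Submodule.nontrivial_iff_ne_bot.2 hc.1
          exact finrank_pos
        · exact Submodule.finrank_lt hc.2
      have hq := S.finrank_quotient_add_finrank
      by_cases hs : Representation.subrepresentation ρ S hS (v11 5) = 1
      · -- trivial on `S`
        have hf : ∀ u ∈ S, ∀ g, ρ g u = u := by
          intro u hu g
          have h1 := triv_of_x (ρ := Representation.subrepresentation ρ S hS) hs g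
          exact congrArg (fun f : End k S => ((f ⟨u, hu⟩ : S) : V)) h1
        have hX' : Representation.quotient ρ S hS (v11 5) ≠ 1 := by
          intro h1
          apply hX
          refine unip h11 hX11 (S := S) (fun u => ?_) (fun u hu => hf u hu _)
          have h2 := congrArg (fun f : End k (V ⧸ S) => f (S.mkQ u)) h1
          exact (Submodule.Quotient.eq S).1 h2
        obtain ⟨T, W, hd, hT, hW⟩ := ih (finrank k (V ⧸ S)) (by omega) (V ⧸ S) (Representation.quotient ρ S hS) hX' rfl
          (by omega) ((rk_quo S hS).trans hr)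
        have hTS : ∀ u ∈ T.comap S.mkQ, ∀ g, ρ g u - u ∈ S := fun u hu g => (Submodule.Quotient.eq S).1 (hT _ hu g)
        have hSle : S ≤ T.comap S.mkQ := by
          intro y hy
          rw [Submodule.mem_comap, Submodule.mkQ_apply, (Submodule.Quotient.mk_eq_zero S).2 hy]
          exact T.zero_mem
        have hTinv : ∀ g, T.comap S.mkQ ≤ (T.comap S.mkQ).comap (ρ g) := by
          intro g u hu
          have h1 := add_mem (hSle (hTS u hu g)) hu
          rwa [sub_add_cancel] at h1
        refine ⟨T.comap S.mkQ, W.comap S.mkQ, by rw [finrank_comap_mkQ, finrank_comap_mkQ]; omega, ?_, ?_⟩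
        · have h1 : Representation.subrepresentation ρ _ hTinv (v11 5) = 1 := by
            have h2 : (Representation.subrepresentation ρ _ hTinv (v11 5)) ^ 11 = 1 := by
              have h1 := sat_11.toL.pow_eleven (R := Representation.subrepresentation ρ _ hTinv)
              rwa [op5] at h1
            refine unip h11 h2 (S := S.comap (T.comap S.mkQ).subtype) (fun u => hTS _ u.2 _) (fun u hu => ?_)
            exact Subtype.ext (hf _ hu _)
          intro u hu g
          have h3 := triv_of_x (ρ := Representation.subrepresentation ρ _ hTinv) h1 g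
          exact congrArg (fun f : End k (T.comap S.mkQ) => ((f ⟨u, hu⟩ : T.comap S.mkQ) : V)) h3
        · intro u g
          exact hW (S.mkQ u) g
      · -- non-trivial on `S`
        have hle : LinearMap.range (ρ (v11 5) - 1) ≤ S := by
          have h1 : (LinearMap.range (Representation.subrepresentation ρ S hS (v11 5) - 1)).map S.subtype ≤
              LinearMap.range (ρ (v11 5) - 1) := by
            rintro _ ⟨_, ⟨u, rfl⟩, rfl⟩
            exact ⟨u, rfl⟩
          have h2 : (LinearMap.range (Representation.subrepresentation ρ S hS (v11 5) - 1)).map S.subtype =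
              LinearMap.range (ρ (v11 5) - 1) := by
            apply Submodule.eq_of_le_of_finrank_le h1
            rw [Submodule.finrank_map_subtype_eq]
            obtain ⟨c, hc⟩ := rk_five (ρ := Representation.subrepresentation ρ S hS) hζ
            have hc0 : c ≠ 0 := by
              rintro rfl
              exact hs (rk_zero hc)
            unfold rk at hc hr
            omega
          rw [← h2]
          exact Submodule.map_subtype_le _ _
        have hXq : Representation.quotient ρ S hS (v11 5) = 1 := by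
          ext u
          exact (Submodule.Quotient.eq S).2 (hle ⟨u, rfl⟩)
        have hf : ∀ u g, ρ g u - u ∈ S := by
          intro u g
          have h1 := triv_of_x (ρ := Representation.quotient ρ S hS) hXq g
          exact (Submodule.Quotient.eq S).1 (congrArg (fun f : End k (V ⧸ S) => f (S.mkQ u)) h1)
        obtain ⟨T, W, hd, hT, hW⟩ := ih (finrank k S) (by omega) S (Representation.subrepresentation ρ S hS) hs rfl
          (by omega) ((rk_sub S hS).trans hr)
        have hWinv : ∀ g, W.map S.subtype ≤ (W.map S.subtype).comap (ρ g) := by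
          rintro g _ ⟨u, hu, rfl⟩
          refine ⟨Representation.subrepresentation ρ S hS g u, ?_, rfl⟩
          have h1 := add_mem (hW u g) hu
          rwa [sub_add_cancel] at h1
        refine ⟨T.map S.subtype, W.map S.subtype, by
          rw [Submodule.finrank_map_subtype_eq, Submodule.finrank_map_subtype_eq]; omega, ?_, ?_⟩
        · rintro _ ⟨u, hu, rfl⟩ g
          exact congrArg Subtype.val (hT u hu g)
        · have h1 : Representation.quotient ρ _ hWinv (v11 5) = 1 := by
            have h2 : (Representation.quotient ρ _ hWinv (v11 5)) ^ 11 = 1 := by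
              have h1 := sat_11.toL.pow_eleven (R := Representation.quotient ρ _ hWinv)
              rwa [op5] at h1
            refine unip h11 h2 (S := S.map (W.map S.subtype).mkQ) ?_ ?_
            · intro y
              obtain ⟨u, rfl⟩ := (W.map S.subtype).mkQ_surjective y
              exact ⟨_, hf u (v11 5), rfl⟩
            · rintro _ ⟨u, hu, rfl⟩
              exact (Submodule.Quotient.eq _).2 ⟨_, hW ⟨u, hu⟩ (v11 5), rfl⟩
          intro u g
          have h3 := triv_of_x (ρ := Representation.quotient ρ _ hWinv) h1 g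
          exact (Submodule.Quotient.eq _).1 (congrArg (fun f : End k (V ⧸ W.map S.subtype) => f ((W.map S.subtype).mkQ u)) h3)
    · exact ⟨⊥, ⊤, by rw [finrank_bot, finrank_top]; omega, fun u hu g => by
        rw [Submodule.mem_bot] at hu; rw [hu, map_zero], fun u g => trivial⟩

/-- **`a + b ≥ 2` in dimension at least ten** -/
theorem ten_le_rk [IsAlgClosed k] (h3 : (3 : k) = 0) (hζ : IsPrimitiveRoot ζ 11) {V : Type w} [AddCommGroup V] [Module k V]
    [FiniteDimensional k V] (R : Spor.M12 →* End k V) (hspan : Submodule.span k (Set.range R) = ⊤)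
    (h10 : 8 ≤ finrank k V) (h12 : finrank k V ≤ 12) : rk (R (vH 5)) = 10 := by
  obtain ⟨ξ, hξ⟩ := exists_root k 5 (five_ne_of3 h3)
  let ρ : Spor.M11 →* End k V := R.comp (Subgroup.inclusion M11_le)
  have hX : ρ (v11 5) ≠ 1 := by
    intro h
    have h1 := triv_of_x h
    have hfix : ∀ u : V, ∀ m ∈ M₀, R m u = u := by
      rintro u _ ⟨m, rfl⟩
      exact congrArg (fun f : End k V => f u) (h1 m)
    exact two_fixed (M := M₀) (c := fun j => Cfsg.Agent.CoThreeStd.MTwelve.wd (cw j)) hspan hc (by omega) (S := ⊤) (by rw [finrank_top]; omega)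
      (fun u _ => hfix u)
  obtain ⟨c, hc'⟩ := rk_five (ρ := ρ) hζ
  have hle := rk_add (ρ (v11 5))
  have hr : ρ (v11 5) = R (vH 5) := rfl
  rw [hr] at hc' hle
  have hc2 : c ≤ 2 := by omega
  by_contra hcon
  obtain ⟨T, W, hd, hT, hW⟩ := structure_one h3 hζ hξ (finrank k V) V ρ hX rfl h12 (by rw [hr]; omega)
  have hWle := Submodule.finrank_le W
  rcases (show 2 ≤ finrank k T ∨ finrank k W + 2 ≤ finrank k V by omega) with h | h
  · refine two_fixed (M := M₀) (c := fun j => Cfsg.Agent.CoThreeStd.MTwelve.wd (cw j)) hspan hc (by omega) h ?_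
    rintro u hu _ ⟨m, rfl⟩
    exact hT u hu m
  · refine two_cofixed (M := M₀) (c := fun j => Cfsg.Agent.CoThreeStd.MTwelve.wd (cw j)) hspan hc (by omega) h ?_
    rintro u _ ⟨m, rfl⟩
    exact hW u m

end Cfsg.Agent.H48.M12T
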