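import Cfsg.Agent.H6.M11.Main3
import Cfsg.Agent.H6.M11.Model

/-!
# Small representations of the Mathieu group of degree 11 in characteristic 3 (helper48)

`fixed_cases` : a representation of dimension 7, 8, 9 has two fixed vectors, or a trivial quotient of dimension two, or both a
fixed vector and a trivial quotient of dimension one.
-/

set_option autoImplicit false
set_option linter.unusedSectionVars false
set_option linter.unusedVariables false
set_option maxRecDepth 100000

universe w

namespace Cfsg.Agent.H48.M12T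

open Module LinearMap Cfsg Cfsg.Agent.H6.M11

variable {k : Type*} [Field k] {V : Type*} [AddCommGroup V] [Module k V] [FiniteDimensional k V]
  {ρ : Spor.M11 →* End k V} {ζ ξ : k}

/-- `x` trivial implies everything trivial -/
theorem triv_of_x (hX : ρ (v11 5) = 1) (g : Spor.M11) : ρ g = 1 := by
  have h := sat_11
  have e1 : op v11 ρ [7, 5, 5, 7] = op v11 ρ [5, 5, 5, 5, 5, 7, 5, 5, 5, 5, 5, 5, 5, 5, 5, 6] := h.op_eq (by decide +kernel)
  have e2 : op v11 ρ [7, 7] = op v11 ρ [] := h.op_eq (by decide +kernel)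
  have e3 : op v11 ρ [6, 6, 6, 6, 6] = op v11 ρ [] := h.op_eq (by decide +kernel)
  have e4 : op v11 ρ [8, 5, 8] = op v11 ρ [5, 5, 8, 5, 5, 5, 5, 6, 6, 7, 5, 5, 5, 5, 5, 5, 5, 5, 5, 5] :=
    h.op_eq (by decide +kernel)
  have e5 : op v11 ρ [8, 8] = op v11 ρ [] := h.op_eq (by decide +kernel)
  simp only [op, ev_cons, ev_nil, map_mul, map_one, mul_one, one_mul, hX] at e1 e2 e3 e4 e5
  rw [e2] at e1
  have h7 : ρ (v11 7) = ρ (v11 6) := by
    calc ρ (v11 7) = ρ (v11 7) * (ρ (v11 7) * ρ (v11 6)) := by rw [← e1, mul_one]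
      _ = _ := by rw [← mul_assoc, e2, one_mul]
  rw [h7] at e2
  have h6 : ρ (v11 6) = 1 := by
    have e6 : ρ (v11 6) * (ρ (v11 6) * (ρ (v11 6) * (ρ (v11 6) * ρ (v11 6)))) = ρ (v11 6) := by
      rw [e2, mul_one, e2, mul_one]
    rw [← e6, e3]
  rw [h7, h6, e5, mul_one, mul_one, mul_one] at e4
  have h8 : ρ (v11 8) = 1 := e4.symm
  have hg : g ∈ Subgroup.closure ({v11 5, v11 8} : Set Spor.M11) := by rw [closure_11]; trivial
  have hle : Subgroup.closure ({v11 5, v11 8} : Set Spor.M11) ≤ MonoidHom.ker ρ.toHomUnits := by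
    rw [Subgroup.closure_le]
    rintro a (rfl | rfl)
    · rw [SetLike.mem_coe, MonoidHom.mem_ker]
      exact Units.ext hX
    · rw [SetLike.mem_coe, MonoidHom.mem_ker]
      exact Units.ext h8
  have h9 := congrArg Units.val (MonoidHom.mem_ker.1 (hle hg))
  exact h9

/-- small representations are trivial -/
theorem triv_of_small (hζ : IsPrimitiveRoot ζ 11) (h4 : finrank k V ≤ 4) (g : Spor.M11) : ρ g = 1 := by
  apply triv_of_x
  obtain ⟨m, a, b, -, -, hm, hdim⟩ := sat_11.toL.eigen (R := ρ) hζ ⊤ (fun _ _ => trivial) (fun _ _ => trivial)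
  rw [top_inf_eq] at hm
  rw [finrank_top] at hdim
  have h1 : a = 0 ∧ b = 0 := by omega
  have h2 : (⊤ : Submodule k V) ≤ End.eigenspace (op v11 ρ [5]) 1 := le_of_finrank (by
    rw [top_inf_eq, hm, finrank_top, hdim]; omega)
  ext u
  have h3 := h2 (Submodule.mem_top (x := u))
  rw [End.mem_eigenspace_iff, one_smul] at h3
  simpa [op, ev_cons, ev_nil] using h3

/-- invariance under the group from the letters -/
theorem inv_of {S : Submodule k V} (h5 : ∀ u ∈ S, op v11 ρ [5] u ∈ S) (h8 : ∀ u ∈ S, op v11 ρ [8] u ∈ S)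
    (g : Spor.M11) : S ≤ S.comap (ρ g) := by
  have e5 : op v11 ρ [5] = ρ (v11 5) := by simp [op, ev_cons, ev_nil]
  have e8 : op v11 ρ [8] = ρ (v11 8) := by simp [op, ev_cons, ev_nil]
  rw [e5] at h5
  rw [e8] at h8
  have hp5 : (v11 5)⁻¹ = (v11 5) ^ 10 := by
    have h1 : ev v11 [5, 5, 5, 5, 5, 5, 5, 5, 5, 5, 5] = ev v11 [] := sat_11.base (by decide +kernel)
    simp only [ev_cons, ev_nil, mul_one] at h1
    rw [inv_eq_iff_mul_eq_one]
    rw [← h1]
    simp only [pow_succ, pow_zero, one_mul, mul_assoc]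
  have hp8 : (v11 8)⁻¹ = v11 8 := by
    have h1 : ev v11 [8, 8] = ev v11 [] := sat_11.base (by decide +kernel)
    simp only [ev_cons, ev_nil, mul_one] at h1
    exact inv_eq_of_mul_eq_one_left h1
  have hpow : ∀ (n : ℕ) (u : V), u ∈ S → ρ ((v11 5) ^ n) u ∈ S := by
    intro n
    induction n with
    | zero => intro u hu; rw [pow_zero, map_one]; exact hu
    | succ n ih =>
      intro u hu
      rw [pow_succ, map_mul]
      exact ih _ (h5 u hu)
  have hg : g ∈ Subgroup.closure ({v11 5, v11 8} : Set Spor.M11) := by rw [closure_11]; trivial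
  have key : ∀ u ∈ S, ρ g u ∈ S := by
    induction hg using Subgroup.closure_induction'' with
    | mem x hx =>
      rcases hx with rfl | rfl
      · exact h5
      · exact h8
    | inv_mem x hx =>
      rcases hx with rfl | rfl
      · intro u hu; rw [hp5]; exact hpow 10 u hu
      · intro u hu; rw [hp8]; exact h8 u hu
    | one => intro u hu; rw [map_one]; exact hu
    | mul a b _ _ ha hb => intro u hu; rw [map_mul]; exact ha _ (hb _ hu)
  exact key

/-- the action on an invariant subspace of dimension at most four is trivial -/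
theorem triv_sub (hζ : IsPrimitiveRoot ζ 11) {S : Submodule k V} (hS : ∀ g, S ≤ S.comap (ρ g))
    (h4 : finrank k S ≤ 4) {u : V} (hu : u ∈ S) (g : Spor.M11) : ρ g u = u := by
  have h1 := triv_of_small (ρ := Representation.subrepresentation ρ S hS) hζ h4 g
  have h2 := congrArg (fun f : End k S => ((f ⟨u, hu⟩ : S) : V)) h1
  exact h2

/-- the action on a quotient of dimension at most four is trivial -/
theorem triv_quo (hζ : IsPrimitiveRoot ζ 11) {S : Submodule k V} (hS : ∀ g, S ≤ S.comap (ρ g))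
    (h4 : finrank k V ≤ finrank k S + 4) (u : V) (g : Spor.M11) : ρ g u - u ∈ S := by
  have h0 := S.finrank_quotient_add_finrank
  have h1 := triv_of_small (ρ := Representation.quotient ρ S hS) hζ (by omega) g
  have h2 := congrArg (fun f : End k (V ⧸ S) => f (S.mkQ u)) h1
  exact (Submodule.Quotient.eq S).1 h2

/-- a unipotent action is trivial -/
theorem unip (h11 : ((11 : ℕ) : k) ≠ 0) {X : End k V} (hX : X ^ 11 = 1) {S : Submodule k V} (hq : ∀ u, X u - u ∈ S)
    (hs : ∀ u ∈ S, X u = u) : X = 1 := by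
  ext u
  have h1 : ∀ n : ℕ, (X ^ n) u = u + n • (X u - u) := by
    intro n
    induction n with
    | zero => simp
    | succ n ih =>
      rw [pow_succ', Module.End.mul_apply, ih, map_add, map_nsmul, hs _ (hq u), succ_nsmul]
      abel
  have h2 := h1 11
  rw [hX] at h2
  have h3 : (11 : ℕ) • (X u - u) = 0 := by
    have h4 : u = u + 11 • (X u - u) := h2
    have h5 := sub_eq_zero.2 h4
    rw [sub_add_cancel_left, neg_eq_zero] at h5
    exact h5
  rw [← Nat.cast_smul_eq_nsmul k] at h3
  exact sub_eq_zero.1 ((smul_eq_zero.1 h3).resolve_left h11)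

theorem comap_inv {S : Submodule k V} (hS : ∀ g, S ≤ S.comap (ρ g)) {T : Submodule k (V ⧸ S)}
    (hT : ∀ g, T ≤ T.comap (Representation.quotient ρ S hS g)) (g : Spor.M11) :
    T.comap S.mkQ ≤ (T.comap S.mkQ).comap (ρ g) := by
  intro u hu
  exact hT g hu

theorem map_inv' {S : Submodule k V} (hS : ∀ g, S ≤ S.comap (ρ g)) {T : Submodule k S}
    (hT : ∀ g, T ≤ T.comap (Representation.subrepresentation ρ S hS g)) (g : Spor.M11) :
    T.map S.subtype ≤ (T.map S.subtype).comap (ρ g) := by
  rintro _ ⟨u, hu, rfl⟩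
  exact ⟨_, hT g hu, rfl⟩

theorem finrank_comap_mkQ (S : Submodule k V) (T : Submodule k (V ⧸ S)) :
    finrank k (T.comap S.mkQ) = finrank k T + finrank k S := by
  have h1 := LinearMap.finrank_range_add_finrank_ker (S.mkQ.domRestrict (T.comap S.mkQ))
  have h2 : LinearMap.range (S.mkQ.domRestrict (T.comap S.mkQ)) = T := by
    ext y
    constructor
    · rintro ⟨⟨u, hu⟩, rfl⟩
      exact hu
    · intro hy
      obtain ⟨u, rfl⟩ := S.mkQ_surjective y
      exact ⟨⟨u, hy⟩, rfl⟩
  have h3 : Submodule.map (T.comap S.mkQ).subtype (LinearMap.ker (S.mkQ.domRestrict (T.comap S.mkQ))) = S := by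
    ext y
    rw [Submodule.mem_map]
    constructor
    · rintro ⟨z, hz, rfl⟩
      rw [LinearMap.mem_ker, LinearMap.domRestrict_apply] at hz
      exact (Submodule.Quotient.mk_eq_zero S).1 hz
    · intro hy
      refine ⟨⟨y, ?_⟩, ?_, rfl⟩
      · rw [Submodule.mem_comap, Submodule.mkQ_apply, (Submodule.Quotient.mk_eq_zero S).2 hy]
        exact T.zero_mem
      · rw [LinearMap.mem_ker, LinearMap.domRestrict_apply]
        exact (Submodule.Quotient.mk_eq_zero S).2 hy
  have h4 : finrank k (LinearMap.ker (S.mkQ.domRestrict (T.comap S.mkQ))) = finrank k S := by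
    rw [← Submodule.finrank_map_subtype_eq, h3]
  rw [h2, h4] at h1
  exact h1.symm

end Cfsg.Agent.H48.M12T

namespace Cfsg.Agent.H48.M12T

open Module LinearMap Cfsg Cfsg.Agent.H6.M11

variable {k : Type*} [Field k] {ζ ξ : k}

/-- an invariant subspace -/
theorem exists_sub' {V : Type*} [AddCommGroup V] [Module k V] [FiniteDimensional k V] {ρ : Spor.M11 →* End k V}
    (h3 : (3 : k) = 0) (hζ : IsPrimitiveRoot ζ 11) (hξ : IsPrimitiveRoot ξ 5) (hX : ρ (v11 5) ≠ 1)
    (h5 : 5 < finrank k V) (h9 : finrank k V ≤ 9) :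
    ∃ S : Submodule k V, (∀ g, S ≤ S.comap (ρ g)) ∧ 0 < finrank k S ∧ finrank k S < finrank k V := by
  have e5 : op v11 ρ [5] = ρ (v11 5) := by simp [op, ev_cons, ev_nil]
  by_contra hcon
  have irr : Irr v11 ρ := by
    intro S i5 i8
    by_contra hc
    push Not at hc
    refine hcon ⟨S, inv_of i5 i8, ?_, ?_⟩
    · have : Nontrivial S := Submodule.nontrivial_iff_ne_bot.2 hc.1
      exact finrank_pos
    · exact Submodule.finrank_lt hc.2
  have h1 := sat_11.dim_three h3 hζ hξ irr (by rw [e5]; exact hX) (by omega) (by omega)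
  omega

/-- **the structure of the representations of dimension at most nine** -/
theorem structure_le (h3 : (3 : k) = 0) (hζ : IsPrimitiveRoot ζ 11) (hξ : IsPrimitiveRoot ξ 5) (n : ℕ) :
    ∀ (V : Type w) [AddCommGroup V] [Module k V] [FiniteDimensional k V] (ρ : Spor.M11 →* End k V), ρ (v11 5) ≠ 1 →
      finrank k V = n → n ≤ 9 →
      ∃ T W : Submodule k V, finrank k W = finrank k T + 5 ∧ (∀ g, T ≤ T.comap (ρ g)) ∧ (∀ g, W ≤ W.comap (ρ g)) := by
  have h11 := eleven_ne_of3 h3
  induction n using Nat.strong_induction_on with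
  | _ n ih =>
    intro V _ _ _ ρ hX hn h9
    have hX11 : (ρ (v11 5)) ^ 11 = 1 := by
      have h1 := sat_11.toL.pow_eleven (R := ρ)
      simpa [op, ev_cons, ev_nil] using h1
    have h5 : 5 ≤ n := by
      by_contra hc
      exact hX (triv_of_small hζ (by omega) _)
    rcases h5.lt_or_eq with h5 | h5
    · obtain ⟨S, hS, hS0, hS1⟩ := exists_sub' h3 hζ hξ hX (by omega) (by omega)
      rcases Nat.lt_or_ge (finrank k S) 5 with h | h
      · have hf : ∀ u ∈ S, ∀ g, ρ g u = u := fun u hu g => triv_sub hζ hS (by omega) hu g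
        have hq := S.finrank_quotient_add_finrank
        have hX' : Representation.quotient ρ S hS (v11 5) ≠ 1 := by
          intro h1
          apply hX
          refine unip h11 hX11 (S := S) (fun u => ?_) (fun u hu => hf u hu _)
          have h2 := congrArg (fun f : End k (V ⧸ S) => f (S.mkQ u)) h1
          exact (Submodule.Quotient.eq S).1 h2
        obtain ⟨T, W, hd, hT, hW⟩ := ih (finrank k (V ⧸ S)) (by omega) (V ⧸ S) (Representation.quotient ρ S hS) hX' rfl (by omega)
        exact ⟨T.comap S.mkQ, W.comap S.mkQ, by rw [finrank_comap_mkQ, finrank_comap_mkQ]; omega, comap_inv hS hT,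
          comap_inv hS hW⟩
      · have hf : ∀ u g, ρ g u - u ∈ S := fun u g => triv_quo hζ hS (by omega) u g
        have hX' : Representation.subrepresentation ρ S hS (v11 5) ≠ 1 := by
          intro h1
          apply hX
          refine unip h11 hX11 (S := S) (fun u => hf u _) (fun u hu => ?_)
          have h2 := congrArg (fun f : End k S => ((f ⟨u, hu⟩ : S) : V)) h1
          exact h2
        obtain ⟨T, W, hd, hT, hW⟩ := ih (finrank k S) (by omega) S (Representation.subrepresentation ρ S hS) hX' rfl (by omega)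
        exact ⟨T.map S.subtype, W.map S.subtype, by
          rw [Submodule.finrank_map_subtype_eq, Submodule.finrank_map_subtype_eq]; omega, map_inv' hS hT, map_inv' hS hW⟩
    · exact ⟨⊥, ⊤, by rw [finrank_bot, finrank_top]; omega, fun g => bot_le, fun g _ _ => trivial⟩

/-- **fixed vectors and trivial quotients in dimension 7, 8, 9** -/
theorem fixed_cases (h3 : (3 : k) = 0) (hζ : IsPrimitiveRoot ζ 11) (hξ : IsPrimitiveRoot ξ 5)
    (V : Type w) [AddCommGroup V] [Module k V] [FiniteDimensional k V] (ρ : Spor.M11 →* End k V) (hX : ρ (v11 5) ≠ 1)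
    (h7 : 7 ≤ finrank k V) (h9 : finrank k V ≤ 9) :
    (∃ S : Submodule k V, 2 ≤ finrank k S ∧ ∀ u ∈ S, ∀ g, ρ g u = u) ∨
    (∃ S : Submodule k V, finrank k S + 2 ≤ finrank k V ∧ ∀ u g, ρ g u - u ∈ S) ∨
    ((∃ S : Submodule k V, 1 ≤ finrank k S ∧ ∀ u ∈ S, ∀ g, ρ g u = u) ∧
      (∃ S : Submodule k V, finrank k S + 1 ≤ finrank k V ∧ ∀ u g, ρ g u - u ∈ S)) := by
  obtain ⟨T, W, hd, hT, hW⟩ := structure_le h3 hζ hξ (finrank k V) V ρ hX rfl h9
  have hWle := Submodule.finrank_le W
  have hT' : ∀ u ∈ T, ∀ g, ρ g u = u := fun u hu g => triv_sub hζ hT (by omega) hu g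
  have hW' : ∀ u g, ρ g u - u ∈ W := fun u g => triv_quo hζ hW (by omega) u g
  rcases (show 2 ≤ finrank k T ∨ finrank k W + 2 ≤ finrank k V ∨ (1 ≤ finrank k T ∧ finrank k W + 1 ≤ finrank k V) by
    omega) with h | h | ⟨h, h'⟩
  · exact Or.inl ⟨T, h, hT'⟩
  · exact Or.inr (Or.inl ⟨W, h, hW'⟩)
  · exact Or.inr (Or.inr ⟨⟨T, h, hT'⟩, ⟨W, h', hW'⟩⟩)

end Cfsg.Agent.H48.M12T
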