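import Cfsg.Agent.H48.M12One

/-!
# The Mathieu group of degree 12 in characteristic 3, dimension 10 (helper48)

`m12_ten` : a core of dimension 10 in characteristic 3 isomorphic to the group has real traces.
-/

set_option autoImplicit false
set_option linter.unusedSectionVars false
set_option linter.unusedVariables false
set_option maxRecDepth 100000

universe w u

namespace Cfsg.Agent.H48.M12T

open Module LinearMap Cfsg Cfsg.Agent.H6.M11

variable {k : Type*} [Field k] {ζ ξ : k}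

/-- Gauss sums -/
def al (ζ : k) : k := ζ + ζ ^ 3 + ζ ^ 4 + ζ ^ 5 + ζ ^ 9
/-- Gauss sums -/
def be (ζ : k) : k := ζ ^ 2 + ζ ^ 6 + ζ ^ 7 + ζ ^ 8 + ζ ^ 10

theorem al_add_be (hζ : IsPrimitiveRoot ζ 11) : al ζ + be ζ = -1 := by
  have h1 := hζ.geom_sum_eq_zero (by norm_num)
  simp only [Finset.sum_range_succ, Finset.sum_range_zero, zero_add, pow_zero, pow_one] at h1
  unfold al be
  linear_combination h1

theorem al_mul_be (hζ : IsPrimitiveRoot ζ 11) : al ζ * be ζ = 3 := by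
  have h1 := al_add_be hζ
  have h11 := hζ.pow_eq_one
  have h2 : al ζ * be ζ = 5 + 2 * (al ζ + be ζ) := by
    unfold al be
    linear_combination (5 + 2 * ζ + ζ ^ 2 * 2 + ζ ^ 3 + ζ ^ 4 * 2 + ζ ^ 5 + ζ ^ 6 + ζ ^ 8) * h11
  rw [h2, h1]
  norm_num

theorem al_ne_be (h3 : (3 : k) = 0) (hζ : IsPrimitiveRoot ζ 11) : al ζ ≠ be ζ := by
  intro h
  have h1 := al_add_be hζ
  have h2 := al_mul_be hζ
  rw [← h] at h1 h2
  rw [h3] at h2
  have h4 : al ζ = 0 := by simpa using h2
  rw [h4, add_zero] at h1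
  have : (1 : k) = 0 := by linear_combination h1
  exact one_ne_zero this

section

variable {V : Type*} [AddCommGroup V] [Module k V] [FiniteDimensional k V] {X : End k V}

/-- the operators of a representation with quadratic residues only are scalars -/
theorem scalar_ops (hζ : IsPrimitiveRoot ζ 11) (hX : X ^ 11 = 1)
    (h : ∀ c : ℕ, (c = 0 ∨ c = 2 ∨ c = 6 ∨ c = 7 ∨ c = 8 ∨ c = 10) → finrank k (End.eigenspace X (ζ ^ c)) = 0) :
    X ^ 1 + X ^ 3 + X ^ 4 + X ^ 5 + X ^ 9 = al ζ • (1 : End k V) ∧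
      X ^ 2 + X ^ 6 + X ^ 7 + X ^ 8 + X ^ 10 = be ζ • (1 : End k V) := by
  have h11 := hζ.pow_eq_one
  have hζ0 : ζ ≠ 0 := hζ.ne_zero (by norm_num)
  have h11k : ((11 : ℕ) : k) ≠ 0 := (hζ.neZero').out
  have hz : ∀ c : ℕ, (c = 0 ∨ c = 2 ∨ c = 6 ∨ c = 7 ∨ c = 8 ∨ c = 10) → sp 11 ζ X c = 0 := by
    intro c hc
    have hbot : End.eigenspace X (ζ ^ c) = ⊥ := Submodule.finrank_eq_zero.1 (h c hc)
    ext u
    have h1 := (isProj_sp h11k hζ0 h11 hX c).map_mem u
    rw [hbot, Submodule.mem_bot] at h1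
    exact h1
  have hp := fun b j => pow_mul_sp (V := V) (X := X) hζ0 h11 hX b j
  have q : ∀ m : ℕ, ζ ^ m = ζ ^ (m % 11) := fun m => pow_eq_pow_mod m h11
  have hs : ∑ b : Fin 11, sp 11 ζ X b = 1 := sum_sp hζ (by norm_num)
  have key : ∀ (Y : End k V) (c : k), (∀ b : Fin 11, Y * sp 11 ζ X b = c • sp 11 ζ X b) → Y = c • (1 : End k V) := by
    intro Y c hY
    calc Y = Y * ∑ b : Fin 11, sp 11 ζ X b := by rw [hs, mul_one]
      _ = ∑ b : Fin 11, c • sp 11 ζ X b := by rw [Finset.mul_sum]; exact Finset.sum_congr rfl fun b _ => hY b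
      _ = _ := by rw [← Finset.smul_sum, hs]
  have hcase : ∀ b : Fin 11, ((b : ℕ) = 0 ∨ (b : ℕ) = 2 ∨ (b : ℕ) = 6 ∨ (b : ℕ) = 7 ∨ (b : ℕ) = 8 ∨ (b : ℕ) = 10) ∨
      ((b : ℕ) = 1 ∨ (b : ℕ) = 3 ∨ (b : ℕ) = 4 ∨ (b : ℕ) = 5 ∨ (b : ℕ) = 9) := by decide
  constructor
  · apply key
    intro b
    rcases hcase b with hb | hb
    · rw [hz _ hb, mul_zero, smul_zero]
    · simp only [add_mul, hp]
      rw [← add_smul, ← add_smul, ← add_smul, ← add_smul]
      congr 1
      unfold al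
      rcases hb with hb | hb | hb | hb | hb <;> rw [hb]
      · norm_num
      · rw [q (3 * 1), q (3 * 3), q (3 * 4), q (3 * 5), q (3 * 9)]; norm_num; ring
      · rw [q (4 * 1), q (4 * 3), q (4 * 4), q (4 * 5), q (4 * 9)]; norm_num; ring
      · rw [q (5 * 1), q (5 * 3), q (5 * 4), q (5 * 5), q (5 * 9)]; norm_num; ring
      · rw [q (9 * 1), q (9 * 3), q (9 * 4), q (9 * 5), q (9 * 9)]; norm_num; ring
  · apply key
    intro b
    rcases hcase b with hb | hb
    · rw [hz _ hb, mul_zero, smul_zero]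
    · simp only [add_mul, hp]
      rw [← add_smul, ← add_smul, ← add_smul, ← add_smul]
      congr 1
      unfold be
      rcases hb with hb | hb | hb | hb | hb <;> rw [hb]
      · norm_num; rw [q 18, q 21, q 24, q 30]; norm_num; ring
      · norm_num; rw [q 24, q 28, q 32, q 40]; norm_num; ring
      · norm_num; rw [q 30, q 35, q 40, q 50]; norm_num; ring
      · norm_num; rw [q 18, q 54, q 63, q 72, q 90]; norm_num; ring

end

end Cfsg.Agent.H48.M12T

namespace Cfsg.Agent.H48.M12T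

open Cfsg Cfsg.Agent.H6.M11 Cfsg.Agent.CoThreeStd.MTwelve Cfsg.Agent.SporadicStructure.M11InvPerms Module

/-- orders -/
def om (j : ℕ) : ℕ := [1, 4, 6, 5, 10, 3, 8, 8, 8, 6, 8].getD j 1

theorem om_spec : ∀ j : Fin 11, 1 ≤ j.1 → eqW (wpow ([2, 5] ++ wpow (W 5) j.1) (om j.1)) [] = true ∧
    ¬ 11 ∣ om j.1 := by decide +kernel

theorem vH_five : vH 5 = wd (W 5) := rfl

/-- the element `g` and the elements `g x ^ j` -/
theorem good_real {j : ℕ} (hj : 1 ≤ j) (hj' : j ≤ 10) : Rl (wd [2, 5] * vH 5 ^ j) := by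
  apply real_H
  intro h
  obtain ⟨h1, h2⟩ := om_spec ⟨j, by omega⟩ hj
  have h3 := wd_eq h1
  rw [wd_wpow, wd_append, wd_wpow, wd_nil, ← vH_five] at h3
  have h4 := orderOf_dvd_of_pow_eq_one h3
  rw [h] at h4
  exact h2 h4

theorem good_cube : wd [2, 5] ^ 3 = 1 := by
  have h1 : eqW (wpow [2, 5] 3) [] = true := by decide +kernel
  have h2 := wd_eq h1
  rwa [wd_wpow] at h2

theorem x_pow : vH 5 ^ 11 = 1 := by
  have h1 : eqW (wpow (W 5) 11) [] = true := by decide +kernel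
  have h2 := wd_eq h1
  rwa [wd_wpow, ← vH_five] at h2

open LinearMap in
/-- quadratic residues only : the dimension is divisible by 3 -/
theorem no_scalar {k : Type*} [Field k] {ζ : k} (h3 : (3 : k) = 0) (hζ : IsPrimitiveRoot ζ 11) {V : Type*}
    [AddCommGroup V] [Module k V] [FiniteDimensional k V] (R : Spor.M12 →* End k V)
    (h : ∀ c : ℕ, (c = 0 ∨ c = 2 ∨ c = 6 ∨ c = 7 ∨ c = 8 ∨ c = 10) → finrank k (End.eigenspace (R (vH 5)) (ζ ^ c)) = 0) :
    (finrank k V : k) = 0 := by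
  have hX : R (vH 5) ^ 11 = 1 := by rw [← map_pow, x_pow, map_one]
  obtain ⟨e1, e2⟩ := scalar_ops hζ hX h
  set g := wd [2, 5] with hg
  -- real traces
  have ht : ∀ j : ℕ, 1 ≤ j → j ≤ 10 → LinearMap.trace k V (R g * R (vH 5) ^ j) =
      LinearMap.trace k V (R g⁻¹ * R (vH 5) ^ (11 - j)) := by
    intro j hj hj'
    obtain ⟨c, hc⟩ := good_real hj hj'
    have h1 : LinearMap.trace k V (R (g * vH 5 ^ j)⁻¹) = LinearMap.trace k V (R (g * vH 5 ^ j)) := by
      rw [← hc, map_mul R, LinearMap.trace_mul_comm, ← map_mul R, mul_inv_cancel_left]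
    have h2 : (g * vH 5 ^ j)⁻¹ = vH 5 ^ (11 - j) * g⁻¹ := by
      rw [mul_inv_rev]
      congr 1
      rw [inv_eq_iff_mul_eq_one, ← pow_add, Nat.add_sub_cancel' (by omega), x_pow]
    rw [h2, map_mul R, map_mul R, map_pow R, map_pow R, LinearMap.trace_mul_comm] at h1
    exact h1.symm
  have hcube : ∀ y : Spor.M12, y ^ 3 = 1 → LinearMap.trace k V (R y) = (finrank k V : k) := fun y hy =>
    trace_of_cube h3 (by rw [← map_pow, hy, map_one])
  have t1 := hcube g good_cube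
  have t2 := hcube g⁻¹ (by rw [inv_pow, good_cube, inv_one])
  have s1 : LinearMap.trace k V (R g * (R (vH 5) ^ 1 + R (vH 5) ^ 3 + R (vH 5) ^ 4 + R (vH 5) ^ 5 + R (vH 5) ^ 9)) =
      al ζ * finrank k V := by
    rw [e1, mul_smul_comm, mul_one, map_smul, t1, smul_eq_mul]
  have s2 : LinearMap.trace k V (R g⁻¹ * (R (vH 5) ^ 2 + R (vH 5) ^ 6 + R (vH 5) ^ 7 + R (vH 5) ^ 8 + R (vH 5) ^ 10)) =
      be ζ * finrank k V := by
    rw [e2, mul_smul_comm, mul_one, map_smul, t2, smul_eq_mul]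
  simp only [mul_add, map_add] at s1 s2
  rw [ht 1 (by norm_num) (by norm_num), ht 3 (by norm_num) (by norm_num), ht 4 (by norm_num) (by norm_num),
    ht 5 (by norm_num) (by norm_num), ht 9 (by norm_num) (by norm_num)] at s1
  norm_num at s1 s2
  have h4 : (al ζ - be ζ) * (finrank k V : k) = 0 := by linear_combination s2 - s1
  exact (mul_eq_zero.1 h4).resolve_left (sub_ne_zero.2 (al_ne_be h3 hζ))

open LinearMap in
/-- dimension ten : the trace of `x` is real -/
theorem trace_ten {k : Type u} [Field k] [IsAlgClosed k] (h3 : (3 : k) = 0) {V : Type w} [AddCommGroup V] [Module k V]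
    [FiniteDimensional k V] (R : Spor.M12 →* End k V) (hspan : Submodule.span k (Set.range R) = ⊤)
    (h10 : finrank k V = 10) : LinearMap.trace k V (R (ev vH [5])) =
      LinearMap.trace k V (R (ev vH [5, 5, 5, 5, 5, 5, 5, 5, 5, 5])) := by
  obtain ⟨ζ, hζ⟩ := exists_root k 11 (eleven_ne_of3 h3)
  have hrk := ten_le_rk h3 hζ R hspan (by omega) (by omega)
  have hadd := rk_add (R (vH 5))
  have hop : op vH R [5] = R (vH 5) := by simp [op, ev_cons, ev_nil]
  obtain ⟨m, a, b, ha, hb, hm, hdim⟩ := sat_H.toL.eigen (R := R) hζ ⊤ (fun _ _ => trivial) (fun _ _ => trivial)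
  have top' : ∀ c : k, finrank k (⊤ ⊓ End.eigenspace (op vH R [5]) c : Submodule k V) =
      finrank k (End.eigenspace (op vH R [5]) c) := fun c => by rw [top_inf_eq]
  simp only [top'] at ha hb hm
  rw [finrank_top] at hdim
  have hm0 : m = 0 := by rw [← hm, hop]; omega
  have h10k : (finrank k V : k) ≠ 0 := by
    rw [h10]
    intro h
    push_cast at h
    exact one_ne_zero (α := k) (by linear_combination h - 3 * h3)
  have hab : a = 1 ∧ b = 1 := by
    rcases (show (a = 2 ∧ b = 0) ∨ (a = 0 ∧ b = 2) ∨ (a = 1 ∧ b = 1) by omega) with h | h | h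
    · exfalso
      apply h10k
      refine no_scalar h3 hζ R fun c hc => ?_
      rw [← hop]
      rcases hc with rfl | hc
      · rw [pow_zero, hm, hm0]
      · rw [hb c hc, h.2]
    · exfalso
      apply h10k
      have hζ' : IsPrimitiveRoot (ζ ^ 10) 11 := hζ.pow_of_coprime 10 (by norm_num)
      refine no_scalar h3 hζ' R fun c hc => ?_
      rw [← hop, ← pow_mul]
      have e : ζ ^ (10 * c) = ζ ^ ((10 * c) % 11) := pow_eq_pow_mod _ hζ.pow_eq_one
      rw [e]
      rcases hc with rfl | rfl | rfl | rfl | rfl | rfl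
      · rw [Nat.mul_zero, Nat.zero_mod, pow_zero, hm, hm0]
      all_goals rw [ha _ (by norm_num), h.1]
    · exact h
  obtain ⟨h4, h5⟩ := sat_H.toL.trace_five (R := R) hζ ha hb hm
  rw [hab.1, hab.2] at h4 h5
  unfold tw op at h4 h5
  rw [h4, h5]

end Cfsg.Agent.H48.M12T

namespace Cfsg.Agent.H48.M12T

open Matrix Module Cfsg Cfsg.Geo Cfsg.Agent.H915.LD Cfsg.Agent.H6.M11 Cfsg.Agent.CoThreeStd.MTwelve

variable {ι : Type} [Fintype ι] [DecidableEq ι] {F : Type u} [Field F] {P : Subgroup (GL ι F)}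

/-- **the group of degree 12 in characteristic 3, dimension 10** : real traces -/
theorem m12_ten [Finite F] (hC : Core P) (h3 : (3 : F) = 0) (e : P ≃* Spor.M12) (h10 : Fintype.card ι = 10) : SD P := by
  let k := AlgebraicClosure F
  have h3k : (3 : k) = 0 := by
    have h := congrArg (algebraMap F k) h3
    rwa [map_ofNat, map_zero] at h
  have h0 := trace_ten (k := k) h3k (V := ι → k) ((rep P k).comp e.symm.toMonoidHom) (by
    have h1 : Set.range ((rep P k).comp e.symm.toMonoidHom) = Set.range (rep P k) := by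
      ext f
      constructor
      · rintro ⟨g, rfl⟩
        exact ⟨e.symm g, rfl⟩
      · rintro ⟨g, rfl⟩
        exact ⟨e g, by simp⟩
    rw [h1]
    exact span_rep k hC) (by rw [Module.finrank_fintype_fun_eq_card, h10])
  have h10' : (ev vH [5])⁻¹ = ev vH [5, 5, 5, 5, 5, 5, 5, 5, 5, 5] := by
    rw [inv_eq_iff_mul_eq_one, ← ev_append, ← ev_nil vH]
    exact sat_H.base (by decide +kernel)
  rw [← h10'] at h0
  have h1 : tr ((e.symm (ev vH [5])⁻¹ : P) : GL ι F) = tr ((e.symm (ev vH [5]) : P) : GL ι F) := by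
    apply (algebraMap F k).injective
    rw [← trace_rep, ← trace_rep]
    exact h0.symm
  let χ : Spor.M12 → F := fun g => tr ((e.symm g : P) : GL ι F)
  have hχ : ∀ g m : Spor.M12, χ (m * g * m⁻¹) = χ g := by
    intro g m
    have h2 : IsConj (e.symm g) (e.symm (m * g * m⁻¹)) := by
      rw [isConj_iff]
      exact ⟨e.symm m, by rw [map_mul, map_mul, map_inv]⟩
    exact (tr_isConj h2).symm
  intro g hg
  have h3 := real_fun χ hχ h1 (e ⟨g, hg⟩)
  have h4 : χ (e ⟨g, hg⟩)⁻¹ = tr g⁻¹ := by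
    show tr ((e.symm (e ⟨g, hg⟩)⁻¹ : P) : GL ι F) = _
    rw [map_inv, MulEquiv.symm_apply_apply]
    rfl
  have h5 : χ (e ⟨g, hg⟩) = tr g := by
    show tr ((e.symm (e ⟨g, hg⟩) : P) : GL ι F) = _
    rw [MulEquiv.symm_apply_apply]
  rw [← h4, ← h5]
  exact h3

end Cfsg.Agent.H48.M12T
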