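import Cfsg.Agent.H48.WittNeg
import Cfsg.Agent.H905.MdI
import Cfsg.Agent.H61.PSUMult
import Cfsg.Agent.GpUn.Row
import Cfsg.Agent.H915.LD

/-!
# Cores with the simple group `PSU_N(q)`, `q` a power of the characteristic of the field of definition (helper48)

* `rgd_neg_torus` : in the root group datum of `SU_N(q)` : `w⁻¹ t⁻¹ w = t^q` on the torus, `w` over `-1`;
* **`psu_cover`** : `SU_N(q)` maps onto `P`; **`psu_cj`** : `tr(g⁻¹) = tr(g)^q` on `P`.
-/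

set_option autoImplicit false
set_option linter.unusedSectionVars false

namespace Cfsg.Agent.H48.NatSU

open Matrix (SpecialLinearGroup)
open Cfsg Cfsg.Agent.LieClassical.HermBasic Cfsg.Agent.LieClassical.HermSiegel
open Cfsg.Agent.ChevalleyStructure.CoxeterGeom Cfsg.Agent.Tits.Roots
open Cfsg.Agent.TitsThree Cfsg.Agent.TitsThree.Siegel Cfsg.Agent.TitsThree.SiegelGen
  Cfsg.Agent.TitsThree.WittFrame
  Cfsg.Agent.TitsThree.WittWeyl Cfsg.Agent.TitsThree.WBridge Cfsg.Agent.TitsThree.KSideU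
  Cfsg.Agent.TitsThree.KSideUDesc Cfsg.Agent.TitsThree.FrameCN
open Cfsg.Agent.Nodes Cfsg.Agent.Nodes.WittRoot Cfsg.Agent.Nodes.WittRGD Cfsg.Agent.Nodes.TypeC
  Cfsg.Agent.Nodes.WittAll Cfsg.Agent.Nodes.WittU Cfsg.Agent.Nodes.BNOf Cfsg.Agent.Nodes.Reps
  Cfsg.Agent.Nodes.RGDLib
open Cfsg.Agent.H61.SUCross Cfsg.Agent.H48.WittNeg

/-! ### frames -/

section Frame

variable {F : Type*} [Field F] {V : Type*} [AddCommGroup V] [Module F V] {H : HForm F V} {n : ℕ}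
  {Fr : Frame H (Fin n)} {G0 : Subgroup (V ≃ₗ[F] V)}

theorem eq_of_fix (hA : Amb Fr G0) {g g' : V ≃ₗ[F] V} (hb : ∀ x, g (Fr.b x) = g' (Fr.b x))
    (h0 : ∀ w ∈ Fr.V0, g w = g' w) : g = g' := by
  have h1 : g'⁻¹ * g = 1 := by
    refine WittRGD.Amb.eq_one_of_fix hA (fun x => ?_) (fun w hw => ?_)
    · rw [mul_apply', hb, ← mul_apply', inv_mul_cancel]; rfl
    · rw [mul_apply', h0 w hw, ← mul_apply', inv_mul_cancel]; rfl
  exact (inv_mul_eq_one.1 h1).symm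

theorem pow_apply_smul {g : V ≃ₗ[F] V} {v : V} {a : F} (h : g v = a • v) (j : ℕ) : (g ^ j) v = a ^ j • v := by
  induction j with
  | zero => rw [pow_zero, pow_zero, one_smul]; rfl
  | succ j ih => rw [pow_succ, mul_apply', h, map_smul, ih, smul_smul, pow_succ, mul_comm]

theorem inv_apply_smul {g : V ≃ₗ[F] V} {v : V} {a : F} (ha : a ≠ 0) (h : g v = a • v) : g⁻¹ v = a⁻¹ • v := by
  have h1 : a • g⁻¹ v = v := by
    have h2 : g⁻¹ (g v) = v := by rw [← mul_apply', inv_mul_cancel]; rfl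
    rwa [h, map_smul] at h2
  calc g⁻¹ v = a⁻¹ • (a • g⁻¹ v) := by rw [smul_smul, inv_mul_cancel₀ ha, one_smul]
    _ = a⁻¹ • v := by rw [h1]

end Frame

section SU

variable {F : Type*} [Field F] [Fintype F] {q N m : ℕ} {hF : Fintype.card F = q ^ 2} {W : WFrame (PU hF N) m}

/-- a monomial isometry acts on `V0` by a scalar of norm one -/
theorem exists_scal (hK : Kind W) {g : (Fin N → F) ≃ₗ[F] (Fin N → F)} (hg : g ∈ IU F q N)
    {π ρ : Fin m × Bool → Fin m × Bool} (hm : Mono (toFrame W) g π) (hρ : ∀ x, π (ρ x) = x) :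
    ∃ ν : F, ν * ν ^ q = 1 ∧ ∀ w ∈ (toFrame W).V0, g w = ν • w := by
  rcases hK with hK | ⟨d, hd, hK⟩
  · refine ⟨1, by rw [one_pow, mul_one], fun w hw => ?_⟩
    have h1 : w ∈ W.V0 := hw
    rw [hK, Submodule.mem_bot] at h1
    rw [h1, map_zero, smul_zero]
  · have hdV : d ∈ (toFrame W).V0 := by
      change d ∈ W.V0
      rw [hK]; exact Submodule.mem_span_singleton_self d
    have h1 : g d ∈ W.V0 := (amb_U hF W).map_V0 hg hm hρ hdV
    rw [hK, Submodule.mem_span_singleton] at h1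
    obtain ⟨ν, hν⟩ := h1
    refine ⟨ν, ?_, fun w hw => ?_⟩
    · have h2 := isIso_IU hF hg d d
      rw [← hν, HU_h, herm_smul_left, herm_smul_right, HU_h, hd] at h2
      linear_combination h2
    · have h2 : w ∈ W.V0 := hw
      rw [hK, Submodule.mem_span_singleton] at h2
      obtain ⟨a, rfl⟩ := h2
      rw [map_smul, ← hν, smul_comm]

theorem tor_comm (hK : Kind W) {s t : (Fin N → F) ≃ₗ[F] (Fin N → F)} (hs : s ∈ Tor (toFrame W) (IU F q N))
    (ht : t ∈ Tor (toFrame W) (IU F q N)) : s * t = t * s := by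
  obtain ⟨ν, -, hν⟩ := exists_scal hK hs.1 hs.2 (ρ := id) (fun _ => rfl)
  obtain ⟨μ, -, hμ⟩ := exists_scal hK ht.1 ht.2 (ρ := id) (fun _ => rfl)
  refine eq_of_fix (amb_U hF W) (fun x => ?_) (fun w hw => ?_)
  · obtain ⟨a, -, ha⟩ := hs.2 x
    obtain ⟨b, -, hb⟩ := ht.2 x
    have ha' : s ((toFrame W).b x) = a • (toFrame W).b x := ha
    have hb' : t ((toFrame W).b x) = b • (toFrame W).b x := hb
    rw [mul_apply', mul_apply', ha', hb', map_smul, map_smul, ha', hb', smul_comm]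
  · rw [mul_apply', mul_apply', hν w hw, hμ w hw, map_smul, map_smul, hν w hw, hμ w hw, smul_comm]

/-- **`g⁻¹ t⁻¹ g = t^q`** -/
theorem conj_tor (hK : Kind W) {g t : (Fin N → F) ≃ₗ[F] (Fin N → F)} (hg : g ∈ IU F q N)
    (hgm : Mono (toFrame W) g ng) (ht : t ∈ Tor (toFrame W) (IU F q N)) : g⁻¹ * t⁻¹ * g = t ^ q := by
  obtain ⟨ν, hν1, hν⟩ := exists_scal hK hg hgm (ρ := ng) (fun x => ng_ng x)
  obtain ⟨μ, hμ1, hμ⟩ := exists_scal hK ht.1 ht.2 (ρ := id) (fun _ => rfl)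
  have hν0 : ν ≠ 0 := left_ne_zero_of_mul_eq_one hν1
  have hμ0 : μ ≠ 0 := left_ne_zero_of_mul_eq_one hμ1
  refine eq_of_fix (amb_U hF W) (fun x => ?_) (fun w hw => ?_)
  · obtain ⟨a, ha0, ha⟩ := ht.2 x
    have ha' : t ((toFrame W).b x) = a • (toFrame W).b x := ha
    rw [apply_torus (isIso_IU hF ht.1) ht.2 hgm ha', pow_apply_smul ha', HU_σ]
  · rw [mul_apply', mul_apply', hν w hw, map_smul, inv_apply_smul hμ0 (hμ w hw), map_smul, map_smul,
      inv_apply_smul hν0 (hν w hw), pow_apply_smul (hμ w hw), smul_smul, smul_smul]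
    congr 1
    have h1 : μ ^ q = μ⁻¹ := (inv_eq_of_mul_eq_one_right hμ1).symm
    rw [h1]
    field_simp

/-- the root group datum of `SU_N(q)` and its element over `-1` -/
theorem exists_rgd (hF : Fintype.card F = q ^ 2) (hN : 3 ≤ N) {p : ℕ} [hp : Fact p.Prime] [CharP F p] :
    ∃ (m : ℕ) (T : Subgroup (SU N F q)) (n : Fin m → SU N F q) (X : (Fin m → ℤ) → Subgroup (SU N F q))
      (R : RGD (CoxeterMatrix.B m).toCoxeterSystem (isCartan m) p T n X) (w0 : (CoxeterMatrix.B m).Group)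
      (w : SU N F q), 0 < m ∧ N ≤ 2 * m + 1 ∧ G1 (CoxeterMatrix.B m).toCoxeterSystem (isCartan m) X = ⊤ ∧
      (∀ s ∈ T, ∀ t ∈ T, s * t = t * s) ∧ (∀ x, rep (CoxeterMatrix.B m).toCoxeterSystem (isCartan m) w0 x = -x) ∧
      Rp (CoxeterMatrix.B m).toCoxeterSystem R.nsys w0 w ∧ ∀ t ∈ T, w⁻¹ * t⁻¹ * w = t ^ q := by
  obtain ⟨m, hm⟩ : ∃ m, N = 2 * m ∨ N = 2 * m + 1 := ⟨N / 2, by omega⟩
  obtain ⟨W, hK⟩ : ∃ W : WFrame (PU hF N) m, Kind W := by
    rcases hm with hm | hm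
    · obtain ⟨W, hW⟩ := exists_wframe_even hF hm
      exact ⟨W, Or.inl hW⟩
    · obtain ⟨W, d, hd, hW⟩ := exists_wframe_odd hF hm
      exact ⟨W, Or.inr ⟨d, hd, hW⟩⟩
  obtain ⟨p0, hp0, -⟩ := exists_adm hF W
  have hA : AmbT (toFrame W) p (modelSU hF hN W).I := AmbT.of_amb (amb_U hF W) p
  obtain ⟨w0, g, hg, h1, h2, h3⟩ := exists_neg hA hp0 (CoxeterMatrix.B m).toCoxeterSystem
  refine ⟨m, _, _, _, rgdC_model (modelSU hF hN W) hA hp0 (CoxeterMatrix.B m).toCoxeterSystem, w0,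
    (modelSU hF hN W).φ ⟨g, hg⟩, by omega, by omega, WittModel.G1_eq_top _ (by omega) _, ?_, h1, h2, ?_⟩
  · rintro _ ⟨s, hs, rfl⟩ _ ⟨t, ht, rfl⟩
    rw [← map_mul, ← map_mul]
    congr 1
    exact Subtype.ext (tor_comm hK (Subgroup.mem_subgroupOf.1 hs) (Subgroup.mem_subgroupOf.1 ht))
  · rintro _ ⟨t, ht, rfl⟩
    rw [← map_inv, ← map_inv, ← map_mul, ← map_mul, ← map_pow]
    congr 1
    exact Subtype.ext (conj_tor hK hg h3 (Subgroup.mem_subgroupOf.1 ht))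

end SU

/-! ### cores -/

section Core

open Matrix Cfsg.Geo Cfsg.Agent.H905.Md Cfsg.Agent.H915.LD

universe u

variable {ι : Type} [Fintype ι] [DecidableEq ι] {F : Type u} [Field F] [Finite F] {P : Subgroup (GL ι F)}
  {K : Type} [Field K] [Fintype K] {q N : ℕ}

/-- **`SU_N(q)` maps onto `P`.** -/
theorem psu_cover (p : ℕ) [hp : Fact p.Prime] [CharP F p] [CharP K p] (hK : Fintype.card K = q ^ 2) (hN : 3 ≤ N)
    (h32 : ¬ (N = 3 ∧ q = 2)) (hperf : ⁅P, P⁆ = P) (e : (P ⧸ (scalars ι F).subgroupOf P) ≃* PSU N K q) :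
    ∃ φ : SU N K q →* GL ι F, φ.range = P ∧ φ.ker ≤ Subgroup.center (SU N K q) ∧
      ∀ g, ∃ hg : φ g ∈ P, prj e ⟨φ g, hg⟩ = QuotientGroup.mk' (Subgroup.center (SU N K q)) g := by
  have hfin : Finite (SU N K q) := inferInstance
  obtain ⟨φ, h1, h2, h3⟩ := exists_cover (p := p) hperf e (GpUn.perfect_SU hK hN h32)
    (fun r hr hne => H61.PSUMult.noPCov_cross hK hN hp.out hr hne)
    (πG := QuotientGroup.mk' (Subgroup.center (SU N K q))) (QuotientGroup.mk'_surjective _)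
    (by rw [QuotientGroup.ker_mk'])
  rw [QuotientGroup.ker_mk'] at h2
  exact ⟨φ, h1, h2, h3⟩

/-- **`tr(g⁻¹) = tr(g)^q`.** -/
theorem psu_cj (hC : Core P) (p : ℕ) [hp : Fact p.Prime] [CharP F p] [CharP K p] (hK : Fintype.card K = q ^ 2)
    (hN : 3 ≤ N) (h32 : ¬ (N = 3 ∧ q = 2)) (e : Soc P ≃* PSU N K q) : Cj P q := by
  obtain ⟨φ, hφ, -, -⟩ := psu_cover p hK hN h32 hC.perfect e
  obtain ⟨m, T, n, X, R, w0, w, hm, -, hG1, hT, hw0, hw, htor⟩ := exists_rgd (p := p) hK hN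
  have hne := hC.nonempty
  have hfin : Finite (SU N K q) := inferInstance
  have hW : Finite (CoxeterMatrix.B m).Group := finite_W (CoxeterMatrix.B m).toCoxeterSystem
  obtain ⟨p', a, hp', hch, hq, ha⟩ := LieClassical.HermBasic.exists_prime_pow hK
  obtain rfl : p' = p := CharP.eq K hch ‹_›
  intro g hg
  have h1 := trace_inv_pow R (gg_eq_top hG1) hT hφ hC.absIrred hw0 hw (a := a) (fun t ht => by
    rw [← hq]; exact htor t ht) hg
  rw [hq]
  exact h1.symm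

end Core

end Cfsg.Agent.H48.NatSU
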