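import Cfsg.Agent.H911.Base5

/-!
# Perfect groups of matrices of prime degree, simple modulo scalars: the centre is trivial as soon as the square of the
degree does not divide the order of the simple group (helper48)
-/

set_option autoImplicit false

namespace Cfsg.Agent.H48.PrimeCenter

open Cfsg Cfsg.Geo Matrix
open scoped MatrixGroups

variable {F : Type*} [Field F] {n : ℕ} {P : Subgroup (GL (Fin n) F)}

theorem scalars_le_center (P : Subgroup (GL (Fin n) F)) :
    (scalars (Fin n) F).subgroupOf P ≤ Subgroup.center P := by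
  intro z hz
  rw [Subgroup.mem_subgroupOf, mem_scalars_iff] at hz
  obtain ⟨c, hcz⟩ := hz
  rw [Subgroup.mem_center_iff]
  intro g
  apply Subtype.ext
  apply Units.ext
  rw [Subgroup.coe_mul, Subgroup.coe_mul, Units.val_mul, Units.val_mul, hcz]
  rw [Matrix.mul_smul, Matrix.smul_mul, mul_one, one_mul]

theorem pow_eq_one (hperf : ⁅P, P⁆ = P) {z : P} (hz : z ∈ (scalars (Fin n) F).subgroupOf P) : z ^ n = 1 := by
  have hperf' : commutator P = ⊤ := H911.Five.commutator_top hperf
  rw [Subgroup.mem_subgroupOf, mem_scalars_iff] at hz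
  obtain ⟨c, hcz⟩ := hz
  have hdet : Matrix.GeneralLinearGroup.det (z : GL (Fin n) F) = 1 := by
    have h2 : (Matrix.GeneralLinearGroup.det.comp P.subtype).ker = ⊤ := by
      rw [eq_top_iff, ← hperf']
      exact Abelianization.commutator_subset_ker _
    have : z ∈ (Matrix.GeneralLinearGroup.det.comp P.subtype).ker := by rw [h2]; trivial
    exact this
  have hc5 : (c : F) ^ n = 1 := by
    have h2 : (((z : GL (Fin n) F) : Matrix (Fin n) (Fin n) F)).det = 1 := by
      rw [← Matrix.GeneralLinearGroup.val_det_apply, hdet, Units.val_one]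
    rw [hcz, Matrix.det_smul, Matrix.det_one, Fintype.card_fin, mul_one] at h2
    exact h2
  apply Subtype.ext
  apply Units.ext
  rw [Subgroup.coe_pow, Units.val_pow_eq_pow_val, hcz, smul_pow, hc5, one_pow, one_smul]
  rfl

/-- In prime degree `n` the centre is trivial as soon as `n ^ 2` does not divide the order of the simple group. -/
theorem center_bot [Finite F] (hn : n.Prime) (hperf : ⁅P, P⁆ = P)
    (h25 : ¬ n ^ 2 ∣ Nat.card (P ⧸ (scalars (Fin n) F).subgroupOf P)) :
    (scalars (Fin n) F).subgroupOf P = ⊥ := by
  set Z := (scalars (Fin n) F).subgroupOf P with hZ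
  have hperf' : commutator P = ⊤ := H911.Five.commutator_top hperf
  have hzc : Z ≤ Subgroup.center P := scalars_le_center P
  have hperfQ : commutator (P ⧸ Z) = ⊤ := by
    rw [commutator_def, ← Subgroup.map_top_of_surjective (QuotientGroup.mk' Z) (QuotientGroup.mk'_surjective Z),
      ← Subgroup.map_commutator, ← commutator_def, hperf']
  have hprime : Fact (Nat.Prime n) := ⟨hn⟩
  have hcyc : ∀ S : Sylow n (P ⧸ Z), IsCyclic S := by
    intro S
    have h1 := S.card_eq_multiplicity
    have h2 : (Nat.card (P ⧸ Z)).factorization n ≤ 1 := by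
      by_contra hcon
      push Not at hcon
      apply h25
      exact (pow_dvd_pow n hcon).trans (Nat.ordProj_dvd _ _)
    have h4 : Nat.card S ∣ n := by
      rw [h1]
      exact (pow_dvd_pow n h2).trans (by rw [pow_one])
    rcases (Nat.dvd_prime hn).1 h4 with h5 | h5
    · have : Subsingleton S := by
        rw [Nat.card_eq_one_iff_unique] at h5
        exact h5.1
      infer_instance
    · exact isCyclic_of_prime_card (p := n) h5
  have hker : (QuotientGroup.mk' Z).ker = Z := QuotientGroup.ker_mk' Z
  have h102 := Cfsg.Agent.S0102.result (G := P ⧸ Z) (H := P) hperfQ (p := n) hcyc (QuotientGroup.mk' Z)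
    (QuotientGroup.mk'_surjective Z) (by rw [hker]; exact hzc) hperf'
  rw [hker] at h102
  rw [Subgroup.eq_bot_iff_forall]
  intro z hz
  have hz5 : z ^ n = 1 := pow_eq_one hperf hz
  by_contra hne
  apply h102
  have hord : orderOf (⟨z, hz⟩ : Z) = n := by
    apply orderOf_eq_prime
    · exact Subtype.ext hz5
    · intro h; exact hne (congrArg Subtype.val h)
  exact (dvd_of_eq hord.symm).trans (orderOf_dvd_natCard _)

/-- The group is isomorphic to its simple quotient when the latter's order is not divisible by `n ^ 2`. -/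
noncomputable def coreEquiv [Finite F] (hn : n.Prime) (hperf : ⁅P, P⁆ = P)
    (h25 : ¬ n ^ 2 ∣ Nat.card (P ⧸ (scalars (Fin n) F).subgroupOf P)) :
    P ≃* (P ⧸ (scalars (Fin n) F).subgroupOf P) :=
  QuotientGroup.quotientBot.symm.trans (QuotientGroup.quotientMulEquivOfEq (center_bot hn hperf h25).symm)

end Cfsg.Agent.H48.PrimeCenter
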