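import Cfsg.Agent.H48.AltTen
import Cfsg.Agent.H48.PrimeCenter
import Cfsg.Agent.H912.FiveList
import Cfsg.Agent.H915.LD
import Cfsg.Agent.H911.AltReal
import Cfsg.Agent.H637.SevenA7
import Cfsg.Agent.H637.SevenA8
import Cfsg.Agent.H659.SevenU33
import Cfsg.Agent.H659.SevenU42
import Cfsg.Agent.H464.L2StageOne
import Cfsg.Agent.SmallSimple.S1000.PSLFacts
import Cfsg.Agent.S0256
import Cfsg.Agent.S0280

/-!
# Dimension seven: alternating and classical groups of another characteristic (helper48)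

`Core P`, `P ≤ GL_7(F)`, `char F = p`, `T = P / scalars`:

* `seven_alt` : `T = A_m` : `SD P` (or `m = 8`, `p = 2`);
* `seven_cl` : `T` classical in characteristic `r ≠ p` : `SD P`, or `U33 p P`, or `T` of Lie type in characteristic `p`, or
  `T = Sp_6(2)`, `O_8^+(2)`;
* `seven_known₀` : all known simple groups.
-/

set_option autoImplicit false
set_option linter.unusedSectionVars false

universe u v

namespace Cfsg.Agent.H48.Seven

open Cfsg Cfsg.Geo Matrix Cfsg.Agent.H915.LD Cfsg.Agent.H912.Bd Cfsg.Agent.H912.Five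

/-- The conclusion for `T = U_3(3)`. -/
def U33 {F : Type u} [Field F] (p : ℕ) (P : Subgroup (GL (Fin 7) F)) : Prop :=
  IsU 3 3 (Soc P) ∧ p ≠ 3 ∧ p ≠ 2 ∧ (p % 4 = 1 → Fr P p) ∧ (p % 4 = 3 → Cj P p)

variable {F : Type u} [Field F] [Finite F] {P : Subgroup (GL (Fin 7) F)}

/-- the representation of a group isomorphic to `P` -/
theorem exists_rep {T : Type v} [Group T] (hC : Core P) (f : P ≃* T) : ∃ ρ : T →* GL (Fin 7) F,
    ActsAbsolutelyIrreducibly (matrixSet ρ.range) ∧ ∀ g : P, ρ (f g) = (g : GL (Fin 7) F) := by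
  refine ⟨P.subtype.comp f.symm.toMonoidHom, ?_, fun g => ?_⟩
  · have h1 : (P.subtype.comp f.symm.toMonoidHom).range = P := by
      rw [MonoidHom.range_comp, MonoidHom.range_eq_top.2 f.symm.surjective, ← MonoidHom.range_eq_map,
        Subgroup.range_subtype]
    rw [h1]
    exact hC.absIrred
  · change ((f.symm (f g) : P) : GL (Fin 7) F) = g
    rw [f.symm_apply_apply]

theorem sd_of_rep {T : Type v} [Group T] {f : P ≃* T} {ρ : T →* GL (Fin 7) F}
    (hρ : ∀ g : P, ρ (f g) = (g : GL (Fin 7) F))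
    (h : ∀ g, ((ρ g⁻¹ : GL (Fin 7) F) : Matrix (Fin 7) (Fin 7) F).trace =
      ((ρ g : GL (Fin 7) F) : Matrix (Fin 7) (Fin 7) F).trace) : SD P := by
  intro g hg
  have h1 := h (f ⟨g, hg⟩)
  rw [← map_inv, hρ, hρ] at h1
  exact h1

/-- the centre is trivial if `49 ∤ |T|` -/
theorem equiv_of_card {T : Type v} [Group T] (hC : Core P) (e : Soc P ≃* T) (h : ¬ 7 ^ 2 ∣ Nat.card T) :
    Nonempty (P ≃* T) :=
  ⟨(PrimeCenter.coreEquiv (by norm_num) hC.perfect (by rwa [Nat.card_congr e.toEquiv])).trans e⟩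

variable (p : ℕ) [hp : Fact p.Prime] [CharP F p]

theorem seven_alt (hC : Core P) {m : ℕ} (hm : 5 ≤ m) (e : Soc P ≃* alternatingGroup (Fin m)) :
    SD P ∨ (m = 8 ∧ p = 2) := by
  have h9 : m ≤ 9 ∧ (m = 9 → p ≠ 2) := by
    by_cases h3 : p = 3
    · refine ⟨?_, fun _ => by omega⟩
      by_contra hcon
      have h5F : (5 : F) ≠ 0 := by
        intro h0
        have h1 : ((5 : ℕ) : F) = 0 := by exact_mod_cast h0
        rw [CharP.cast_eq_zero_iff F p] at h1
        have := (Nat.prime_dvd_prime_iff_eq hp.out (by norm_num)).1 h1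
        omega
      have h1 := AltTen.bd_alt_ten (F := F) h5F (m := m) (by omega) 7
        (PR.of_perfect P hC.perfect (by norm_num) (by norm_num) e)
      omega
    · have h3F : (3 : F) ≠ 0 := by
        intro h0
        have h1 : ((3 : ℕ) : F) = 0 := by exact_mod_cast h0
        rw [CharP.cast_eq_zero_iff F p] at h1
        exact h3 ((Nat.prime_dvd_prime_iff_eq hp.out (by norm_num)).1 h1)
      have h1 : m < 9 := by
        by_contra hcon
        have h1 := bd_alt_three (F := F) h3F (n := m) (by omega) 7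
          (PR.of_perfect P hC.perfect (by norm_num) (by norm_num) e)
        omega
      exact ⟨by omega, by omega⟩
  have hcard : ¬ 7 ^ 2 ∣ Nat.card (alternatingGroup (Fin m)) := by
    obtain ⟨h1, -⟩ := h9
    interval_cases m <;> (rw [nat_card_alternatingGroup, Nat.card_eq_fintype_card, Fintype.card_fin]; decide)
  obtain ⟨f⟩ := equiv_of_card hC e hcard
  obtain ⟨ρ, hρ, hρf⟩ := exists_rep hC f
  obtain ⟨h1, h2⟩ := h9
  have h2F : p ≠ 2 → (2 : F) ≠ 0 := by
    intro h2 h0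
    have h1 : ((2 : ℕ) : F) = 0 := by exact_mod_cast h0
    rw [CharP.cast_eq_zero_iff F p] at h1
    exact h2 ((Nat.prime_dvd_prime_iff_eq hp.out (by norm_num)).1 h1)
  have h567 : m = 5 ∨ m = 6 → SD P := by
    intro h
    apply SD.of_reg p
    intro g hg _
    have h3 : IsConj (f ⟨g, hg⟩) (f ⟨g, hg⟩)⁻¹ := H911.AltReal.alt_real (by omega) _ (by omega)
    rw [← map_inv] at h3
    have h4 := f.symm.toMonoidHom.map_isConj h3
    have h5 : IsConj (⟨g, hg⟩ : P) (⟨g, hg⟩ : P)⁻¹ := by simpa using h4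
    exact (tr_of_isConj h5).symm
  have h8 : m = 5 ∨ m = 6 ∨ m = 7 ∨ m = 8 ∨ m = 9 := by omega
  rcases h8 with rfl | rfl | rfl | rfl | rfl
  · exact Or.inl (h567 (Or.inl rfl))
  · exact Or.inl (h567 (Or.inr rfl))
  · exact (H637.SevenA7.seven_A7 ρ hρ).elim
  · by_cases hp2 : p = 2
    · exact Or.inr ⟨rfl, hp2⟩
    · exact Or.inl (sd_of_rep hρf (H637.SevenA8.seven_A8 ρ hρ (h2F hp2)))
  · exact Or.inl (sd_of_rep hρf (H637.SevenA8.seven_A9 ρ hρ (h2F (h2 rfl))))

omit [Finite F] in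
theorem cast_ne {r : ℕ} (hr : r.Prime) (hrp : r ≠ p) : (r : F) ≠ 0 := by
  intro h0
  rw [CharP.cast_eq_zero_iff F p] at h0
  exact hrp ((Nat.prime_dvd_prime_iff_eq hp.out hr).1 h0).symm

/-- In degree `7` the kernel has order prime to the characteristic of the group. -/
theorem pr_seven (hC : Core P) {T : Type v} [Group T] (e : Soc P ≃* T) {r : ℕ}
    (hr : r.Prime) (h : IsLieTypeChar r T) : PR F 7 r T := by
  by_cases h7 : r = 7
  · exact PR.of_noR (noR_of_five_le hr (by omega) h) P hC.perfect e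
  · refine PR.of_perfect P hC.perfect hr ?_ e
    intro hd
    exact h7 ((Nat.prime_dvd_prime_iff_eq hr (by norm_num)).1 hd)

/-- `PSL_2(q)`, `q ≥ 4`, any characteristic `r ≠ p` -/
theorem seven_l2 (hC : Core P) {K : Type} [Field K] [Fintype K] (h4 : 4 ≤ Fintype.card K)
    (hpK : ¬ p ∣ Fintype.card K) (e : Soc P ≃* ProjectiveSpecialLinearGroup (Fin 2) K) : SD P := by
  by_cases h9 : Fintype.card K = 9
  · obtain ⟨e'⟩ := S0254.result h9
    rcases seven_alt p hC (by norm_num) (e.trans e') with h | ⟨h, -⟩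
    · exact h
    · omega
  by_cases h4' : Fintype.card K = 4
  · obtain ⟨e'⟩ := S0252.result h4'
    rcases seven_alt p hC (by norm_num) (e.trans e') with h | ⟨h, -⟩
    · exact h
    · omega
  rcases H464.Sl2.l2_stage1_le p hC (by omega) h9 hpK e (by rw [Fintype.card_fin]; norm_num) with h | ⟨h, -⟩
  · exact h
  · rw [Fintype.card_fin] at h
    omega

theorem not_dvd_card {K : Type} [Field K] [Fintype K] {r : ℕ} (hr : r.Prime) [CharP K r] (hrp : r ≠ p) :
    ¬ p ∣ Fintype.card K := by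
  have : Fact r.Prime := ⟨hr⟩
  obtain ⟨k, -, hk⟩ := FiniteField.card K r
  rw [hk]
  intro h
  exact hrp ((Nat.prime_dvd_prime_iff_eq hp.out hr).1 (hp.out.dvd_of_dvd_pow h)).symm

theorem charP_of_card {K : Type} [Field K] [Fintype K] {r k : ℕ} (hr : r.Prime) (hk : k ≠ 0)
    (h : Fintype.card K = r ^ k) : CharP K r := by
  obtain ⟨q, hq⟩ := CharP.exists K
  have hqp : Fact q.Prime := ⟨CharP.char_is_prime K q⟩
  have h1 : q ∣ Fintype.card K := char_dvd_card K
  rw [h] at h1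
  have := eq_of_dvd_prime_pow hqp.out hr h1
  rwa [← this]

/-- `PSp_4(3)` -/
theorem seven_s43 (hC : Core P) {K : Type} [Field K] [Fintype K] (hK : Fintype.card K = 3) (h3 : p ≠ 3)
    (e : Soc P ≃* Cfsg.PSp 2 K) : False := by
  have hcard : ¬ 7 ^ 2 ∣ Nat.card (Cfsg.PSp 2 K) := by
    rw [Cfsg.Agent.SmallSimple.PSLFacts.card_psp_two_three hK]
    norm_num
  obtain ⟨f⟩ := equiv_of_card hC e hcard
  obtain ⟨ρ, hρ, hρf⟩ := exists_rep hC f
  exact H659.SevenU42.seven_U42 hK (by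
    have := cast_ne (F := F) p Nat.prime_three h3.symm
    exact_mod_cast this) ρ hρ

/-- `PSU_3(3)` -/
theorem seven_u33 (hC : Core P) {K : Type} [Field K] [Fintype K] (hK : Fintype.card K = 9) (h3 : p ≠ 3)
    (e : Soc P ≃* Cfsg.PSU 3 K 3) : SD P ∨ U33 p P := by
  have hcard : ¬ 7 ^ 2 ∣ Nat.card (Cfsg.PSU 3 K 3) := by
    have h1 := S0280.result (F := K) (q := 3) (by rw [hK]; norm_num) 3 (by norm_num)
    simp only [Finset.prod_range_succ, Finset.prod_range_zero] at h1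
    norm_num [Nat.even_iff] at h1
    have h2 : Nat.card (Cfsg.PSU 3 K 3) = 6048 := by omega
    rw [h2]
    norm_num
  obtain ⟨f⟩ := equiv_of_card hC e hcard
  obtain ⟨ρ, hρ, hρf⟩ := exists_rep hC f
  rcases H659.SevenU33.seven_U33 p h3 hK ρ hρ with h | ⟨h2, h, h'⟩
  · exact Or.inl (sd_of_rep hρf h)
  · refine Or.inr ⟨⟨K, inferInstance, inferInstance, by rw [hK]; norm_num, ⟨e⟩⟩, h3, h2, fun h4 g hg => ?_, fun h4 g hg => ?_⟩
    · have h5 := h h4 (f ⟨g, hg⟩)
      rw [hρf] at h5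
      exact h5
    · have h5 := h' h4 (f ⟨g, hg⟩)
      rw [← map_inv, hρf, hρf] at h5
      exact h5.symm

/-- **Classical groups of another characteristic.** -/
theorem seven_cl (hC : Core P) {r : ℕ} (hr : r.Prime) (hrp : r ≠ p)
    (hc : Cfsg.IsPSLChar r (Soc P) ∨ Cfsg.IsPSpChar r (Soc P) ∨ Cfsg.IsPSUChar r (Soc P) ∨
      Cfsg.IsPOmegaOddChar r (Soc P) ∨ Cfsg.IsPOmegaPlusChar r (Soc P) ∨ Cfsg.IsPOmegaMinusChar r (Soc P))
    (h : PR F 7 r (Soc P)) :
    SD P ∨ U33 p P ∨ IsLieTypeChar p (Soc P) ∨ (p ≠ 2 ∧ (IsS 3 2 (Soc P) ∨ IsOP 4 2 (Soc P))) := by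
  have hl2 : ∀ (K : Type) (_ : Field K) (_ : Fintype K), 4 ≤ Fintype.card K →
      Nonempty (Soc P ≃* ProjectiveSpecialLinearGroup (Fin 2) K) →
      SD P ∨ U33 p P ∨ IsLieTypeChar p (Soc P) ∨ (p ≠ 2 ∧ (IsS 3 2 (Soc P) ∨ IsOP 4 2 (Soc P))) := by
    rintro K _ _ h4 ⟨e⟩
    obtain ⟨s, hs, hKs⟩ := H912.Known.exists_char K
    by_cases hsp : s = p
    · subst hsp
      exact Or.inr (Or.inr (Or.inl (Or.inl ⟨K, inferInstance, inferInstance, hKs, 2, le_refl _, fun _ => h4, ⟨e⟩⟩)))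
    · exact Or.inl (seven_l2 p hC h4 (not_dvd_card p hs hsp) e)
  have h1 := cross_classical hr (cast_ne p hr hrp) h (by norm_num) hc
  unfold ClSmall at h1
  rcases h1 with ⟨q, hq4, hq, h⟩ | ⟨_, h⟩ | ⟨h8, _⟩ | ⟨h8, h⟩ | ⟨h8, h⟩ | ⟨h8, _⟩ | ⟨_, h⟩ | ⟨h8, _⟩ | ⟨_, h⟩ |
    ⟨h8, _⟩ | ⟨h8, h⟩ | ⟨h8, h⟩
  · obtain ⟨K, iF, iT, hK, e⟩ := h
    exact hl2 K iF iT (by omega) e
  · obtain ⟨K, iF, iT, hK, ⟨e⟩⟩ := h
    have : Fact (Nat.Prime 7) := ⟨by norm_num⟩
    obtain ⟨e'⟩ := S0255.result (F := ZMod 7) (K := K) (by simp) hK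
    exact hl2 (ZMod 7) inferInstance inferInstance (by simp) ⟨e.trans e'.symm⟩
  · omega
  · -- `L_4(2) = A_8`
    obtain ⟨K, iF, iT, hK, ⟨e⟩⟩ := h
    obtain ⟨e'⟩ := S0256.result hK
    rcases seven_alt p hC (by norm_num) (e.trans e') with h | ⟨-, h2⟩
    · exact Or.inl h
    · subst h2
      exact Or.inr (Or.inr (Or.inl (Or.inl ⟨K, inferInstance, inferInstance,
        charP_of_card Nat.prime_two one_ne_zero (by rw [hK]; norm_num), 4, by norm_num, fun h => by omega, ⟨e⟩⟩)))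
  · -- `U_3(3)`
    obtain ⟨K, iF, iT, hK, ⟨e⟩⟩ := h
    have hK9 : Fintype.card K = 9 := by rw [hK]; norm_num
    by_cases h3 : p = 3
    · subst h3
      right; right; left
      exact Or.inr (Or.inr (Or.inl ⟨K, iF, iT, charP_of_card Nat.prime_three two_ne_zero hK, 3, 3, hK, le_refl _, by norm_num,
        ⟨e⟩⟩))
    · rcases seven_u33 p hC hK9 h3 e with h | h
      · exact Or.inl h
      · exact Or.inr (Or.inl h)
  · omega
  · -- `U_4(2)`
    obtain ⟨K, iF, iT, hK, ⟨e⟩⟩ := h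
    obtain ⟨e'⟩ := S0822.result (F := K) (K := ZMod 3) (by rw [hK]; norm_num) (by simp)
    by_cases h3 : p = 3
    · subst h3
      right; right; left
      exact Or.inr (Or.inl ⟨ZMod 3, inferInstance, inferInstance, inferInstance, 2, le_refl _, fun _ => by simp,
          ⟨e.trans e'⟩⟩)
    · exact (seven_s43 p hC (by simp) h3 (e.trans e')).elim
  · omega
  · -- `PSp_4(3)`
    obtain ⟨K, iF, iT, hK, ⟨e⟩⟩ := h
    by_cases h3 : p = 3
    · subst h3
      right; right; left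
      exact Or.inr (Or.inl ⟨K, iF, iT, charP_of_card Nat.prime_three one_ne_zero (by rw [hK]; norm_num), 2, le_refl _,
        fun _ => by omega, ⟨e⟩⟩)
    · exact (seven_s43 p hC hK h3 e).elim
  · omega
  · -- `Sp_6(2)`
    by_cases h2 : p = 2
    · subst h2
      obtain ⟨K, iF, iT, hK, ⟨e⟩⟩ := h
      right; right; left
      exact Or.inr (Or.inl ⟨K, iF, iT, charP_of_card Nat.prime_two one_ne_zero (by rw [hK]; norm_num), 3, by norm_num,
        fun _ => by omega, ⟨e⟩⟩)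
    · exact Or.inr (Or.inr (Or.inr ⟨h2, Or.inl h⟩))
  · by_cases h2 : p = 2
    · subst h2
      obtain ⟨K, iF, iT, hK, ⟨e⟩⟩ := h
      right; right; left
      exact Or.inr (Or.inr (Or.inr (Or.inr (Or.inl ⟨K, iF, iT, charP_of_card Nat.prime_two one_ne_zero (by rw [hK]; norm_num),
        4, by norm_num, ⟨e⟩⟩))))
    · exact Or.inr (Or.inr (Or.inr ⟨h2, Or.inr h⟩))

/-- **All known simple groups.** -/
theorem seven_known₀ (hC : Core P) (hk : IsKnownSimple' (Soc P)) :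
    SD P ∨ U33 p P ∨ IsLieTypeChar p (Soc P) ∨ (p ≠ 2 ∧ (IsS 3 2 (Soc P) ∨ IsOP 4 2 (Soc P))) ∨
      (∃ r, r.Prime ∧ r ≠ p ∧ ExcL r (Soc P) ∧ PR F 7 r (Soc P)) ∨ Lie.IsoTits (Soc P) ∨ IsSporadicGroup (Soc P) := by
  rcases H912.Known.known_split hk (H912.Known.not_primeCyclic hC.nonabelian) with h | ⟨r, hr, h⟩ | h | h
  · obtain ⟨m, hm, ⟨e⟩⟩ := h
    rcases seven_alt p hC hm e with h | ⟨rfl, rfl⟩
    · exact Or.inl h
    · right; right; left
      obtain ⟨e'⟩ := S0256.result (F := ZMod 2) (by simp)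
      exact Or.inl ⟨ZMod 2, inferInstance, inferInstance, inferInstance, 4, by norm_num, fun h => by omega,
        ⟨e.trans e'.symm⟩⟩
  · by_cases hrp : r = p
    · subst hrp
      exact Or.inr (Or.inr (Or.inl h))
    · have hPR := pr_seven hC (MulEquiv.refl _) hr h
      rcases classical_or_exc h with h1 | h1
      · rcases seven_cl p hC hr hrp h1 hPR with h | h | h | h
        · exact Or.inl h
        · exact Or.inr (Or.inl h)
        · exact Or.inr (Or.inr (Or.inl h))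
        · exact Or.inr (Or.inr (Or.inr (Or.inl h)))
      · exact Or.inr (Or.inr (Or.inr (Or.inr (Or.inl ⟨r, hr, hrp, h1, hPR⟩))))
  · exact Or.inr (Or.inr (Or.inr (Or.inr (Or.inr (Or.inl h)))))
  · exact Or.inr (Or.inr (Or.inr (Or.inr (Or.inr (Or.inr h)))))

end Cfsg.Agent.H48.Seven
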