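import Cfsg.Agent.H48.SevenA
import Cfsg.Agent.H48.NatSUEq
import Cfsg.Agent.H905.MdP

/-!
# Dimension seven: assembly (helper48)

`Rest p P` : the inputs on the remaining groups; `seven_lin`, `seven_uni` : the linear and the unitary row.
-/

set_option autoImplicit false
set_option linter.unusedSectionVars false

universe u v

namespace Cfsg.Agent.H48.Seven

open Cfsg Cfsg.Geo Matrix Cfsg.Agent.H915.LD Cfsg.Agent.H912.Bd Cfsg.Agent.H912.Five

variable {F : Type u} [Field F]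

/-- The inputs on the remaining groups. -/
structure Rest (p : ℕ) (P : Subgroup (GL (Fin 7) F)) : Prop where
  s62 : p ≠ 2 → IsS 3 2 (Soc P) ∨ IsOP 4 2 (Soc P) → SD P
  exc : ∀ r, r.Prime → r ≠ p → ExcL r (Soc P) → PR F 7 r (Soc P) → SD P
  tits : Lie.IsoTits (Soc P) → SD P
  spor : IsSporadicGroup (Soc P) → SD P
  psl : ∀ (K : Type) (_ : Field K) (_ : Fintype K) (_ : CharP K p) (l : ℕ), l = 2 ∨ l = 3 →
    Nonempty (Soc P ≃* Matrix.ProjectiveSpecialLinearGroup (Fin (l + 1)) K) → SD P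
  psu : ∀ (K : Type) (_ : Field K) (_ : Fintype K) (_ : CharP K p) (N q : ℕ), Fintype.card K = q ^ 2 → 3 ≤ N → N ≤ 6 →
    ¬ (N = 3 ∧ q = 2) → Nonempty (Soc P ≃* PSU N K q) → SD P
  odd : ∀ (K : Type) (_ : Field K) (_ : Fintype K) (_ : CharP K p), Odd (Fintype.card K) →
    Nonempty (Soc P ≃* POmega K (quadFormOdd 3 K)) → SD P
  minus : ∀ (K : Type) (_ : Field K) (_ : Fintype K) (_ : CharP K p) (a b : K),
    (∀ z₁ z₂ : K, z₁ ^ 2 + a * z₁ * z₂ + b * z₂ ^ 2 = 0 → z₁ = 0 ∧ z₂ = 0) →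
    Nonempty (Soc P ≃* POmega K (quadFormMinus 3 K a b)) → SD P
  g2 : ∀ (K : Type) (_ : Field K) (_ : Fintype K) (_ : CharP K p), 3 ≤ Fintype.card K →
    Nonempty (Soc P ≃* Lie.chevG2.group K) → SD P
  d4 : ∀ (K : Type) (_ : Field K) (_ : Fintype K) (_ : CharP K p) (q : ℕ), IsPrimePow q → Fintype.card K = q ^ 3 →
    Nonempty (Soc P ≃* Lie.twistedD4 K q) → SD P

variable [Finite F] {P : Subgroup (GL (Fin 7) F)} (p : ℕ) [hp : Fact p.Prime] [CharP F p]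

/-- `PSU_N(q)` in the defining characteristic -/
def UC (p : ℕ) (P : Subgroup (GL (Fin 7) F)) : Prop :=
  ∃ (K : Type) (_ : Field K) (_ : Fintype K) (_ : CharP K p) (N q : ℕ), Fintype.card K = q ^ 2 ∧ 7 ≤ N ∧
    Nonempty (Soc P ≃* PSU N K q)

/-- **Defining characteristic.** -/
theorem seven_dc (hC : Core P) (h : IsLieTypeChar p (Soc P)) (R : Rest p P) :
    SD P ∨ P = specialLinear (Fin 7) F ∨ UC p P := by
  haveI : Nonempty (Fin 7) := ⟨0⟩
  haveI := hC.simple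
  have h12 := H905.Md.small_dc (p := p) hC.absIrred.1 hC.perfect h (by rw [Fintype.card_fin]; norm_num)
  rw [Fintype.card_fin] at h12
  rcases h12 with h | h | h | h | h | h | h | h | h | h | h
  · obtain ⟨K, i1, i2, i3, l, hl, h4, ⟨Φ⟩⟩ := h
    rcases (show l = 1 ∨ (l = 2 ∨ l = 3) ∨ 4 ≤ l by omega) with rfl | hl2 | hl2
    · exact Or.inl fun g hg => H905.Md.psl_two p hC.absIrred hC.perfect (h4 rfl) Φ hg
    · exact Or.inl (R.psl K i1 i2 i3 l hl2 ⟨Φ⟩)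
    · right; left
      have h5 := H905.Md.psl_dim p hC.absIrred hC.perfect hl h4 Φ (by omega) (by
        rw [Fintype.card_fin]
        left
        have h6 : (4 + 1).choose 2 ≤ (l + 1).choose 2 := Nat.choose_le_choose 2 (by omega)
        have h7 : (4 + 1).choose 2 = 10 := by decide
        omega)
      rw [Fintype.card_fin] at h5
      exact (H905.Md.psl_eq p hC.absIrred hC.perfect hl h4 Φ hC.no_subfield h5).2
  · obtain ⟨K, i1, i2, i3, m, hm, hm2, h3, ⟨Φ⟩⟩ := h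
    refine Or.inl fun g hg => (H905.Md.psp_both p hC.absIrred hC.perfect (by omega) ?_ Φ hg).2
    rw [Nat.card_eq_fintype_card]
    rcases (show m = 2 ∨ 3 ≤ m by omega) with h | h
    · exact Or.inr (Or.inl ⟨h, h3 h⟩)
    · exact Or.inl h
  · obtain ⟨K, i1, i2, i3, N, q, hK, hN, hN5, h32, ⟨Φ⟩⟩ := h
    rcases (show N ≤ 6 ∨ 7 ≤ N by omega) with h | h
    · exact Or.inl (R.psu K i1 i2 i3 N q hK hN h h32 ⟨Φ⟩)
    · exact Or.inr (Or.inr ⟨K, i1, i2, i3, N, q, hK, h, ⟨Φ⟩⟩)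
  · obtain ⟨h1, K, i1, i2, m, hm, hK, ⟨Φ⟩⟩ := h
    subst h1
    exact Or.inl fun g hg => (H905.Md.sz_both hC.absIrred hC.perfect hm hK Φ hg).2
  · obtain ⟨h1, K, i1, i2, m, hm, hK, ⟨Φ⟩⟩ := h
    subst h1
    exact Or.inl fun g hg => (H905.Md.ree_both hC.absIrred hC.perfect hm hK Φ hg).2
  · obtain ⟨K, i1, i2, i3, m, hm, h4, hodd, e⟩ := h
    obtain rfl : m = 3 := by omega
    exact Or.inl (R.odd K i1 i2 i3 hodd e)
  · obtain ⟨K, i1, i2, i3, m, hm, h4, -⟩ := h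
    omega
  · obtain ⟨K, i1, i2, i3, m, a, b, hm, h4, hab, e⟩ := h
    obtain rfl : m = 4 := by omega
    exact Or.inl (R.minus K i1 i2 i3 a b hab e)
  · obtain ⟨-, K, i1, i2, i3, h3, e⟩ := h
    exact Or.inl (R.g2 K i1 i2 i3 h3 e)
  · obtain ⟨-, K, i1, i2, i3, q, hq, hK, e⟩ := h
    exact Or.inl (R.d4 K i1 i2 i3 q hq hK e)
  · omega

/-- **All groups.** -/
theorem seven_main (hC : Core P) (hk : IsKnownSimple' (Soc P)) (R : Rest p P) (hsd : ¬ SD P) :
    U33 p P ∨ P = specialLinear (Fin 7) F ∨ UC p P := by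
  rcases seven_known₀ p hC hk with h | h | h | ⟨h2, h⟩ | ⟨r, hr, hrp, h, h'⟩ | h | h
  · exact absurd h hsd
  · exact Or.inl h
  · rcases seven_dc p hC h R with h | h
    · exact absurd h hsd
    · exact Or.inr h
  · exact absurd (R.s62 h2 h) hsd
  · exact absurd (R.exc r hr hrp h h') hsd
  · exact absurd (R.tits h) hsd
  · exact absurd (R.spor h) hsd

theorem u33_concl (h : IsU 3 3 (Soc P)) : ∃ (K : Type) (_ : Field K) (_ : Fintype K), Fintype.card K = 9 ∧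
    Nonempty ((P ⧸ (Cfsg.Geo.scalars (Fin 7) F).subgroupOf P) ≃* Cfsg.PSU 3 K 3) := by
  obtain ⟨K, i1, i2, hK, e⟩ := h
  exact ⟨K, i1, i2, by rw [hK]; norm_num, e⟩

theorem odd_mod (h3 : p ≠ 3) (h2 : p ≠ 2) : p % 4 = 1 ∨ p % 4 = 3 := by
  have h := hp.out.eq_two_or_odd
  omega

end Cfsg.Agent.H48.Seven

namespace Cfsg.Agent.H48.Seven

open Cfsg Cfsg.Geo Matrix Cfsg.Agent.H915.LD Cfsg.Agent.H912.Bd Cfsg.Agent.H912.Five

variable {F : Type u} [Field F] [Fintype F]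

/-- **The linear row**, `S5809`. -/
theorem seven_lin (hk : ∀ P : Subgroup (GL (Fin 7) F), Core P → IsKnownSimple' (Soc P))
    (R : ∀ (p : ℕ) (P : Subgroup (GL (Fin 7) F)), p.Prime → CharP F p → Core P → Rest p P)
    (H : Subgroup (Matrix.GeneralLinearGroup (Fin 7) F))
    (hH : Cfsg.Geo.IsMaximalIn (Cfsg.Geo.specialLinear (Fin 7) F) H) (hS : Cfsg.Geo.InLinearResidualClass H) :
    ∃ (P : Subgroup (Matrix.GeneralLinearGroup (Fin 7) F)) (p : ℕ), Cfsg.Geo.IsResidualCore H P ∧ p.Prime ∧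
      Fintype.card F = p ∧ p % 4 = 1 ∧ (∃ (K : Type) (_ : Field K) (_ : Fintype K), Fintype.card K = 9 ∧
        Nonempty ((P ⧸ (Cfsg.Geo.scalars (Fin 7) F).subgroupOf P) ≃* Cfsg.PSU 3 K 3)) := by
  obtain ⟨p, hpF⟩ := CharP.exists F
  have hp : Fact p.Prime := ⟨CharP.char_is_prime F p⟩
  obtain ⟨P, hP, hC, hsd, hcj⟩ := linear_core hS
  rcases seven_main p hC (hk P hC) (R p P hp.out hpF hC) hsd with ⟨h, h3, h2, hfr, hc⟩ | h | h
  · rcases odd_mod p h3 h2 with h4 | h4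
    · exact ⟨P, p, hP, hp.out, hC.card_eq p (hfr h4), h4, u33_concl h⟩
    · exfalso
      have h5 := hc h4
      refine hcj p hp hpF 1 ?_
      rwa [pow_one]
  · exact (hH.1.not_ge (by rw [← h]; exact hP.le)).elim
  · exfalso
    obtain ⟨K, i1, i2, i3, N, q, hK, hN, ⟨e⟩⟩ := h
    have h5 := NatSU.psu_cj hC p hK (by omega) (by omega) e
    obtain ⟨p', b, hp', hch, hqb, hb⟩ := LieClassical.HermBasic.exists_prime_pow hK
    obtain rfl : p' = p := CharP.eq K hch ‹_›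
    rw [hqb] at h5
    exact hcj p' hp hpF b h5

/-- **The unitary row**, `S5812`. -/
theorem seven_uni (hk : ∀ P : Subgroup (GL (Fin 7) F), Core P → IsKnownSimple' (Soc P))
    (R : ∀ (p : ℕ) (P : Subgroup (GL (Fin 7) F)), p.Prime → CharP F p → Core P → Rest p P)
    (q : ℕ) (hF : Fintype.card F = q ^ 2) (H : Subgroup (Matrix.GeneralLinearGroup (Fin 7) F))
    (hH : Cfsg.Geo.IsMaximalIn (Cfsg.GU 7 F q ⊓ Cfsg.Geo.specialLinear (Fin 7) F) H)
    (hS : Cfsg.Geo.InUnitaryResidualClass H) :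
    ∃ P : Subgroup (Matrix.GeneralLinearGroup (Fin 7) F), Cfsg.Geo.IsResidualCore H P ∧ q.Prime ∧ q % 4 = 3 ∧ q ≠ 3 ∧
      (∃ (K : Type) (_ : Field K) (_ : Fintype K), Fintype.card K = 9 ∧
        Nonempty ((P ⧸ (Cfsg.Geo.scalars (Fin 7) F).subgroupOf P) ≃* Cfsg.PSU 3 K 3)) := by
  obtain ⟨p, hpF⟩ := CharP.exists F
  have hp : Fact p.Prime := ⟨CharP.char_is_prime F p⟩
  obtain ⟨P, hP, hC, hsd⟩ := unitary_core hS
  rcases seven_main p hC (hk P hC) (R p P hp.out hpF hC) hsd with ⟨h, h3, h2, hfr, hc⟩ | h | h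
  · rcases odd_mod p h3 h2 with h4 | h4
    · exact (not_fr_of_card hC p hF (hfr h4)).elim
    · have h5 := q_eq_of_cj hC p hF (hc h4)
      subst h5
      exact ⟨P, hP, hp.out, h4, h3, u33_concl h⟩
  · refine (hH.1.not_ge ?_).elim
    refine inf_le_right.trans ?_
    rw [← h]
    exact hP.le
  · exfalso
    obtain ⟨K, i1, i2, i3, N, q₀, hK, hN, ⟨e⟩⟩ := h
    have hPG : P ≤ GU 7 F q := (hP.le.trans hH.1.le).trans inf_le_left
    have h5 := (NatSU.psu_le hC p hF hPG hK (by omega) (by omega) e).2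
    obtain rfl : N = 7 := by omega
    have h6 := (NatSU.psu_eq hC p hF hPG hK (by omega) (by omega) e rfl).2
    refine hH.1.not_ge ?_
    rw [← h6]
    exact hP.le

end Cfsg.Agent.H48.Seven
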