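import Cfsg.Agent.H203.LSSz
import Cfsg.Agent.H915.LD
import Cfsg.Agent.S2112
import Cfsg.Agent.H912.MultChar

/-!
# `Sz(q)` in dimension `q - 1` and characteristic `≠ 2` (helper48)

* `trivial_of_card` : a module of dimension `q - 1` over a group `U.T`, `U` of type `q^{1+1}`;
* **`sz8_false`** : no core with simple group `Sz(8)` in dimension 7, characteristic `≠ 2`.
-/

set_option autoImplicit false
set_option linter.unusedSectionVars false

universe u v w

namespace Cfsg.Agent.H48.SzSeven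

open Cfsg

/-! ### the abstract argument -/

section abs

variable {k : Type*} [Field k] {V : Type*} [AddCommGroup V] [Module k V] {G : Type*} [Group G]
  (ρ : G →* (V →ₗ[k] V)) {K : Type*} [Field K] [Finite K]

theorem ap_mul (g h : G) (v : V) : ρ (g * h) v = ρ g (ρ h v) := by rw [map_mul]; rfl

theorem ap_one (v : V) : ρ 1 v = v := by rw [map_one]; rfl

theorem ap_inj (g : G) {v v' : V} (h : ρ g v = ρ g v') : v = v' := by
  have h1 : ρ g⁻¹ (ρ g v) = ρ g⁻¹ (ρ g v') := by rw [h]
  rwa [← ap_mul, ← ap_mul, inv_mul_cancel, ap_one, ap_one] at h1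

/-- a common eigenvector of commuting involutions -/
theorem exists_sign {z : K → G} (hz : ∀ x y, z (x + y) = z x * z y) (h2 : ∀ x : K, x + x = 0)
    {b₁ : K} (hb₁ : ρ (z b₁) ≠ 1) (S : Finset K) :
    ∃ v : V, v ≠ 0 ∧ ρ (z b₁) v = -v ∧ ∀ b ∈ S, ρ (z b) v = v ∨ ρ (z b) v = -v := by
  classical
  have hz0 : z 0 = 1 := by
    have h := hz 0 0
    rw [add_zero] at h
    exact (mul_eq_left.1 h.symm)
  have hsq : ∀ (x : K) (v : V), ρ (z x) (ρ (z x) v) = v := fun x v => by
    rw [← ap_mul, ← hz, h2, hz0, ap_one]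
  have hcomm : ∀ (x y : K) (v : V), ρ (z x) (ρ (z y) v) = ρ (z y) (ρ (z x) v) := fun x y v => by
    rw [← ap_mul, ← ap_mul, ← hz, ← hz, add_comm]
  induction S using Finset.induction_on with
  | empty =>
    obtain ⟨w, hw⟩ : ∃ w, ρ (z b₁) w ≠ w := by
      by_contra hcon
      push Not at hcon
      exact hb₁ (LinearMap.ext hcon)
    refine ⟨w - ρ (z b₁) w, sub_ne_zero.2 (Ne.symm hw), ?_, fun b hb => absurd hb (Finset.notMem_empty b)⟩
    rw [map_sub, hsq, neg_sub]
  | insert b S hb ih =>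
    obtain ⟨v, h0, h1, h3⟩ := ih
    by_cases h : v + ρ (z b) v = 0
    · refine ⟨v, h0, h1, fun c hc => ?_⟩
      rcases Finset.mem_insert.1 hc with rfl | hc
      · right
        rw [eq_neg_iff_add_eq_zero, add_comm]
        exact h
      · exact h3 c hc
    · refine ⟨v + ρ (z b) v, h, ?_, fun c hc => ?_⟩
      · rw [map_add, hcomm, h1, map_neg, neg_add]
      · rcases Finset.mem_insert.1 hc with rfl | hc
        · left
          rw [map_add, hsq, add_comm]
        · rcases h3 c hc with h4 | h4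
          · left
            rw [map_add, hcomm, h4]
          · right
            rw [map_add, hcomm, h4, map_neg, neg_add]

/-- **A module of dimension `q - 1`.** -/
theorem trivial_of_card [FiniteDimensional k V] (hk : (2 : k) ≠ 0) {z : K → G}
    (hz : ∀ x y, z (x + y) = z x * z y) (h2 : ∀ x : K, x + x = 0) {d : Kˣ → G} {θ : K →+* K}
    (hd : ∀ (c : Kˣ) (b : K), d c * z b = z (θ c * b) * d c) {u : K → G} (hu : ∀ a b, u a * z b = z b * u a)
    {f : K → K → K} (hf : ∀ a a', u a * u a' = z (f a a') * (u a' * u a)) {a₀ a₁ : K} (hf0 : f a₀ a₁ ≠ 0)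
    (hn : Module.finrank k V + 1 = Nat.card K) (b : K) : ρ (z b) = 1 := by
  classical
  have := Fintype.ofFinite K
  by_contra hb₁
  obtain ⟨v, hv0, hv1, hv⟩ := exists_sign ρ hz h2 hb₁ Finset.univ
  have hz0 : z 0 = 1 := by
    have h := hz 0 0
    rw [add_zero] at h
    exact (mul_eq_left.1 h.symm)
  -- the character
  obtain ⟨χ, hχ⟩ : ∃ χ : K → k, ∀ c, ρ (z c) v = χ c • v := by
    have h1 : ∀ c, ∃ x : k, ρ (z c) v = x • v := fun c => by
      rcases hv c (Finset.mem_univ _) with h | h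
      · exact ⟨1, by rw [h, one_smul]⟩
      · exact ⟨-1, by rw [h, neg_one_smul]⟩
    choose χ hχ using h1
    exact ⟨χ, hχ⟩
  have hne : ∀ {x y : k}, x • v = y • v → x = y := fun {x y} h => smul_left_injective k hv0 h
  have hχadd : ∀ x y, χ (x + y) = χ x * χ y := by
    intro x y
    apply hne
    rw [← hχ, hz, ap_mul, hχ y, map_smul, hχ x, smul_smul, mul_comm]
  have hχb : χ b = -1 := hne (by rw [← hχ, hv1, neg_one_smul])
  have hχ0 : χ 0 = 1 := hne (by rw [← hχ, hz0, ap_one, one_smul])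
  have hb0 : b ≠ 0 := by
    rintro rfl
    rw [hχ0] at hχb
    apply hk
    linear_combination hχb
  have hχself : ∀ x, χ x * χ x = 1 := fun x => by rw [← hχadd, h2, hχ0]
  -- the conjugates
  have hθ : Function.Injective θ := θ.injective
  have hθ0 : ∀ c : Kˣ, θ (c : K) ≠ 0 := fun c h => c.ne_zero (hθ (by rw [h, map_zero]))
  have hdz : ∀ (c : Kˣ) (x : K), ρ (z x) (ρ (d c) v) = χ ((θ (c : K))⁻¹ * x) • ρ (d c) v := by
    intro c x
    have h1 : z x * d c = d c * z ((θ (c : K))⁻¹ * x) := by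
      rw [hd, mul_inv_cancel_left₀ (hθ0 c)]
    rw [← ap_mul, h1, ap_mul, hχ, map_smul]
  have hinj : Function.Injective (fun (c : Kˣ) (x : K) => χ ((θ (c : K))⁻¹ * x)) := by
    intro c c' h
    by_contra hcc
    have h1 : (θ (c : K))⁻¹ - (θ (c' : K))⁻¹ ≠ 0 := by
      intro h3
      apply hcc
      apply Units.ext
      exact hθ (inv_injective (sub_eq_zero.1 h3))
    set y := ((θ (c : K))⁻¹ - (θ (c' : K))⁻¹)⁻¹ * b with hy
    have h3 : χ ((θ (c : K))⁻¹ * y) = χ ((θ (c' : K))⁻¹ * y) := congrFun h y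
    have h4 : (θ (c : K))⁻¹ * y = b + (θ (c' : K))⁻¹ * y := by
      have h5 : ((θ (c : K))⁻¹ - (θ (c' : K))⁻¹) * y = b := by rw [hy, mul_inv_cancel_left₀ h1]
      linear_combination h5
    rw [h4, hχadd, hχb] at h3
    have h6 := hχself ((θ (c' : K))⁻¹ * y)
    have h7 : (2 : k) * (χ ((θ (c' : K))⁻¹ * y) * χ ((θ (c' : K))⁻¹ * y)) = 0 := by
      linear_combination -(χ ((θ (c' : K))⁻¹ * y)) * h3
    rw [h6, mul_one] at h7
    exact hk h7
  have hvc0 : ∀ c, ρ (d c) v ≠ 0 := fun c h => hv0 (ap_inj ρ (d c) (by rw [h, map_zero]))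
  have hli : LinearIndependent k (fun c : Kˣ => ρ (d c) v) :=
    H203.LS.linearIndependent_of_weights (fun x : K => ρ (z x)) _ (fun (c : Kˣ) (x : K) => χ ((θ (c : K))⁻¹ * x))
      hvc0 hdz hinj
  have hcard : Fintype.card Kˣ = Module.finrank k V := by
    rw [Fintype.card_units, ← Nat.card_eq_fintype_card, ← hn, Nat.add_sub_cancel]
  let B := basisOfLinearIndependentOfCardEqFinrank hli hcard
  have hB : ∀ c, B c = ρ (d c) v := fun c => by rw [coe_basisOfLinearIndependentOfCardEqFinrank]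
  -- weight spaces have dimension one
  have hone : ∀ (c : Kˣ) (w : V), (∀ x, ρ (z x) w = χ ((θ (c : K))⁻¹ * x) • w) → ∃ s : k, w = s • ρ (d c) v := by
    intro c w hw
    refine ⟨B.repr w c, ?_⟩
    have h1 : ∀ c' ≠ c, B.repr w c' = 0 := by
      intro c' hc'
      obtain ⟨x, hx⟩ : ∃ x, χ ((θ (c' : K))⁻¹ * x) ≠ χ ((θ (c : K))⁻¹ * x) := by
        by_contra hcon
        push Not at hcon
        exact hc' (hinj (funext hcon))
      have h3 : ρ (z x) w = ∑ c'', (B.repr w c'' * χ ((θ (c'' : K))⁻¹ * x)) • B c'' := by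
        conv_lhs => rw [← B.sum_repr w]
        rw [map_sum]
        refine Finset.sum_congr rfl fun c'' _ => ?_
        rw [map_smul, hB, hdz, smul_smul]
      have h4 : B.repr (ρ (z x) w) c' = B.repr w c' * χ ((θ (c' : K))⁻¹ * x) := by
        rw [h3, B.repr_sum_self]
      rw [hw x, map_smul, Finsupp.smul_apply, smul_eq_mul] at h4
      have h5 : B.repr w c' * (χ ((θ (c' : K))⁻¹ * x) - χ ((θ (c : K))⁻¹ * x)) = 0 := by linear_combination -h4
      exact (mul_eq_zero.1 h5).resolve_right (sub_ne_zero.2 hx)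
    conv_lhs => rw [← B.sum_repr w]
    rw [Finset.sum_eq_single c (fun c' _ h => by rw [h1 c' h, zero_smul])
      (fun h => absurd (Finset.mem_univ _) h), hB]
  have hun : ∀ (c : Kˣ) (a : K), ∃ s : k, ρ (u a) (ρ (d c) v) = s • ρ (d c) v := by
    intro c a
    apply hone
    intro x
    rw [← ap_mul, ← hu, ap_mul, hdz, map_smul]
  -- the commutators act trivially
  have htriv : ∀ c : Kˣ, χ ((θ (c : K))⁻¹ * f a₀ a₁) = 1 := by
    intro c
    obtain ⟨s, hs⟩ := hun c a₀
    obtain ⟨t, ht⟩ := hun c a₁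
    have h1 : ρ (u a₀ * u a₁) (ρ (d c) v) = ρ (u a₁ * u a₀) (ρ (d c) v) := by
      rw [ap_mul, ap_mul, hs, ht, map_smul, map_smul, hs, ht, smul_comm]
    rw [hf, ap_mul] at h1
    set w := ρ (u a₁ * u a₀) (ρ (d c) v) with hw
    have hw' : w = (t * s) • ρ (d c) v := by
      rw [hw, ap_mul, hs, map_smul, ht, smul_smul, mul_comm]
    have hw0 : w ≠ 0 := fun h => hvc0 c (ap_inj ρ (u a₁ * u a₀) (by rw [map_zero]; exact h))
    have h3 : ρ (z (f a₀ a₁)) w = χ ((θ (c : K))⁻¹ * f a₀ a₁) • w := by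
      rw [hw', map_smul, hdz, smul_comm]
    rw [h1] at h3
    have h4 : (1 : k) • w = χ ((θ (c : K))⁻¹ * f a₀ a₁) • w := by rw [one_smul]; exact h3
    exact (smul_left_injective k hw0 h4).symm
  -- contradiction
  obtain ⟨c, hc⟩ := (Finite.injective_iff_surjective.1 hθ) (f a₀ a₁ * b⁻¹)
  have hc0 : c ≠ 0 := by
    rintro rfl
    rw [map_zero] at hc
    exact mul_ne_zero hf0 (inv_ne_zero hb0) hc.symm
  have h1 := htriv (Units.mk0 c hc0)
  rw [Units.val_mk0, hc] at h1
  have h3 : (f a₀ a₁ * b⁻¹)⁻¹ * f a₀ a₁ = b := by field_simp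
  rw [h3, hχb] at h1
  apply hk
  linear_combination -h1

end abs

/-! ### `Sz(8)` -/

section sz

open Cfsg.Geo Matrix Cfsg.Agent.H915.LD Cfsg.Agent.LieRecognition.SzMatrix

variable {ι : Type} [Fintype ι] [DecidableEq ι] {F : Type u} [Field F] [Finite F] {P : Subgroup (GL ι F)}

/-- the linear maps -/
def toLin : GL ι F →* ((ι → F) →ₗ[F] (ι → F)) :=
  (Matrix.toLinAlgEquiv' : Matrix ι ι F ≃ₐ[F] _).toAlgHom.toMonoidHom.comp (Units.coeHom (Matrix ι ι F))

theorem toLin_injective : Function.Injective (toLin : GL ι F → _) := by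
  intro g h hgh
  exact Units.ext ((Matrix.toLinAlgEquiv' (R := F) (n := ι)).injective hgh)

/-- **`Sz(8)` has no representation of degree 7 in characteristic `≠ 2`.** -/
theorem sz8_rep {K : Type v} [Field K] [Fintype K] (hK : Fintype.card K = 8) (h2 : (2 : F) ≠ 0)
    (hn : Fintype.card ι = 7) (f : ↥(Cfsg.Lie.Sz K (2 ^ (1 + 1))) →* GL ι F) (hf : Function.Injective f) : False := by
  have hK' : Fintype.card K = 2 ^ (2 * 1 + 1) := hK
  have H := good hK'
  have : CharP K 2 := charP_two hK'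
  obtain ⟨a, ha⟩ : ∃ a : K, a * theta hK' 1 + 1 * theta hK' a ≠ 0 := by
    by_contra hcon
    push Not at hcon
    have h1 : ∀ a : K, theta hK' a = a := by
      intro a
      have h3 := hcon a
      rw [map_one, mul_one, one_mul] at h3
      rw [← sub_eq_zero, CharTwo.sub_eq_add, add_comm]
      exact h3
    have h3 : ∀ a : K, a ^ 2 = a := by
      intro a
      have h4 := H.sq a
      rw [h1, h1] at h4
      exact h4.symm
    have h4 : Fintype.card K ≤ 2 := by
      classical
      have h5 : (Finset.univ : Finset K) ⊆ {0, 1} := by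
        intro a _
        have h6 := h3 a
        have h7 : a * (a - 1) = 0 := by linear_combination h6
        rcases mul_eq_zero.1 h7 with h | h
        · simp [h]
        · simp [sub_eq_zero.1 h]
      exact (Finset.card_le_card h5).trans (Finset.card_le_two)
    omega
  have key := trivial_of_card (toLin.comp f) h2 (z := fun b => H.u 0 b) (d := fun c => H.d c) (θ := theta hK')
    (u := fun a => H.u a 0) (f := fun a a' => a * theta hK' a' + a' * theta hK' a)
    (fun x y => by
      change H.u 0 (x + y) = H.u 0 x * H.u 0 y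
      rw [H.u_mul]; congr 1 <;> simp)
    (fun x => CharTwo.add_self_eq_zero x)
    (fun c b => by
      change H.d c * H.u 0 b = H.u 0 (theta hK' c * b) * H.d c
      rw [H.d_mul_u]; congr 2 <;> ring)
    (fun a b => by
      change H.u a 0 * H.u 0 b = H.u 0 b * H.u a 0
      rw [H.u_mul, H.u_mul]; congr 1 <;> simp)
    (fun a a' => by
      change H.u a 0 * H.u a' 0 = H.u 0 (a * theta hK' a' + a' * theta hK' a) * (H.u a' 0 * H.u a 0)
      rw [H.u_mul, H.u_mul, H.u_mul]
      congr 1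
      · ring
      · have h := CharTwo.add_self_eq_zero (a' * theta hK' a)
        linear_combination -h)
    (a₀ := a) (a₁ := 1) (by simpa using ha)
    (by rw [Module.finrank_fintype_fun_eq_card, hn, Nat.card_eq_fintype_card, hK]) 1
  have h3 : f (H.u 0 1) = 1 := toLin_injective (by rw [map_one]; exact key)
  have h4 : H.u 0 1 = 1 := hf (by rw [h3, map_one])
  rw [← H.u_zero] at h4
  exact one_ne_zero (H.u_inj h4).2

/-- **No core with simple group `Sz(8)` in dimension 7, characteristic `≠ 2`.** -/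
theorem sz8_false (hC : Core P) (h2 : (2 : F) ≠ 0) (hn : Fintype.card ι = 7) (h : H912.Bd.IsSz8 (Soc P)) : False := by
  obtain ⟨K, iK, iKf, hK, ⟨e⟩⟩ := h
  obtain ⟨f, -⟩ := hC.equiv_of_coprime e (S2112.result hK) (by
    rw [hn]
    simp
    decide)
  exact sz8_rep hK h2 hn (P.subtype.comp f.symm.toMonoidHom) (P.subtype_injective.comp f.symm.injective)

end sz

end Cfsg.Agent.H48.SzSeven
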