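import Cfsg.Agent.H48.SevenB
import Cfsg.Agent.H48.DsChev
import Cfsg.Agent.H48.DsO8m
import Cfsg.Agent.H48.SzSeven
import Cfsg.Agent.H936.List12
import Cfsg.Agent.H916.SpSixK
import Cfsg.Agent.H916.OmD
import Cfsg.Agent.H887.DS.Low

/-!
# Dimension seven: the inputs of `SevenB`, up to the sporadic groups, `PSU_N` and `Ω₇` in their own characteristic
(helper48)
-/

set_option autoImplicit false
set_option linter.unusedSectionVars false

universe u v

namespace Cfsg.Agent.H48.Seven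

open Cfsg Cfsg.Geo Matrix Cfsg.Agent.H915.LD Cfsg.Agent.H912.Bd Cfsg.Agent.H912.Five

variable {F : Type u} [Field F] [Finite F] {P : Subgroup (GL (Fin 7) F)} (p : ℕ) [hp : Fact p.Prime] [CharP F p]

/-- `Sp₆(2)`, `Ω₈⁺(2)` -/
theorem s62_sd (hC : Core P) (h2 : p ≠ 2) (h : IsS 3 2 (Soc P) ∨ IsOP 4 2 (Soc P)) : SD P := by
  have h2' : (2 : F) ≠ 0 := by exact_mod_cast cast_ne (F := F) p Nat.prime_two (Ne.symm h2)
  have key : ∀ (K : Type) [Field K] [Fintype K], Fintype.card K = 2 → ∀ x : K, x = 0 ∨ x = 1 := by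
    intro K _ _ hK x
    by_cases hx : x = 0
    · exact Or.inl hx
    · right
      have h3 := FiniteField.pow_card_sub_one_eq_one x hx
      rwa [hK, pow_one] at h3
  rcases h with ⟨K, iK, iKf, hK, ⟨e⟩⟩ | ⟨K, iK, iKf, hK, ⟨e⟩⟩
  · exact (H916.SpSix.spSix_seven (key K hK) hC p e h2' (by rw [Fintype.card_fin])).1
  · have h3 := H916.Om.omega_dim (key K hK) hC e h2' (by rw [Fintype.card_fin]; norm_num)
    rw [Fintype.card_fin] at h3
    omega

/-- exceptional groups in cross characteristic -/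
theorem exc_false (hC : Core P) {r : ℕ} (hr : r.Prime) (hrp : r ≠ p) (h : ExcL r (Soc P)) (hPR : PR F 7 r (Soc P)) :
    False := by
  have hs : IsSimpleGroup (Soc P) := hC.simple
  have hrF : (r : F) ≠ 0 := cast_ne p hr hrp
  rcases exc_cross hr hrF P hC.perfect (MulEquiv.refl _) (by norm_num) h with ⟨rfl, -, h1⟩ | ⟨rfl, h1⟩ | ⟨rfl, h1⟩ |
    ⟨rfl, -, h1⟩
  · obtain ⟨K, iK, iKf, hK, ⟨e⟩⟩ := h1
    have hch : CharP K 3 := H936.List12.charP_of_dvd Nat.prime_three (by rw [hK])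
    have h2 : Bd F 3 (Nat.card K ^ 2 - 1) (Cfsg.Lie.chevG2.group K) := @bd_g2 K iK _ F _ 3 Nat.prime_three hch hrF
    have := h2.congr e 7 hPR
    rw [Nat.card_eq_fintype_card, hK] at this
    omega
  · obtain ⟨K, iK, iKf, hK, ⟨e⟩⟩ := h1
    have hch : CharP K 2 := H936.List12.charP_of_dvd Nat.prime_two (by rw [hK]; norm_num)
    have h2 : Bd F 2 (Nat.card K ^ 2 - 1) (Cfsg.Lie.chevG2.group K) := @bd_g2 K iK _ F _ 2 Nat.prime_two hch hrF
    have := h2.congr e 7 hPR
    rw [Nat.card_eq_fintype_card, hK] at this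
    omega
  · obtain ⟨K, iK, iKf, hK, e⟩ := h1
    have := H936.List12.le_of_ls' hC hrF (H936.F42.ls_f4_two hK) e
    omega
  · exact SzSeven.sz8_false hC (by exact_mod_cast hrF) (by rw [Fintype.card_fin]) h1

include p hp in
/-- the Tits group -/
theorem tits_false (hC : Core P) (h : Lie.IsoTits (Soc P)) : False := by
  by_cases hp5 : p = 5
  · subst hp5
    have := H936.List12.le_of_ls' hC (cast_ne 5 Nat.prime_two (by norm_num)) H95.LSx.Tits.ls h
    omega
  · have h5 : Nat.Prime 5 := by norm_num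
    have := H936.List12.le_of_orb hC h5 (cast_ne p h5 (fun h => hp5 h.symm)) H921.Spor.Tits.Tits_five
      (NoR.of_one Cfsg.Agent.S2115.result) h
    omega

/-- The open inputs. -/
structure Rest2 (p : ℕ) (P : Subgroup (GL (Fin 7) F)) : Prop where
  spor : IsSporadicGroup (Soc P) → SD P
  psu : ∀ (K : Type) (_ : Field K) (_ : Fintype K) (_ : CharP K p) (N q : ℕ), Fintype.card K = q ^ 2 → 3 ≤ N → N ≤ 6 →
    ¬ (N = 3 ∧ q = 2) → Nonempty (Soc P ≃* PSU N K q) → SD P
  odd : ∀ (K : Type) (_ : Field K) (_ : Fintype K) (_ : CharP K p), Odd (Fintype.card K) →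
    Nonempty (Soc P ≃* POmega K (quadFormOdd 3 K)) → SD P

theorem Rest2.rest (hC : Core P) (R : Rest2 p P) : Rest p P where
  s62 := s62_sd p hC
  exc r hr hrp h hPR := (exc_false p hC hr hrp h hPR).elim
  tits h := (tits_false p hC h).elim
  spor := R.spor
  psl K _ _ _ l hl e := by
    obtain ⟨e⟩ := e
    exact (H887.DS.sd_of_psl p hC (by omega) (by rw [Fintype.card_fin]; omega)
      (by rw [Fintype.card_fin]; exact Or.inl rfl) e).1
  psu := R.psu
  odd := R.odd
  minus K _ _ _ a b hab e := by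
    obtain ⟨e⟩ := e
    exact DsO8m.o8m_sd_odd p hC (by rw [Fintype.card_fin]; decide) hab e
  g2 K _ _ _ h3 e := by
    obtain ⟨e⟩ := e
    exact DsChev.g2_sd p hC h3 e
  d4 K _ _ _ q hq hK e := by
    obtain ⟨e⟩ := e
    exact DsChev.d4_sd p hC hq hK e

end Cfsg.Agent.H48.Seven
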