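import Cfsg.Agent.H48.SporSeven
import Cfsg.Agent.H218.SdFin
import Cfsg.Agent.H929.UThreeMain

/-!
# Dimension seven: the final assembly (helper48)

`Rest3 p P` : the inputs on `PSU_4`, `PSU_5`, `PSU_6` in their own characteristic, `M₁₂` in characteristic 3 and `Fi₂₂` in
characteristic 2.
-/

set_option autoImplicit false
set_option linter.unusedSectionVars false

universe u v

namespace Cfsg.Agent.H48.Seven

open Cfsg Cfsg.Geo Matrix Cfsg.Agent.H915.LD Cfsg.Agent.H912.Bd Cfsg.Agent.H912.Five

variable {F : Type u} [Field F] [Finite F] {P : Subgroup (GL (Fin 7) F)} (p : ℕ) [hp : Fact p.Prime] [CharP F p]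

/-- The open inputs. -/
structure Rest3 (p : ℕ) (P : Subgroup (GL (Fin 7) F)) : Prop where
  spor : SporRest p P
  psu : ∀ (K : Type) (_ : Field K) (_ : Fintype K) (_ : CharP K p) (N q : ℕ), Fintype.card K = q ^ 2 → 4 ≤ N → N ≤ 6 →
    Nonempty (Soc P ≃* PSU N K q) → SD P

theorem two_le_of_sq {K : Type} [Field K] [Fintype K] {q : ℕ} (hK : Fintype.card K = q ^ 2) : 2 ≤ q := by
  have h1 := Fintype.one_lt_card (α := K)
  rw [hK] at h1
  by_contra hcon
  have h2 : q ≤ 1 := by omega
  have h3 : q ^ 2 ≤ 1 := by nlinarith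
  omega

theorem Rest3.rest (hC : Core P) (R : Rest3 p P) : Rest p P :=
  Rest2.rest p hC
    { spor := fun h => spor_seven p hC h R.spor
      psu := fun K _ _ _ N q hK h3 h6 h32 e => by
        rcases (show N = 3 ∨ 4 ≤ N by omega) with rfl | h4
        · obtain ⟨e⟩ := e
          have hq := two_le_of_sq hK
          rcases H929.U3.core_psu3 p hC (by omega) hK e (by rw [Fintype.card_fin]; norm_num) with h | ⟨-, h⟩
          · exact h
          · rw [Fintype.card_fin] at h
            omega
        · exact R.psu K inferInstance inferInstance inferInstance N q hK h4 h6 e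
      odd := fun K _ _ _ hodd e => by
        obtain ⟨e⟩ := e
        refine H218.SdFin.sd_PO_odd (p := p) hC ?_ le_rfl (by rw [Fintype.card_fin]; norm_num)
          (by rw [Fintype.card_fin]; norm_num) e
        intro h2
        have h3 : CharP K 2 := CharTwo.of_one_ne_zero_of_two_eq_zero one_ne_zero h2
        have h4 := FiniteField.cast_card_eq_zero K
        rw [CharP.cast_eq_zero_iff K 2] at h4
        exact (Nat.not_even_iff_odd.2 hodd) (even_iff_two_dvd.2 h4) }

end Cfsg.Agent.H48.Seven
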