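import Cfsg.Agent.H48.SevenC
import Cfsg.Agent.H921.SporCore
import Cfsg.Agent.H921.SporFi24
import Cfsg.Agent.H1.TJ1
import Cfsg.Agent.H1.TJ2
import Cfsg.Agent.H6.M11.Main11
import Cfsg.Agent.H489.DegHN
import Cfsg.Agent.H489.DegLy
import Cfsg.Agent.H489.DegTh
import Cfsg.Agent.H489.DegON
import Cfsg.Agent.H806.LsFiTwo

/-!
# Sporadic groups in dimension seven (helper48)

`spor_seven` : `SD P` or one of the groups with a small orbit table.
-/

set_option autoImplicit false
set_option linter.unusedSectionVars false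

universe u v

namespace Cfsg.Agent.H48.Seven

open Cfsg Cfsg.Geo Matrix Cfsg.Agent.H915.LD Cfsg.Agent.H921.Spor

variable {F : Type u} [Field F] [Finite F] {P : Subgroup (GL (Fin 7) F)}

/-- two primes different from 7 with orbits of length at least 8 -/
theorem no_pr2 (hC : Core P) {T : Type v} [Group T] (e : Soc P ≃* T) (h : Pr2 8 [7] T) : False := by
  have h1 := core_le hC e h (fun r hr hb hd => by
    rcases (Nat.dvd_prime (by norm_num : Nat.Prime 7)).1 hd with h | h
    · exact hr.one_lt.ne' h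
    · exact hb (by simp [h]))
  omega

/-- one prime different from 7 and from the characteristic -/
theorem no_orb (p : ℕ) [hp : Fact p.Prime] [CharP F p] (hC : Core P) {T : Type v} [Group T] (e : Soc P ≃* T) {r m : ℕ} (h : Orb r m T) (hr : r.Prime)
    (hrp : r ≠ p) (h7 : r ≠ 7) (hm : 8 ≤ m) : False := by
  have hrF : (r : F) ≠ 0 := cast_ne p hr hrp
  have h1 := hC.pr e (core_coprime hC hr (by
    rw [Fintype.card_fin]
    intro hd
    rcases (Nat.dvd_prime (by norm_num : Nat.Prime 7)).1 hd with h | h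
    · exact hr.one_lt.ne' h
    · exact h7 h))
  have h2 := h.bd (F := F) hr hrF 7 h1
  omega

/-- The open sporadic groups. -/
structure SporRest (p : ℕ) (P : Subgroup (GL (Fin 7) F)) : Prop where
  m12 : p = 3 → Spor.IsoM12 (Soc P) → SD P
  fi22 : p = 2 → Spor.IsoFi22 (Soc P) → SD P

/-- a lower bound for all kernels, characteristic `≠ 2` -/
theorem no_ls (p : ℕ) [hp : Fact p.Prime] [CharP F p] (hC : Core P) {T : Type v} [Group T] (e : Soc P ≃* T)
    (hp2 : p ≠ 2) (h : H203.LS.LS.{v, u, u} 2 28 T) : False := by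
  have := H936.List12.le_of_ls' hC (cast_ne p Nat.prime_two (Ne.symm hp2)) h ⟨e⟩
  omega

theorem spor_seven (p : ℕ) [hp : Fact p.Prime] [CharP F p] (hC : Core P) (h : IsSporadicGroup (Soc P))
    (R : SporRest p P) : SD P := by
  have hs := hC.simple
  have hnc := core_nc hC
  have nc : ∀ {T' : Type} [Group T'], (Soc P ≃* T') → ∃ a b : T', a * b ≠ b * a := by
    intro T' _ e
    obtain ⟨a, b, hab⟩ := hnc
    refine ⟨e a, e b, fun h => hab (e.injective ?_)⟩
    rw [map_mul, map_mul, h]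
  have sp : ∀ {T' : Type} [Group T'], (Soc P ≃* T') → IsSimpleGroup T' := fun e =>
    (MulEquiv.isSimpleGroup_congr e).1 hs
  have h3 : Nat.Prime 3 := Nat.prime_three
  rcases h with h | h | h | h | h | h | h | h | h | h | h | h | h | h | h | h | h | h | h | h | h | h | h | h | h | h
  · rcases H6.M11.m11 hC p h (by rw [Fintype.card_fin]; norm_num) with h1 | ⟨h1, -⟩ | ⟨h1, -⟩
    · exact h1
    · rw [Fintype.card_fin] at h1; omega
    · rw [Fintype.card_fin] at h1; omega
  · by_cases hp3 : p = 3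
    · exact R.m12 hp3 h
    · obtain ⟨e⟩ := h
      exact (no_orb p hC e (M24.M12_three.orb (by norm_num)) h3 (Ne.symm hp3) (by norm_num) le_rfl).elim
  · obtain ⟨e⟩ := h
    exact (no_pr2 hC e (Pr2.mk' 3 2 M24.M22_three M24.M22_two (by norm_num) (by norm_num) (by norm_num))).elim
  · obtain ⟨e⟩ := h
    exact (no_pr2 hC e (Pr2.mk' 3 23 M24.M23_three (M24.M23_twentythree.orb (by norm_num)) (by norm_num) (by norm_num)
      (by norm_num))).elim
  · obtain ⟨e⟩ := h
    exact (no_pr2 hC e (Pr2.mk' 3 11 M24.M24_three (M24.M24_eleven.orb (by norm_num)) (by norm_num) (by norm_num)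
      (by norm_num))).elim
  · exact H1.TJ1.sd_iso hC h
  · exact H1.TJ2.sd_iso hC h (by rw [Fintype.card_fin]; norm_num)
  · obtain ⟨K, _, _, ω, hF, hω, ⟨e⟩⟩ := h
    have H := Cfsg.Agent.J3.Core.good_of_card hF hω
    exact (no_pr2 hC e (Pr2.mk' 19 17 ((J3.J3_nineteen hF H).orb (by norm_num)) ((J3.J3_seventeen hF H).orb (by norm_num))
      (by norm_num) (by norm_num) (by norm_num))).elim
  · obtain ⟨e⟩ := h
    exact (no_pr2 hC e (Pr2.mk' 3 11 J4.J4_three (J4.J4_eleven.orb (by norm_num)) (by norm_num) (by norm_num)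
      (by norm_num))).elim
  · obtain ⟨e⟩ := h
    exact (no_pr2 hC e (Pr2.mk' 3 23 Co.Co1_three (Co.Co1_twentythree.orb (by norm_num)) (by norm_num) (by norm_num)
      (by norm_num))).elim
  · obtain ⟨e⟩ := h
    exact (no_pr2 hC e (Pr2.mk' 3 2 Co.Co2_three Co.Co2_two (by norm_num) (by norm_num) (by norm_num))).elim
  · obtain ⟨e⟩ := h
    exact (no_pr2 hC e (Pr2.mk' 3 23 Co.Co3_three (Co.Co3_twentythree.orb (by norm_num)) (by norm_num) (by norm_num)
      (by norm_num))).elim
  · obtain ⟨e⟩ := h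
    exact (no_pr2 hC e (Pr2.mk' 3 2 Co.McL_three Co.McL_two (by norm_num) (by norm_num) (by norm_num))).elim
  · obtain ⟨e⟩ := h
    exact (no_pr2 hC e (Pr2.mk' 3 2 Co.HS_three Co.HS_two (by norm_num) (by norm_num) (by norm_num))).elim
  · obtain ⟨e⟩ := h
    exact (no_pr2 hC e (Pr2.mk' 3 11 Suz.Suz_three (Suz.Suz_eleven.orb (by norm_num)) (by norm_num) (by norm_num)
      (by norm_num))).elim
  · obtain ⟨e⟩ := h
    exact (no_pr2 hC e (Pr2.mk' 3 2 He.He_three He.He_two (by norm_num) (by norm_num) (by norm_num))).elim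
  · obtain ⟨e⟩ := h
    exact (no_pr2 hC e (Pr2.mk' 29 13 (Ru.Ru_twentynine.orb (by norm_num)) (Ru.Ru_thirteen.orb (by norm_num))
      (by norm_num) (by norm_num) (by norm_num))).elim
  · obtain ⟨e⟩ := h
    have := H489.Deg.ON.on_le hp.out hC e
    omega
  · obtain ⟨e⟩ := h
    have := H489.Deg.Ly.ly_le hp.out hC e
    omega
  · by_cases hp2 : p = 2
    · exact R.fi22 hp2 h
    · obtain ⟨e⟩ := h
      have := sp e
      exact (no_ls p hC e hp2 (H806.Ls.fi22_ls_two (nc e))).elim
  · by_cases hp3 : p = 3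
    · obtain ⟨e⟩ := h
      have := sp e
      exact (no_ls p hC e (by omega) (H806.Ls.fi23_ls_two (nc e))).elim
    · obtain ⟨e⟩ := h
      exact (no_orb p hC e (Fi.Fi23_three (nc e)) h3 (Ne.symm hp3) (by norm_num) le_rfl).elim
  · obtain ⟨e⟩ := h
    exact (no_pr2 hC e (Pr2.mk' 5 3 Fi24.Fi24_five (Fi.Fi24_three (nc e)) (by norm_num) (by norm_num)
      (by norm_num))).elim
  · obtain ⟨e⟩ := h
    have := H489.Deg.HN.hn_le hp.out hC e
    omega
  · obtain ⟨e⟩ := h
    have := H489.Deg.Th.th_le hp.out hC e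
    omega
  · by_cases hp3 : p = 3
    · obtain ⟨e⟩ := h
      have := sp e
      exact (no_ls p hC e (by omega) (H806.Ls.b_ls_two (nc e))).elim
    · obtain ⟨e⟩ := h
      exact (no_orb p hC e (Fi.B_three (nc e)) h3 (Ne.symm hp3) (by norm_num) le_rfl).elim
  · by_cases hp3 : p = 3
    · obtain ⟨e⟩ := h
      have := sp e
      exact (no_ls p hC e (by omega) (H806.Ls.m_ls_two (nc e))).elim
    · obtain ⟨e⟩ := h
      exact (no_orb p hC e (Fi.M_three (nc e)) h3 (Ne.symm hp3) (by norm_num) le_rfl).elim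

end Cfsg.Agent.H48.Seven
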